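import Cfsg.Agent.Lib.S4069.Basic
import Cfsg.Agent.Lib.Invol.QDClasses
import Cfsg.Agent.Lib.Invol.RankOne
import Cfsg.Agent.Lib.FT.OddOrder
import Cfsg.Agent.Lib.SylLThreeFour.Side

/-!
# Groups with almost cyclic Sylow subgroups: inheritance and the perfect normal subgroup
-/

set_option autoImplicit false
set_option linter.unusedSectionVars false
set_option linter.style.haveILetI false

namespace CfsgLib.S4069

open Subgroup

universe u

variable {G : Type u} [Group G]

/-- An odd Sylow condition on every `p`-subgroup. -/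
theorem AlmostCyclic.isCyclic_of_isPGroup [Finite G] (h : AlmostCyclic G) {p : ℕ} (hp : p.Prime)
    (hp2 : p ≠ 2) {Q : Subgroup G} (hQ : IsPGroup p Q) : IsCyclic Q := by
  haveI := Fact.mk hp
  obtain ⟨P, hP⟩ := hQ.exists_le_sylow
  haveI := h.odd p hp hp2 P
  exact isCyclic_of_injective (inclusion hP) (inclusion_injective hP)

/-- A cyclic subgroup of index dividing two meets every subgroup in one of index dividing two. -/
theorem exists_cyclic_restrict {S T : Type*} [Group S] [Group T] [Finite S] (f : T →* S)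
    (hf : Function.Injective f) {C : Subgroup S} (hC : IsCyclic C) (hi : C.index ∣ 2) :
    ∃ D : Subgroup T, IsCyclic D ∧ D.index ∣ 2 := by
  refine ⟨C.comap f, ?_, ?_⟩
  · exact isCyclic_of_injective ((f.comp (C.comap f).subtype).codRestrict C fun x => x.2)
      fun a b e => Subtype.ext (hf (congrArg Subtype.val e :))
  · rw [index_comap]
    rcases (Nat.dvd_prime Nat.prime_two).1 hi with h | h
    · rw [index_eq_one.1 h, relIndex_top_left]; exact one_dvd _
    · haveI : C.Normal := normal_of_index_eq_two h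
      exact (relIndex_dvd_index_of_normal C _).trans hi

theorem AlmostCyclic.subgroup [Finite G] (h : AlmostCyclic G) (H : Subgroup G) :
    AlmostCyclic H := by
  refine ⟨fun p hp hp2 P => ?_, fun S => ?_⟩
  · haveI := h.isCyclic_of_isPGroup hp hp2 (P.2.map H.subtype)
    exact isCyclic_of_injective (H.subtype.subgroupMap (P : Subgroup H))
      fun a b e => Subtype.ext (Subtype.ext (congrArg Subtype.val e :))
  · obtain ⟨T, hT⟩ := (S.2.map H.subtype).exists_le_sylow
    obtain ⟨C, hC, hi⟩ := h.two T
    refine exists_cyclic_restrict ((inclusion hT).comp (H.subtype.subgroupMap (S : Subgroup H)))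
      (fun a b e => ?_) hC hi
    exact Subtype.ext (Subtype.ext (congrArg Subtype.val e :))

theorem AlmostCyclic.of_surjective [Finite G] (h : AlmostCyclic G) {H : Type*} [Group H]
    (π : G →* H) (hπ : Function.Surjective π) : AlmostCyclic H := by
  haveI := Finite.of_surjective π hπ
  refine ⟨fun p hp hp2 P => ?_, fun S => ?_⟩
  · haveI := Fact.mk hp
    obtain ⟨R, rfl⟩ := Sylow.mapSurjective_surjective hπ p P
    haveI := h.odd p hp hp2 R
    rw [Sylow.coe_mapSurjective]
    exact isCyclic_of_surjective _ (MonoidHom.subgroupMap_surjective _ (R : Subgroup G))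
  · obtain ⟨R, rfl⟩ := Sylow.mapSurjective_surjective hπ 2 S
    obtain ⟨C, hC, hi⟩ := h.two R
    rw [Sylow.coe_mapSurjective]
    let f := π.subgroupMap (R : Subgroup G)
    refine ⟨C.map f, ?_, ?_⟩
    · exact isCyclic_of_surjective _ (MonoidHom.subgroupMap_surjective f C)
    · exact (C.index_map_dvd (MonoidHom.subgroupMap_surjective _ _)).trans hi

/-- The exponent bound of the 2-subgroups. -/
theorem AlmostCyclic.exists_big [Finite G] (h : AlmostCyclic G) {Q : Subgroup G}
    (hQ : IsPGroup 2 Q) : ∃ x ∈ Q, Nat.card Q ∣ 2 * orderOf x := by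
  obtain ⟨T, hT⟩ := hQ.exists_le_sylow
  obtain ⟨C, hC, hi⟩ := h.two T
  obtain ⟨D, hD, hDi⟩ := exists_cyclic_restrict (inclusion hT) (inclusion_injective hT) hC hi
  obtain ⟨⟨x, hx⟩, hgen⟩ := IsCyclic.exists_generator (α := D)
  refine ⟨x, x.2, ?_⟩
  have ho : orderOf (x : G) = Nat.card D := by
    rw [Subgroup.orderOf_coe, ← Subgroup.orderOf_mk x hx, orderOf_eq_card_of_forall_mem_zpowers hgen]
  rw [ho, ← D.card_mul_index, mul_comm]
  exact mul_dvd_mul_right hDi _

/-- No elementary abelian subgroup of order eight. -/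
theorem AlmostCyclic.false_of_eight [Finite G] (h : AlmostCyclic G) {Q : Subgroup G}
    (hc : Nat.card Q = 8) (he : ∀ x ∈ Q, x * x = 1) : False := by
  obtain ⟨x, hx, hd⟩ := h.exists_big (Q := Q) (IsPGroup.of_card (n := 3) (by rw [hc]; rfl))
  have h2 : orderOf x ∣ 2 := orderOf_dvd_of_pow_eq_one (by rw [pow_two]; exact he x hx)
  rw [hc] at hd
  have := Nat.le_of_dvd (by omega) (hd.trans (mul_dvd_mul_left 2 h2))
  omega

/-- Commuting elements of the same odd prime order generate the same subgroup. -/
theorem AlmostCyclic.zpowers_eq [Finite G] (h : AlmostCyclic G) {r : ℕ} (hr : r.Prime)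
    (hr2 : r ≠ 2) {x y : G} (hx : orderOf x = r) (hy : orderOf y = r) (hxy : Commute x y) :
    zpowers x = zpowers y := by
  haveI := Fact.mk hr
  have hxp : IsPGroup r (zpowers x) := IsPGroup.of_card (n := 1) (by rw [Nat.card_zpowers, hx, pow_one])
  have hyp : IsPGroup r (zpowers y) := IsPGroup.of_card (n := 1) (by rw [Nat.card_zpowers, hy, pow_one])
  have hle : zpowers y ≤ normalizer (zpowers x : Set G) := by
    refine le_trans ?_ (centralizer_le_normalizer _)
    rw [zpowers_le, mem_centralizer_iff]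
    intro z hz
    obtain ⟨k, rfl⟩ := hz
    exact (hxy.zpow_left k).eq
  haveI := h.isCyclic_of_isPGroup hr hr2 (hxp.to_sup_of_normal_left' hyp hle)
  obtain ⟨g, hg⟩ := (Subgroup.isCyclic_iff_exists_zpowers_eq_top (zpowers x ⊔ zpowers y)).1 ‹_›
  exact CfsgLib.Invol.zpowers_eq_of_orderOf_eq (hg.symm ▸ mem_sup_left (mem_zpowers x))
    (hg.symm ▸ mem_sup_right (mem_zpowers y)) (hx.trans hy.symm)

/-- A perfect group has only trivial homomorphisms to abelian groups. -/
theorem hom_eq_one_of_perfect {L A : Type*} [Group L] [CommGroup A] (hP : commutator L = ⊤)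
    (f : L →* A) (x : L) : f x = 1 :=
  MonoidHom.mem_ker.1 (Abelianization.commutator_subset_ker f (hP ▸ mem_top x))

/-- A perfect group has only trivial homomorphisms to the automorphisms of a cyclic group. -/
theorem hom_aut_eq_one_of_perfect {L C : Type*} [Group L] [Group C] [IsCyclic C]
    (hP : commutator L = ⊤) (f : L →* MulAut C) (x : L) : f x = 1 :=
  hom_eq_one_of_mem_commutator f (hP ▸ mem_top x)

/-- An odd normal subgroup of a perfect group with cyclic odd Sylow subgroups is trivial. -/
theorem AlmostCyclic.eq_bot_of_perfect [Finite G] (h : AlmostCyclic G) (hP : commutator G = ⊤)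
    (K : Subgroup G) [K.Normal] (hodd : Odd (Nat.card K)) : K = ⊥ := by
  classical
  haveI : IsZGroup K := h.isZGroup hodd
  haveI : IsCyclic (commutator K) := IsZGroup.isCyclic_commutator K
  haveI : IsCyclic (Abelianization K) := IsZGroup.isCyclic_abelianization
  let φ : G →* MulAut K := MulAut.conjNormal
  let χ : G →* MulAut (Abelianization K) :=
    { toFun := fun x => (φ x).abelianizationCongr
      map_one' := by
        refine MulEquiv.ext fun c => ?_
        obtain ⟨k, rfl⟩ := Quotient.exists_rep c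
        show Abelianization.of ((φ 1) k) = Abelianization.of k
        rw [map_one]; rfl
      map_mul' := fun a b => by
        refine MulEquiv.ext fun c => ?_
        obtain ⟨k, rfl⟩ := Quotient.exists_rep c
        show Abelianization.of (φ (a * b) k) = Abelianization.of (φ a (φ b k))
        rw [map_mul]; rfl }
  set C := (commutator K).map K.subtype with hC
  haveI : IsCyclic C := isCyclic_of_surjective _
    ((commutator K).equivMapOfInjective K.subtype K.subtype_injective).surjective
  haveI : C.Normal := ConjAct.normal_of_characteristic_of_normal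
  have h1 : ⁅K, (⊤ : Subgroup G)⁆ ≤ C := by
    rw [commutator_le]
    intro k hk g _
    have e : Abelianization.of (φ g ⟨k, hk⟩) = Abelianization.of (⟨k, hk⟩ : K) :=
      DFunLike.congr_fun (hom_aut_eq_one_of_perfect hP χ g) (Abelianization.of (⟨k, hk⟩ : K))
    have hz : (⟨k, hk⟩ : K) * (φ g ⟨k, hk⟩)⁻¹ ∈ commutator K := by
      rw [← Abelianization.ker_of, MonoidHom.mem_ker, map_mul, map_inv, e, mul_inv_cancel]
    refine ⟨_, hz, ?_⟩
    simp only [φ, coe_subtype, Subgroup.coe_mul, InvMemClass.coe_inv, MulAut.conjNormal_apply]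
    rw [commutatorElement_def]
    group
  have h2 : ⁅C, (⊤ : Subgroup G)⁆ = ⊥ := by
    rw [eq_bot_iff, commutator_le]
    intro c hc g _
    have e := congrArg Subtype.val (DFunLike.congr_fun
      (hom_aut_eq_one_of_perfect hP (MulAut.conjNormal : G →* MulAut C) g) ⟨c, hc⟩)
    simp only [MulAut.conjNormal_apply, MulAut.one_apply] at e
    rw [mem_bot, commutatorElement_eq_one_iff_mul_comm]
    exact (mul_inv_eq_iff_eq_mul.1 e).symm
  have h3 : ⁅⁅K, (⊤ : Subgroup G)⁆, (⊤ : Subgroup G)⁆ = ⊥ :=
    eq_bot_iff.2 ((commutator_mono h1 le_rfl).trans h2.le)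
  have h4 : ⁅(⊤ : Subgroup G), K⁆ = ⊥ := by
    have := commutator_commutator_eq_bot_of_rotate (H₁ := (⊤ : Subgroup G)) (H₂ := ⊤) (H₃ := K)
      (by rwa [commutator_comm (⊤ : Subgroup G) K]) h3
    rwa [← _root_.commutator_def, hP] at this
  have hcen : ∀ k ∈ K, ∀ g : G, g * k = k * g := fun k hk g =>
    commutatorElement_eq_one_iff_mul_comm.1 ((eq_bot_iff_forall _).1 h4 _
      (commutator_mem_commutator (mem_top g) hk))
  -- transfer to a Sylow subgroup
  by_contra hK
  obtain ⟨r, hr, hrd⟩ := Nat.exists_prime_and_dvd (n := Nat.card K)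
    fun h1 => hK (card_eq_one.1 h1)
  haveI := Fact.mk hr
  have hr2 : r ≠ 2 := fun e => Nat.not_even_iff_odd.2 hodd (even_iff_two_dvd.2 (e ▸ hrd))
  obtain ⟨⟨x, hxK⟩, hx⟩ := exists_prime_orderOf_dvd_card' (G := K) r hrd
  rw [← Subgroup.orderOf_coe] at hx
  obtain ⟨P, hxP⟩ := (IsPGroup.of_card (G := zpowers x) (p := r) (n := 1)
    (by rw [Nat.card_zpowers, hx, pow_one])).exists_le_sylow
  haveI := h.odd r hr hr2 P
  letI : CommGroup (P : Subgroup G) := IsCyclic.commGroup
  have key : ∀ (k : ℕ) (g₀ : G), g₀⁻¹ * x ^ k * g₀ ∈ (P : Subgroup G) →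
      g₀⁻¹ * x ^ k * g₀ = x ^ k := fun k g₀ _ => by
    rw [mul_assoc, ← hcen _ (K.pow_mem hxK k) g₀, inv_mul_cancel_left]
  have e := MonoidHom.transfer_eq_pow (MonoidHom.id (P : Subgroup G)) x key
  rw [hom_eq_one_of_perfect hP] at e
  have e1 : x ^ (P : Subgroup G).index = 1 := (congrArg Subtype.val e).symm
  have hd := orderOf_dvd_of_pow_eq_one e1
  rw [hx] at hd
  exact P.not_dvd_index hd

/-- The odd core of a group. -/
theorem oddCore_eq_bot_of_perfect [Finite G] (h : AlmostCyclic G) (hP : commutator G = ⊤) :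
    Cfsg.oddCore G = ⊥ := by
  haveI : (Cfsg.oddCore G).Normal := CfsgLib.Solvable.pPrimeCore_normal 2 G
  exact h.eq_bot_of_perfect hP _ (CfsgLib.Invol.odd_card_oddCore G)

/-- A non-solvable group has a perfect nontrivial normal subgroup. -/
theorem exists_perfect_normal [Finite G] (hns : ¬ Group.IsSolvable G) :
    ∃ L : Subgroup G, L.Normal ∧ commutator L = ⊤ ∧ Nontrivial L := by
  obtain ⟨L, hL, hLL, hne⟩ := CfsgLib.SylL34.exists_perfect hns
  refine ⟨L, hL, map_injective L.subtype_injective ?_, (nontrivial_iff_ne_bot L).2 hne⟩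
  rw [map_subtype_commutator, hLL, ← MonoidHom.range_eq_map, range_subtype]

theorem not_solvable_of_perfect [Nontrivial G] (hP : commutator G = ⊤) :
    ¬ Group.IsSolvable G := by
  haveI : Group.IsPerfect G := ⟨hP⟩
  exact Group.IsPerfect.not_isSolvable G

/-- A group with a normal 2-complement is solvable. -/
theorem solvable_of_complement [Finite G] (h : Cfsg.HasNormalPComplement 2 G) :
    Group.IsSolvable G := by
  obtain ⟨N, hN, hNc, hq⟩ := CfsgLib.Transfer.hasNormalPComplement_iff_exists.1 h
  haveI := hN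
  haveI : Group.IsSolvable N := CfsgLib.FT.odd_order_solvable (Nat.coprime_two_right.1 hNc)
  haveI : Fact (Nat.Prime 2) := ⟨Nat.prime_two⟩
  haveI := hq.isNilpotent
  exact Group.isSolvable_of_ker_le_range N.subtype (QuotientGroup.mk' N)
    (by rw [QuotientGroup.ker_mk', range_subtype])

end CfsgLib.S4069
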