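import Cfsg.Agent.Lib.S4069.Defs

/-!
# The key lemma: a derived element of a 2-group centralises the Z-groups it normalises
-/

set_option autoImplicit false

namespace CfsgLib.S4069

open Subgroup

universe u

variable {G : Type u} [Group G]

/-- The automorphisms of a cyclic group commute. -/
theorem mulAut_comm_of_cyclic {C : Type*} [Group C] [IsCyclic C] (f g : MulAut C) :
    Commute f g := by
  obtain ⟨x, hx⟩ := IsCyclic.exists_generator (α := C)
  obtain ⟨m, hm⟩ := mem_zpowers_iff.1 (hx (f x))
  obtain ⟨n, hn⟩ := mem_zpowers_iff.1 (hx (g x))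
  refine MulEquiv.ext fun y => ?_
  obtain ⟨k, rfl⟩ := mem_zpowers_iff.1 (hx y)
  show f (g (x ^ k)) = g (f (x ^ k))
  simp only [map_zpow, ← hm, ← hn, ← zpow_mul, mul_left_comm]

/-- A commutator of `D` fixes every element of a cyclic group acted on by `D`. -/
theorem hom_eq_one_of_mem_commutator {D C : Type*} [Group D] [Group C] [IsCyclic C]
    (φ : D →* MulAut C) {d : D} (hd : d ∈ commutator D) : φ d = 1 := by
  have h : commutator D ≤ φ.ker := by
    rw [commutator_eq_closure, closure_le]
    rintro _ ⟨a, b, rfl⟩
    rw [SetLike.mem_coe, MonoidHom.mem_ker, map_commutatorElement]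
    exact commutatorElement_eq_one_iff_commute.2 (mulAut_comm_of_cyclic _ _)
  exact h hd

/-- A commutator of a 2-group normalising a Z-group of odd order centralises it. -/
theorem commute_of_zgroup [Finite G] {K D : Subgroup G} (hK : IsZGroup K)
    (hodd : Odd (Nat.card K)) (hn : D ≤ normalizer (K : Set G)) {t : G}
    (ht : t ∈ ⁅D, D⁆) (ht2 : orderOf t = 2) : ∀ k ∈ K, Commute t k := by
  have := hK
  rw [← map_subtype_commutator] at ht
  obtain ⟨d, hd, rfl⟩ := mem_map.1 ht
  let φ : D →* MulAut K := (normalizerMonoidHom K).comp (inclusion hn)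
  have hφ : ∀ (x : D) (k : K), ((φ x k : K) : G) = (x : G) * k * (x : G)⁻¹ := fun _ _ => rfl
  have hmap : ∀ f : MulAut K, (commutator K).map f.toMonoidHom = commutator K := fun f =>
    (Subgroup.characteristic_iff_map_eq.1 inferInstance f)
  have hchar : ∀ f : MulAut K, ∀ x ∈ commutator K, f x ∈ commutator K := fun f x hx => by
    rw [← hmap f]; exact ⟨x, hx, rfl⟩
  -- the action on the derived subgroup
  let ψ : D →* MulAut (commutator K) :=
    { toFun := fun x =>
        { toFun := fun c => ⟨φ x (c : K), hchar (φ x) _ c.2⟩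
          invFun := fun c => ⟨(φ x).symm (c : K), hchar (φ x).symm _ c.2⟩
          left_inv := fun c => Subtype.ext ((φ x).symm_apply_apply _)
          right_inv := fun c => Subtype.ext ((φ x).apply_symm_apply _)
          map_mul' := fun a b => Subtype.ext (map_mul (φ x) (a : K) (b : K)) }
      map_one' := MulEquiv.ext fun c => Subtype.ext (by simp)
      map_mul' := fun a b => MulEquiv.ext fun c => Subtype.ext (by
        show φ (a * b) (c : K) = φ a (φ b (c : K))
        rw [map_mul]; rfl) }
  have : IsCyclic (commutator K) := IsZGroup.isCyclic_commutator K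
  have h1 : ∀ c : commutator K, φ d c = c := fun c =>
    congrArg Subtype.val (DFunLike.congr_fun (hom_eq_one_of_mem_commutator ψ hd) c)
  -- the action on the abelianization
  have : IsCyclic (Abelianization K) := IsZGroup.isCyclic_abelianization
  let χ : D →* MulAut (Abelianization K) :=
    { toFun := fun x => (φ x).abelianizationCongr
      map_one' := by
        refine MulEquiv.ext fun c => ?_
        obtain ⟨k, rfl⟩ := Quotient.exists_rep c
        show Abelianization.of ((φ 1) k) = Abelianization.of k
        rw [map_one]; rfl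
      map_mul' := fun a b => by
        refine MulEquiv.ext fun c => ?_
        obtain ⟨k, rfl⟩ := Quotient.exists_rep c
        show Abelianization.of (φ (a * b) k) = Abelianization.of (φ a (φ b k))
        rw [map_mul]; rfl }
  have h2 : ∀ k : K, φ d k * k⁻¹ ∈ commutator K := fun k => by
    have e : Abelianization.of (φ d k) = Abelianization.of k :=
      DFunLike.congr_fun (hom_eq_one_of_mem_commutator χ hd) (Abelianization.of k)
    rw [← Abelianization.ker_of, MonoidHom.mem_ker, map_mul, map_inv, e, mul_inv_cancel]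
  intro k hk
  -- an involution moving `k` inside a fixed coset
  set z : K := φ d ⟨k, hk⟩ * (⟨k, hk⟩ : K)⁻¹ with hz
  have hzc : φ d z = z := h1 ⟨z, h2 ⟨k, hk⟩⟩
  have hdd : φ d (φ d ⟨k, hk⟩) = ⟨k, hk⟩ := by
    refine Subtype.ext ?_
    rw [hφ, hφ]
    have : ((d : G) * d : G) = 1 := by
      rw [← pow_two]; exact ht2 ▸ pow_orderOf_eq_one _
    have hi : ((d : G))⁻¹ = d := inv_eq_of_mul_eq_one_right this
    simp only [Subgroup.subtype_apply] at *
    rw [hi]
    calc (d : G) * ((d : G) * k * d) * d = ((d : G) * d) * k * ((d : G) * d) := by group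
      _ = k := by rw [this, one_mul, mul_one]
  have hsq : z * z = 1 := by
    have e1 : φ d ⟨k, hk⟩ = z * ⟨k, hk⟩ := by rw [hz, inv_mul_cancel_right]
    have e2 := hdd
    rw [e1, map_mul, hzc, e1, ← mul_assoc] at e2
    exact mul_eq_right.1 e2
  have hz1 : z = 1 := by
    have h3 : orderOf z ∣ 2 := orderOf_dvd_of_pow_eq_one (by rw [pow_two, hsq])
    rcases (Nat.dvd_prime Nat.prime_two).1 h3 with h | h
    · exact orderOf_eq_one_iff.1 h
    · exact absurd (h ▸ orderOf_dvd_natCard z) (fun h2 => Nat.not_even_iff_odd.2 hodd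
        (even_iff_two_dvd.2 h2))
  have e : ((φ d ⟨k, hk⟩ : K) : G) = k := congrArg Subtype.val (mul_inv_eq_one.1 hz1)
  rw [hφ] at e
  exact mul_inv_eq_iff_eq_mul.1 e

/-- Subgroups of odd order are Z-groups. -/
theorem AlmostCyclic.isZGroup [Finite G] (h : AlmostCyclic G) {K : Subgroup G}
    (hodd : Odd (Nat.card K)) : IsZGroup K := by
  refine ⟨fun p hp P => ?_⟩
  have := Fact.mk hp
  rcases eq_or_ne p 2 with rfl | hp2
  · have hc : Nat.card (P : Subgroup K) = 1 := by
      rw [P.card_eq_multiplicity, Nat.factorization_eq_zero_of_not_dvd, pow_zero]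
      exact fun h2 => Nat.not_even_iff_odd.2 hodd (even_iff_two_dvd.2 h2)
    have : Subsingleton (P : Subgroup K) := (Nat.card_eq_one_iff_unique.1 hc).1
    infer_instance
  · have hP : IsPGroup p ((P : Subgroup K).map K.subtype) := P.2.map _
    obtain ⟨Q, hQ⟩ := hP.exists_le_sylow
    have := h.odd p hp hp2 Q
    have := isCyclic_of_injective (inclusion hQ) (inclusion_injective hQ)
    exact isCyclic_of_injective (K.subtype.subgroupMap (P : Subgroup K))
      fun a b e => Subtype.ext (Subtype.ext (congrArg Subtype.val e :))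

end CfsgLib.S4069
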