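import Cfsg.Agent.Lib.S4069.Basic
import Cfsg.Agent.Lib.Invol.QWGroups
import Cfsg.Agent.Lib.Invol.DihedralFusion
import Cfsg.Agent.Lib.InvChar.GLTwoThreeRecog
import Cfsg.Agent.Lib.Recog.SuborbitThree.PSLFacts
import Cfsg.Agent.Lib.Geom.RedundantPSL
import Cfsg.Agent.Lib.Amalgam.PushMinPerm
import Cfsg.Agent.Lib.Comp.Bender
import Cfsg.Agent.Lib.Fusion.ZStarCenter
import Cfsg.Agent.S2879

/-!
# The semidihedral case: the two shapes of the centralizer of the involution

A soluble centralizer is an odd extension by `GL(2, 3)`, an insoluble one is `(O × SL(2, q)) ⟨i⟩`.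
-/

set_option autoImplicit false
set_option linter.unusedSectionVars false
set_option linter.style.haveILetI false

namespace CfsgLib.S4069

open Subgroup CfsgLib.Invol
open scoped MatrixGroups commutatorElement

universe u

namespace Cases

open CfsgLib.InvChar.OctaRecog (pf Q8)

/-- Generators of the quaternion subgroup of `SL(2, 3)`. -/
def slI : SL(2, ZMod 3) := ⟨!![0, -1; 1, 0], by decide⟩

def slJ : SL(2, ZMod 3) := ⟨!![1, 1; 1, -1], by decide⟩

theorem slQ_mul : ∀ a b : Q8, pf slI slJ (a * b) = pf slI slJ a * pf slI slJ b := by decide +kernel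

theorem slQ_inj : ∀ a : Q8, pf slI slJ a = 1 → a = 1 := by decide +kernel

theorem slQ_range : ∀ g : SL(2, ZMod 3), g ^ 4 = 1 → ∃ a : Q8, pf slI slJ a = g := by
  decide +kernel

theorem slQ_four : ∀ a : Q8, pf slI slJ a ^ 4 = 1 := by decide +kernel

/-- The quaternion subgroup of a group isomorphic to `SL(2, 3)`. -/
theorem exists_q8 {U : Type*} [Group U] (e : U ≃* SL(2, ZMod 3)) :
    ∃ Q : Subgroup U, Q.Characteristic ∧ Nonempty (Q ≃* Q8) := by
  let f : Q8 →* U := e.symm.toMonoidHom.comp (MonoidHom.mk' (pf slI slJ) slQ_mul)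
  have hf : Function.Injective f :=
    e.symm.injective.comp ((injective_iff_map_eq_one _).2 slQ_inj)
  refine ⟨f.range, Subgroup.characteristic_iff_map_le.2 ?_, ⟨(MonoidHom.ofInjective hf).symm⟩⟩
  rintro φ _ ⟨_, ⟨a, rfl⟩, rfl⟩
  obtain ⟨b, hb⟩ := slQ_range (e (φ (f a))) (by
    have : f a ^ 4 = 1 := by
      show e.symm (pf slI slJ a) ^ 4 = 1
      rw [← map_pow, slQ_four, map_one]
    rw [← map_pow, ← map_pow, this, map_one, map_one])
  exact ⟨b, by show e.symm (pf slI slJ b) = φ (f a); rw [hb, e.symm_apply_apply]⟩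

theorem isQuasiDihedral_congr {A B : Type*} [Group A] [Group B] (e : A ≃* B)
    (h : Cfsg.IsQuasiDihedral A) : Cfsg.IsQuasiDihedral B := by
  obtain ⟨n, hn, hc, x, y, hx, hy, hxy⟩ := h
  exact ⟨n, hn, (Nat.card_congr e.toEquiv).symm.trans hc, e x, e y,
    (e.orderOf_eq x).trans hx, (e.orderOf_eq y).trans hy, by
    rw [← map_inv, ← map_mul, ← map_mul, hxy, map_pow]⟩

/-- A soluble core-free group with a semidihedral Sylow subgroup of central centre, not normal,
is `GL(2, 3)`. -/
theorem equiv_gl {X : Type u} [Group X] [Finite X] (hs : Group.IsSolvable X)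
    (hO : Cfsg.oddCore X = ⊥) (T : Sylow 2 X) (D : QDData (T : Subgroup X))
    (hT : Cfsg.IsQuasiDihedral (T : Subgroup X))
    (hz : (qz T D) ∈ center X) (hne : (T : Subgroup X) ≠ ⊤) :
    Nonempty (X ≃* GL (Fin 2) (ZMod 3)) := by
  classical
  haveI : Fact (Nat.Prime 2) := ⟨Nat.prime_two⟩
  have hTC : (T : Subgroup X) ⊓ centralizer ((T : Subgroup X) : Set X) = zpowers (qz T D) := by
    refine le_antisymm (fun c hc => ?_) (zpowers_le.2 ⟨qz_mem T D, mem_centralizer_iff.2 fun s hs' =>
      (mem_center_iff.1 hz s)⟩)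
    have hcc : (⟨c, hc.1⟩ : (T : Subgroup X)) ∈ center (T : Subgroup X) :=
      mem_center_iff.2 fun s => Subtype.ext (mem_centralizer_iff.1 hc.2 s s.2)
    rw [D.center_eq] at hcc
    obtain ⟨k, hk⟩ := mem_zpowers_iff.1 hcc
    exact ⟨k, by simpa [qz] using congrArg Subtype.val hk⟩
  have hZn : ((T : Subgroup X) ⊓ centralizer ((T : Subgroup X) : Set X)).Normal := by
    rw [hTC]
    refine ⟨fun n hn g => ?_⟩
    have hnc : n ∈ center X := zpowers_le.2 hz hn
    rwa [mem_center_iff.1 hnc g, mul_inv_cancel_right]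
  obtain ⟨U, hU, ⟨eU⟩⟩ := Cfsg.Agent.S2879.result hs hO T (Or.inr hT) hne hZn
  haveI := hU
  obtain ⟨Q₁, hQ₁c, ⟨e₁⟩⟩ := exists_q8 eU
  haveI := hQ₁c
  set Q := Q₁.map U.subtype with hQ
  haveI hQn : Q.Normal := CfsgLib.Solvable.map_subtype_normal Q₁
  let eQ : Q ≃* Q8 := (Q₁.equivMapOfInjective _ U.subtype_injective).symm.trans e₁
  have hQc : Nat.card Q = 8 := by
    rw [Nat.card_congr eQ.toEquiv, Nat.card_eq_fintype_card]; rfl
  have hQp : IsPGroup 2 Q := IsPGroup.of_card (n := 3) hQc
  have hQT : Q ≤ (T : Subgroup X) := CfsgLib.Solvable.normal_pgroup_le_sylow hQp T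
  -- the centralizer of the quaternion group has order two
  set C0 := centralizer (Q : Set X) with hC0
  haveI : C0.Normal := by rw [hC0]; infer_instance
  have hC0T : ∀ c ∈ C0, c ∈ (T : Subgroup X) → c ∈ Q := by
    intro c hc hcT
    have h1 : (⟨c, hcT⟩ : (T : Subgroup X)) ∈
        centralizer ((Q.subgroupOf (T : Subgroup X)) : Set (T : Subgroup X)) :=
      mem_centralizer_iff.2 fun q hq => Subtype.ext (mem_centralizer_iff.1 hc q hq)
    rw [D.quaternion_centralizer ((subgroupOfEquivOfLe hQT).trans eQ)] at h1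
    obtain ⟨w, -, hw⟩ := h1
    have := w.2
    rw [mem_subgroupOf] at this
    rwa [← show ((w : (T : Subgroup X)) : X) = c from congrArg Subtype.val hw]
  obtain ⟨P0, hP0⟩ := CfsgLib.Transfer.exists_sylow_eq_subgroupOf T C0
  have hP0c : ∀ p ∈ (P0 : Subgroup C0), ∀ c : C0, c * p = p * c := by
    intro p hp c
    rw [hP0, mem_subgroupOf] at hp
    exact Subtype.ext (mem_centralizer_iff.1 c.2 p (hC0T p p.2 hp)).symm
  have hNC : normalizer ((P0 : Subgroup C0) : Set C0) ≤ centralizer ((P0 : Subgroup C0) : Set C0) :=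
    fun c _ => mem_centralizer_iff.2 fun p hp => (hP0c p hp c).symm
  have hcomp := MonoidHom.ker_transferSylow_isComplement' P0 hNC
  set N0 := (MonoidHom.transferSylow P0 hNC).ker with hN0
  have hN0odd : Odd (Nat.card N0) := by
    have h1 : ¬ 2 ∣ (P0 : Subgroup C0).index := P0.not_dvd_index
    rw [hcomp.index_eq_card] at h1
    exact Nat.not_even_iff_odd.1 fun h => h1 (even_iff_two_dvd.1 h)
  have hN0bot : N0 = ⊥ := by
    haveI : (Cfsg.oddCore C0).Characteristic := CfsgLib.Solvable.pPrimeCore_characteristic 2 C0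
    haveI : ((Cfsg.oddCore C0).map C0.subtype).Normal := CfsgLib.Solvable.map_subtype_normal _
    have h1 : (Cfsg.oddCore C0).map C0.subtype ≤ Cfsg.oddCore X :=
      le_oddCore inferInstance (by
        rw [card_map_of_injective C0.subtype_injective]; exact odd_card_oddCore C0)
    rw [hO, le_bot_iff, map_eq_bot_iff_of_injective _ C0.subtype_injective] at h1
    exact le_bot_iff.1 (h1 ▸ le_oddCore (MonoidHom.normal_ker _) hN0odd)
  have hCQ : C0 ≤ Q := by
    intro c hc
    have htop : (P0 : Subgroup C0) = ⊤ := by rw [hN0bot] at hcomp; exact isComplement'_bot_left.1 hcomp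
    have h1 : (⟨c, hc⟩ : C0) ∈ (P0 : Subgroup C0) := htop ▸ mem_top _
    rw [hP0, mem_subgroupOf] at h1
    exact hC0T c hc h1
  -- the order
  let c : X →* MulAut Q8 := (MulAut.congr eQ).toMonoidHom.comp MulAut.conjNormal
  have hker : ∀ g ∈ c.ker, g ∈ C0 := fun g hg => mem_centralizer_iff.2 fun x hx => by
    have h1 : MulAut.conjNormal g (⟨x, hx⟩ : Q) = ⟨x, hx⟩ := by
      have h2 := MulEquiv.congr_fun (MonoidHom.mem_ker.1 hg) (eQ ⟨x, hx⟩)
      simpa [c, MulAut.congr] using h2
    have h3 := congrArg Subtype.val h1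
    rw [MulAut.conjNormal_apply] at h3
    exact (mul_inv_eq_iff_eq_mul.1 h3).symm
  have hk : Nat.card c.ker ≤ 2 := by
    have hcen : ∀ z : Q8, (∀ w : Q8, w * z = z * w) → z ∈ ({1, .a 2} : Finset Q8) := by decide +kernel
    have hf : ∀ g : c.ker, eQ ⟨g, hCQ (hker g g.2)⟩ ∈ ({1, .a 2} : Finset Q8) := fun g => by
      refine hcen _ fun w => ?_
      obtain ⟨x, rfl⟩ := eQ.surjective w
      rw [← map_mul, ← map_mul]
      exact congrArg eQ (Subtype.ext (mem_centralizer_iff.1 (hker g g.2) x x.2))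
    refine (Nat.card_le_card_of_injective (fun g => (⟨_, hf g⟩ : ({1, .a 2} : Finset Q8))) fun a b h => ?_).trans ?_
    · exact Subtype.ext (congrArg (fun w : Q => (w : X)) (eQ.injective (congrArg Subtype.val h)))
    · rw [Nat.card_eq_fintype_card, Fintype.card_coe]; decide +kernel
  haveI : Finite (MulAut Q8) :=
    Finite.of_injective (fun σ => (σ : Q8 → Q8)) DFunLike.coe_injective
  have h48 : Nat.card X ≤ 48 := by
    rw [← c.ker.card_mul_index, index_ker]
    exact Nat.mul_le_mul hk
      ((Subgroup.card_le_card_group _).trans CfsgLib.InvChar.OctaRecog.card_aut_le)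
  obtain ⟨n, hn, hTc, -⟩ := hT
  have h16 : 16 ∣ Nat.card (T : Subgroup X) :=
    hTc ▸ (show 2 ^ 4 ∣ 2 ^ (n + 1) from pow_dvd_pow 2 (by omega))
  have hU24 : Nat.card U = 24 := by
    rw [Nat.card_congr eU.toEquiv, CfsgLib.Classical.card_sl_two_eq, ZMod.card]; norm_num
  have hX : Nat.card X = 48 := by
    have h1 : 48 ∣ Nat.card X := Nat.Coprime.mul_dvd_of_dvd_of_dvd (m := 16) (n := 3)
      (by norm_num) (h16.trans (card_subgroup_dvd_card _))
      ((show 3 ∣ 24 by norm_num).trans (hU24 ▸ card_subgroup_dvd_card U))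
    exact le_antisymm h48 (Nat.le_of_dvd Nat.card_pos h1)
  -- an involution outside
  refine CfsgLib.InvChar.OctaRecog.equiv_gl hX Q eQ hCQ (t := qy T D)
    (congrArg Subtype.val (invol_mul_self D.orderOf_y)) fun hy => ?_
  have hu : ∀ z : Q8, z * z = 1 → ∀ w : Q8, w * z = z * w := by decide +kernel
  have h1 := hu (eQ ⟨_, hy⟩) (by
    rw [← map_mul, show (⟨_, hy⟩ : Q) * ⟨_, hy⟩ = 1 from
      Subtype.ext (show qy T D * qy T D = 1 from congrArg Subtype.val (invol_mul_self D.orderOf_y)),
      map_one])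
  have h2 : qy T D ∈ C0 := mem_centralizer_iff.2 fun q hq => by
    have := h1 (eQ ⟨q, hq⟩)
    rw [← map_mul, ← map_mul, eQ.apply_eq_iff_eq] at this
    exact congrArg Subtype.val this
  have h3 : (⟨_, qy_mem T D⟩ : (T : Subgroup X)) ∈
      centralizer ((Q.subgroupOf (T : Subgroup X)) : Set (T : Subgroup X)) :=
    mem_centralizer_iff.2 fun q hq => Subtype.ext (mem_centralizer_iff.1 h2 q hq)
  obtain ⟨j, hj, hQe⟩ := D.quaternion_eq ((subgroupOfEquivOfLe hQT).trans eQ)
  have hm := D.two_le
  have h4 : D.y * D.x ^ (D.m : ℤ) = D.x ^ (D.m : ℤ) * D.y :=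
    (mem_centralizer_iff.1 h3 _ (hQe ▸ subset_closure (by simp))).symm
  rw [D.y_mul_zpow, D.zpow_mul_y_eq_iff] at h4
  obtain ⟨e, he⟩ := h4
  obtain ⟨k, hk'⟩ := D.even_m
  have hm0 : (D.m : ℤ) ≠ 0 := by omega
  have : 2 - 2 * (D.m : ℤ) = 4 * e := mul_left_cancel₀ hm0 (by linarith)
  omega

end Cases

open Cases in
/-- The two shapes of the centralizer of `t`. -/
theorem three_or_big {G : Type u} [Group G] [Finite G] (hS : SDMin G) (F : Frame G) :
    Three F ∨ Nonempty (Big F) := by
  classical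
  haveI := hS.simple
  haveI : Fact (Nat.Prime 2) := ⟨Nat.prime_two⟩
  set C := centralizer ({F.t} : Set G) with hC
  have hmC : ∀ {x : G}, Commute x F.t → x ∈ C := fun hx => mem_centralizer_singleton_iff.2 hx.eq
  have hCm : ∀ {x : G}, x ∈ C → Commute x F.t := fun hx => mem_centralizer_singleton_iff.1 hx
  have hPC : (F.P : Subgroup G) ≤ C := fun x hx => hmC (F.t_comm x hx)
  have ht1 : F.t ≠ 1 := invol_ne_one F.t_two
  have hder : F.t ∈ commutator G :=
    commutator_mono le_top le_top F.t_derived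
  have hG : ∀ H : Subgroup G, H.index ≠ 2 := fun H hH => by
    haveI := normal_of_index_eq_two hH
    rcases IsSimpleGroup.eq_bot_or_eq_top_of_normal H inferInstance with h | h
    · rw [h, index_bot] at hH
      have hcomm : ∀ a b : G, a * b = b * a := fun a b => by
        haveI : Fact (Nat.Prime 2) := ⟨Nat.prime_two⟩
        haveI := isCyclic_of_prime_card (α := G) hH
        exact IsCyclic.commGroup.mul_comm a b
      rw [commutator_def, commutator_eq_bot_iff_le_centralizer.2 (fun a _ =>
        mem_centralizer_iff.2 fun b _ => hcomm b a), mem_bot] at hder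
      exact ht1 hder
    · rw [h, index_top] at hH; omega
  obtain ⟨D, n, hn, hm, -⟩ := exists_qdData (hS.sd F.P)
  have htz : F.t = qz F.P D := by
    have htP : F.t ∈ (F.P : Subgroup G) :=
      (commutator_le.2 fun a ha b hb => mul_mem (mul_mem (mul_mem ha hb) (inv_mem ha)) (inv_mem hb))
        F.t_derived
    have hc : (⟨F.t, htP⟩ : (F.P : Subgroup G)) ∈ center (F.P : Subgroup G) :=
      mem_center_iff.2 fun s => Subtype.ext (F.t_comm s s.2).eq
    rw [D.center_eq] at hc
    obtain ⟨k, hk⟩ := mem_zpowers_iff.1 hc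
    rcases Int.even_or_odd' k with ⟨l, rfl | rfl⟩
    · rw [zpow_mul, zpow_two, invol_mul_self D.orderOf_z, one_zpow] at hk
      exact absurd (congrArg Subtype.val hk).symm ht1
    · rw [zpow_add, zpow_mul, zpow_two, invol_mul_self D.orderOf_z, one_zpow, one_mul,
        zpow_one] at hk
      exact (congrArg Subtype.val hk).symm
  have hCne : C ≠ ⊤ := fun e => by
    have hz : F.t ∈ center G :=
      mem_center_iff.2 fun x => (mem_centralizer_singleton_iff.1 (e ▸ mem_top x)).symm ▸ rfl
    rcases IsSimpleGroup.eq_bot_or_eq_top_of_normal (center G) inferInstance with h | h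
    · exact ht1 (mem_bot.1 (h ▸ hz))
    · have : ⁅(F.P : Subgroup G), (F.P : Subgroup G)⁆ = ⊥ :=
        commutator_eq_bot_iff_le_centralizer.2 fun a _ => mem_centralizer_iff.2 fun b _ =>
          mem_center_iff.1 (h ▸ mem_top a : a ∈ center G) b
      exact ht1 (mem_bot.1 (this ▸ F.t_derived))
  by_cases hsol : Group.IsSolvable C
  · left
    haveI := hsol
    set N := Cfsg.oddCore C with hN
    haveI : N.Normal := CfsgLib.Solvable.pPrimeCore_normal 2 C
    have hNodd : Odd (Nat.card N) := odd_card_oddCore C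
    let P' : Sylow 2 C := F.P.subtype hPC
    let T : Sylow 2 (C ⧸ N) := P'.mapSurjective (QuotientGroup.mk'_surjective N)
    let f : (P' : Subgroup C) →* (T : Subgroup (C ⧸ N)) :=
      (QuotientGroup.mk' N).subgroupMap (P' : Subgroup C)
    have hf : Function.Bijective f := by
      refine ⟨(injective_iff_map_eq_one f).2 fun p hp => ?_,
        MonoidHom.subgroupMap_surjective _ _⟩
      have hpN : (p : C) ∈ N := (QuotientGroup.eq_one_iff _).1 (congrArg Subtype.val hp)
      obtain ⟨k, hk⟩ := P'.2 p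
      refine Subtype.ext (orderOf_eq_one_iff.1 (Nat.eq_one_of_dvd_coprimes
        ((Nat.coprime_two_left.2 hNodd).pow_left k)
        (orderOf_dvd_of_pow_eq_one (congrArg Subtype.val hk))
        (Subgroup.orderOf_dvd_natCard N hpN)))
    let e : (F.P : Subgroup G) ≃* (T : Subgroup (C ⧸ N)) :=
      (subgroupOfEquivOfLe hPC).symm.trans (MulEquiv.ofBijective f hf)
    let D' := D.congr e
    have hz' : qz T D' = QuotientGroup.mk' N ⟨F.t, hmC (Commute.refl F.t)⟩ := by
      show (((D.congr e).z : (T : Subgroup (C ⧸ N))) : C ⧸ N) = _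
      rw [QDData.congr_z]
      simp only [htz]
      rfl
    have hzc : qz T D' ∈ center (C ⧸ N) := by
      rw [hz']
      refine mem_center_iff.2 fun w => ?_
      obtain ⟨c, rfl⟩ := QuotientGroup.mk'_surjective N w
      rw [← map_mul, ← map_mul]
      exact congrArg _ (Subtype.ext (hCm c.2).eq)
    have hne : (T : Subgroup (C ⧸ N)) ≠ ⊤ := by
      intro htop
      obtain ⟨g, hg⟩ := isConj_iff.1 (qd_fuse F.P D hm hG).2
      have haa : qz F.P D = qa F.P D * qa F.P D := congrArg Subtype.val
        (show D.z = D.x ^ (D.m : ℤ) * D.x ^ (D.m : ℤ) by rw [← zpow_add, QDData.z, two_mul])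
      have hgC : g ∈ C := by
        refine mem_centralizer_singleton_iff.2 (mul_inv_eq_iff_eq_mul.1 ?_)
        rw [htz, haa, ← conj_mul, hg, ← haa]
        exact congrArg Subtype.val (D.sq_odd_y odd_one)
      obtain ⟨s, hs⟩ : ∃ s : (F.P : Subgroup G),
          (e s : C ⧸ N) = QuotientGroup.mk' N ⟨g, hgC⟩ := by
        refine ⟨e.symm ⟨QuotientGroup.mk' N ⟨g, hgC⟩, htop ▸ mem_top _⟩, ?_⟩
        rw [e.apply_symm_apply]
      have he : ∀ r : (F.P : Subgroup G),
          (e r : C ⧸ N) = QuotientGroup.mk' N ⟨r, hPC r.2⟩ := fun r => rfl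
      have hconj : s * D.x ^ (D.m : ℤ) * s⁻¹ = D.x ^ (1 : ℤ) * D.y := by
        apply e.injective
        apply Subtype.ext
        rw [map_mul, map_mul, map_inv, Subgroup.coe_mul, Subgroup.coe_mul, Subgroup.coe_inv,
          hs, he, he, ← map_inv, ← map_mul, ← map_mul]
        exact congrArg _ (Subtype.ext hg)
      haveI := normal_of_index_eq_two D.index_zpowers
      exact D.zpow_mul_y_notMem 1 (hconj ▸
        (inferInstance : (zpowers D.x).Normal).conj_mem _ (zpow_mem (mem_zpowers _) _) s)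
    obtain ⟨eg⟩ := Cases.equiv_gl (inferInstance : Group.IsSolvable (C ⧸ N))
      CfsgLib.Fusion.oddCore_quotient_oddCore T D' (isQuasiDihedral_congr e (hS.sd F.P)) hzc hne
    refine ⟨eg.toMonoidHom.comp (QuotientGroup.mk' N),
      eg.surjective.comp (QuotientGroup.mk'_surjective N), ?_⟩
    rw [show (eg.toMonoidHom.comp (QuotientGroup.mk' N)).ker = N from Subgroup.ext fun x => by
      simp [MonoidHom.mem_ker]]
    exact hNodd
  · right
    obtain ⟨X, L, hX, hL, hXL, hidx, hXodd, hcop, p, hp, hp5, hiso⟩ := hS.known C hCne hsol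
    haveI := hX; haveI := hL; haveI := hp
    obtain ⟨m, hm'⟩ : Odd p := hp.out.odd_of_ne_two (by omega)
    set tC : C := ⟨F.t, hmC (Commute.refl F.t)⟩
    set iC : C := ⟨F.i, hPC F.i_mem⟩
    have htC2 : orderOf tC = 2 := by rw [orderOf_mk, F.t_two]
    have htc : ∀ c : C, c * tC = tC * c := fun c => Subtype.ext (hCm c.2).eq
    -- elements of even order of `X ⊔ L`
    have hLidx : L.relIndex (X ⊔ L) = Nat.card X := by
      rw [relIndex_sup_right, ← inf_relIndex_right, inf_comm, hXL, relIndex_bot_left]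
    have hmemL : ∀ z : C, z ∈ X ⊔ L → orderOf z = 2 → z ∈ L := by
      intro z hz hz2
      haveI : (L.subgroupOf (X ⊔ L)).Normal := inferInstance
      suffices (⟨z, hz⟩ : (X ⊔ L : Subgroup C)) ∈ L.subgroupOf (X ⊔ L) from mem_subgroupOf.1 this
      rw [← QuotientGroup.eq_one_iff]
      refine orderOf_eq_one_iff.1 (Nat.eq_one_of_dvd_coprimes (Nat.coprime_two_left.2 hXodd)
        ((orderOf_map_dvd (QuotientGroup.mk' _) (⟨z, hz⟩ : (X ⊔ L : Subgroup C))).trans
          (dvd_of_eq ((orderOf_mk z hz).trans hz2))) ?_)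
      rw [← hLidx, relIndex, index_eq_card]
      exact orderOf_dvd_natCard _
    have htXL : tC ∈ X ⊔ L := by
      have hle : ⁅(F.P : Subgroup G), (F.P : Subgroup G)⁆ ≤ (X ⊔ L).map C.subtype := by
        refine commutator_le.2 fun a ha b hb => ⟨⁅(⟨a, hPC ha⟩ : C), ⟨b, hPC hb⟩⁆, ?_, ?_⟩
        · rcases (Nat.dvd_prime Nat.prime_two).1 hidx with h | h
          · rw [index_eq_one.1 h]; exact mem_top _
          · haveI := normal_of_index_eq_two h
            rw [SetLike.mem_coe, ← QuotientGroup.eq_one_iff, ← QuotientGroup.mk'_apply,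
              map_commutatorElement,
              commutatorElement_eq_one_iff_commute]
            haveI := isCyclic_of_prime_card (α := C ⧸ (X ⊔ L)) (p := 2)
              (by rw [← index_eq_card]; exact h)
            exact IsCyclic.commGroup.mul_comm _ _
        · rfl
      obtain ⟨z, hz, e⟩ := hle F.t_derived
      rwa [show tC = z from Subtype.ext e.symm]
    have htL : tC ∈ L := hmemL tC htXL htC2
    have htL2 : orderOf (⟨tC, htL⟩ : L) = 2 := by rw [orderOf_mk, htC2]
    rcases hiso with ⟨⟨eL⟩⟩ | ⟨⟨eL⟩⟩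
    · exfalso
      have hodd : Odd (Fintype.card (ZMod p)) := by rw [ZMod.card]; exact ⟨m, hm'⟩
      have h2 : orderOf (eL ⟨tC, htL⟩) = 2 := (eL.orderOf_eq _).trans htL2
      have hcen : centralizer ({eL ⟨tC, htL⟩} : Set _) = ⊤ := eq_top_iff.2 fun y _ => by
        obtain ⟨c, rfl⟩ := eL.surjective y
        rw [mem_centralizer_singleton_iff, ← map_mul, ← map_mul]
        exact congrArg eL (Subtype.ext (htc c))
      have hc := CfsgLib.Geom.Moebius.card_psl_two_gcd (F := ZMod p)
      rw [CfsgLib.Geom.Moebius.gcd_two_of_odd hodd, ZMod.card] at hc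
      have h3 := CfsgLib.Recog.SuborbitThree.card_centralizer_involution_psl hodd
        (by rw [ZMod.card]; omega) h2
      rw [hcen, Subgroup.card_top, ZMod.card] at h3
      obtain ⟨r, rfl⟩ : ∃ r, p = r + 1 := ⟨p - 1, by omega⟩
      rw [Nat.add_sub_cancel] at hc h3
      have h30 := Nat.mul_le_mul (show 5 ≤ r + 1 by omega)
        (Nat.mul_le_mul (show 6 ≤ r + 1 + 1 by omega) (le_refl r))
      rcases h3 with h3 | h3 <;> rw [h3] at hc <;> omega
    · have hiL : iC ∉ X ⊔ L := fun hi => by
        have hi2 : orderOf iC = 2 := by rw [orderOf_mk, F.i_two]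
        have hiL := hmemL iC hi hi2
        have h2 : (2 : ZMod p) ≠ 0 := fun h => by
          have := Nat.le_of_dvd two_pos
            ((CharP.cast_eq_zero_iff (ZMod p) p 2).1 (by exact_mod_cast h))
          omega
        have hsq : ∀ z : L, orderOf z = 2 → eL z ^ 2 = 1 ∧ eL z ≠ 1 := fun z hz => by
          refine ⟨?_, fun e => ?_⟩
          · have := pow_orderOf_eq_one z
            rw [hz] at this
            rw [← map_pow, this, map_one]
          rw [← eL.orderOf_eq z, e, orderOf_one] at hz; omega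
        obtain ⟨a1, a2⟩ := hsq ⟨iC, hiL⟩ (by rw [orderOf_mk, hi2])
        obtain ⟨b1, b2⟩ := hsq ⟨tC, htL⟩ htL2
        exact F.i_ne (congrArg (fun z : L => ((z : C) : G))
          (eL.injective (CfsgLib.Amalgam.PushMin.sl_two_invol_unique h2 a1 a2 b1 b2)))
      have hidx2 : (X ⊔ L).index = 2 := by
        rcases (Nat.dvd_prime Nat.prime_two).1 hidx with h | h
        · exact absurd (index_eq_one.1 h ▸ mem_top iC) hiL
        · exact h
      refine ⟨{
        q := p
        five_le := hp5
        O := X.map C.subtype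
        L := L.map C.subtype
        O_le := map_subtype_le X
        L_le := map_subtype_le L
        O_norm := CfsgLib.Comp.le_normalizer_map_subtype _
        L_norm := CfsgLib.Comp.le_normalizer_map_subtype _
        O_odd := by rwa [card_map_of_injective C.subtype_injective]
        coprime := by
          rwa [card_map_of_injective C.subtype_injective, card_map_of_injective C.subtype_injective]
        comm := ?_
        iso := ⟨(L.equivMapOfInjective _ C.subtype_injective).symm.trans eL⟩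
        t_mem := ⟨tC, htL, rfl⟩
        i_not_mem := ?_
        decomp := ?_ }⟩
      · rintro _ ⟨x, hx, rfl⟩ _ ⟨y, hy, rfl⟩
        exact (commute_of_normal_of_disjoint X L hX hL (disjoint_iff.2 hXL) x y hx hy).map C.subtype
      · rw [← Subgroup.map_sup]
        rintro ⟨z, hz, e⟩
        exact hiL ((Subtype.ext e : z = iC) ▸ hz)
      · intro c hc
        have hsplit : ∀ z : C, z ∈ X ⊔ L → ∃ o ∈ X.map C.subtype, ∃ l ∈ L.map C.subtype,
            (z : G) = o * l := fun z hz => by
          rw [← SetLike.mem_coe, normal_mul] at hz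
          obtain ⟨o, ho, l, hl, rfl⟩ := hz
          exact ⟨_, mem_map_of_mem _ ho, _, mem_map_of_mem _ hl, rfl⟩
        by_cases hmem : (⟨c, hmC hc⟩ : C) ∈ X ⊔ L
        · obtain ⟨o, ho, l, hl, e⟩ := hsplit _ hmem
          exact ⟨o, ho, l, hl, Or.inl e⟩
        · obtain ⟨o, ho, l, hl, e⟩ := hsplit (⟨c, hmC hc⟩ * iC)
            ((Subgroup.mul_mem_iff_of_index_two hidx2).2 (iff_of_false hmem hiL))
          refine ⟨o, ho, l, hl, Or.inr ?_⟩
          rw [← e]
          show c = c * F.i * F.i
          rw [mul_assoc, invol_mul_self F.i_two, mul_one]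

end CfsgLib.S4069
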