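import Mathlib
import Cfsg.Agent.Lib.Invol.FusionBasics

/-!
# The semidihedral case: counting elements

The conjugates of two tori, of an extended torus and the elements of order divisible by `q` are too
many.
-/

set_option autoImplicit false
set_option linter.unusedSectionVars false

namespace CfsgLib.S4069

open Subgroup CfsgLib.Invol
open scoped _root_.Classical

universe u

variable {G : Type u} [Group G]

theorem orderOf_conj' (g y : G) : orderOf (g * y * g⁻¹) = orderOf y :=
  orderOf_injective (MulAut.conj g).toMonoidHom (MulAut.conj g).injective y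

/-- The conjugates of the elements of `s`. -/
noncomputable def conjSet [Fintype G] (s : Finset G) : Finset G :=
  (Finset.univ ×ˢ s).image fun x : G × G => x.1 * x.2 * x.1⁻¹

theorem mem_conjSet [Fintype G] {s : Finset G} {z : G} (hz : z ∈ conjSet s) :
    ∃ g, ∃ y ∈ s, g * y * g⁻¹ = z := by
  obtain ⟨x, hx, rfl⟩ := Finset.mem_image.1 hz
  exact ⟨x.1, x.2, (Finset.mem_product.1 hx).2, rfl⟩

theorem orderOf_mem_conjSet [Fintype G] {s : Finset G} {z : G} (hz : z ∈ conjSet s) :
    ∃ y ∈ s, orderOf z = orderOf y := by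
  obtain ⟨g, y, hy, rfl⟩ := mem_conjSet hz
  exact ⟨y, hy, orderOf_conj' g y⟩

/-- A set fused inside `N` has many conjugates. -/
theorem card_mul_le_conjSet [Fintype G] (N : Subgroup G) (s : Finset G)
    (h : ∀ g : G, ∀ y ∈ s, g * y * g⁻¹ ∈ s → g ∈ N) :
    Fintype.card G * s.card ≤ Nat.card N * (conjSet s).card := by
  have hcard : (Finset.univ ×ˢ s : Finset (G × G)).card = Fintype.card G * s.card := by
    rw [Finset.card_product, Finset.card_univ]
  rw [← hcard]
  refine Finset.card_le_mul_card_image _ _ fun z _ => ?_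
  by_cases he : ∃ x ∈ (Finset.univ ×ˢ s : Finset (G × G)), x.1 * x.2 * x.1⁻¹ = z
  swap
  · rw [Finset.filter_eq_empty_iff.2 fun x hx e => he ⟨x, hx, e⟩]
    simp
  obtain ⟨x₀, hx₀, e₀⟩ := he
  obtain ⟨t, ht⟩ : ∃ t : Finset G, ∀ x, x ∈ t ↔ x ∈ N :=
    ⟨Finset.univ.filter (· ∈ N), fun x => by simp⟩
  have htc : t.card = Nat.card N := by
    rw [Nat.card_eq_fintype_card, Fintype.card_subtype]
    exact congrArg Finset.card (Finset.ext fun x => by simp [ht])
  rw [← htc]
  refine Finset.card_le_card_of_injOn (fun x => x₀.1⁻¹ * x.1) (fun x hx => ?_) fun x hx y hy e => ?_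
  · rw [Finset.mem_coe, Finset.mem_filter] at hx
    have hy := (Finset.mem_product.1 hx.1).2
    have e' : x.1 * x.2 * x.1⁻¹ = x₀.1 * x₀.2 * x₀.1⁻¹ := hx.2.trans e₀.symm
    refine Finset.mem_coe.2 ((ht _).2 (h (x₀.1⁻¹ * x.1) x.2 hy ?_))
    have : x₀.1⁻¹ * x.1 * x.2 * (x₀.1⁻¹ * x.1)⁻¹ = x₀.2 := by
      calc x₀.1⁻¹ * x.1 * x.2 * (x₀.1⁻¹ * x.1)⁻¹ = x₀.1⁻¹ * (x.1 * x.2 * x.1⁻¹) * x₀.1 := by group
        _ = _ := by rw [e']; group
    rw [this]
    exact (Finset.mem_product.1 hx₀).2
  · rw [Finset.mem_coe, Finset.mem_filter] at hx hy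
    have e1 : x.1 = y.1 := mul_left_cancel e
    have e2 := hx.2.trans hy.2.symm
    rw [e1, mul_left_inj, mul_right_inj] at e2
    exact Prod.ext e1 e2

/-- The normalizer of a subgroup of prime order is at most `q - 1` times its centralizer. -/
theorem card_normalizer_zpowers_le [Finite G] {x : G} {q : ℕ} (hq : q.Prime) (hx : orderOf x = q) :
    Nat.card (normalizer (zpowers x : Set G)) ≤
      (q - 1) * Nat.card (centralizer ({x} : Set G)) := by
  have := Fintype.ofFinite G
  have hx1 : x ≠ 1 := fun e => hq.ne_one (by rw [← hx, e, orderOf_one])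
  set s : Finset G := Finset.univ.filter fun g => g ∈ normalizer (zpowers x : Set G) with hs
  have hsc : s.card = Nat.card (normalizer (zpowers x : Set G)) := by
    rw [Nat.card_eq_fintype_card, Fintype.card_subtype]
  set r : Finset G := Finset.univ.filter fun y => y ∈ zpowers x ∧ y ≠ 1 with hr
  have hrc : r.card ≤ q - 1 := by
    have h1 : insert 1 r = Finset.univ.filter (fun y => y ∈ zpowers x) := by
      ext y
      simp only [Finset.mem_insert, hr, Finset.mem_filter, Finset.mem_univ, true_and]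
      by_cases hy : y = 1
      · simp [hy]
      · simp [hy]
    have h2 : (Finset.univ.filter (fun y => y ∈ zpowers x)).card = q := by
      rw [← hx, ← Nat.card_zpowers, Nat.card_eq_fintype_card, Fintype.card_subtype]
    have h3 := Finset.card_insert_of_notMem (show (1 : G) ∉ r by simp [hr])
    rw [h1, h2] at h3
    omega
  rw [← hsc]
  refine (Finset.card_le_mul_card_image (f := fun g => g * x * g⁻¹) s
    (Nat.card (centralizer ({x} : Set G))) fun z _ => ?_).trans ?_
  · by_cases he : ∃ g₀ ∈ s, g₀ * x * g₀⁻¹ = z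
    swap
    · rw [Finset.filter_eq_empty_iff.2 fun g hg e => he ⟨g, hg, e⟩]; simp
    obtain ⟨g₀, -, e₀⟩ := he
    rw [Nat.card_eq_fintype_card, Fintype.card_subtype]
    refine Finset.card_le_card_of_injOn (fun g => g₀⁻¹ * g) (fun g hg => ?_)
      fun g _ g' _ e => mul_left_cancel e
    rw [Finset.mem_coe, Finset.mem_filter] at hg ⊢
    refine ⟨Finset.mem_univ _, mem_centralizer_singleton_iff.2 (mul_inv_eq_iff_eq_mul.1 ?_)⟩
    calc g₀⁻¹ * g * x * (g₀⁻¹ * g)⁻¹ = g₀⁻¹ * (g * x * g⁻¹) * g₀ := by group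
      _ = x := by rw [hg.2, ← e₀]; group
  · rw [mul_comm (q - 1)]
    refine Nat.mul_le_mul_left _ (le_trans (Finset.card_le_card fun z hz => ?_) hrc)
    obtain ⟨g, hg, rfl⟩ := Finset.mem_image.1 hz
    rw [hs, Finset.mem_filter] at hg
    rw [hr, Finset.mem_filter]
    exact ⟨Finset.mem_univ _, (mem_normalizer_iff.1 hg.2 x).1 (mem_zpowers x),
      fun e => hx1 (conj_eq_one_iff.1 e)⟩

/-- At least `|G| / q` elements have order divisible by `q`, when commuting elements of order `q`
generate the same subgroup. -/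
theorem card_le_mul_singular [Fintype G] {q : ℕ} (hq : q.Prime) (hdvd : q ∣ Nat.card G)
    (huniq : ∀ x y : G, orderOf x = q → orderOf y = q → Commute x y → y ∈ zpowers x) :
    Fintype.card G ≤ q * (Finset.univ.filter fun g : G => q ∣ orderOf g).card := by
  have := Fact.mk hq
  obtain ⟨x, hx⟩ := exists_prime_orderOf_dvd_card' (G := G) q hdvd
  set C := centralizer ({x} : Set G) with hC
  have hmemC : ∀ y, y ∈ C ↔ Commute y x := fun y => mem_centralizer_singleton_iff
  set Cs : Finset G := Finset.univ.filter fun y => y ∈ C with hCs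
  have hCc : Cs.card = Nat.card C := by rw [Nat.card_eq_fintype_card, Fintype.card_subtype]
  set s : Finset G := Cs.filter fun y => q ∣ orderOf y with hs
  set s' : Finset G := Cs.filter fun y => ¬ q ∣ orderOf y with hs'
  -- the subgroup of order `q` of a singular element
  have hpow : ∀ y ∈ s, zpowers (y ^ (orderOf y / q)) = zpowers x ∧
      orderOf (y ^ (orderOf y / q)) = q := by
    intro y hy
    rw [hs, hCs, Finset.mem_filter, Finset.mem_filter] at hy
    have ho : orderOf (y ^ (orderOf y / q)) = q := orderOf_pow_orderOf_div (orderOf_pos y).ne' hy.2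
    refine ⟨eq_of_le_of_card_ge (zpowers_le.2 (huniq x _ hx ho
      (((hmemC y).1 hy.1.2).symm.pow_right _))) ?_, ho⟩
    rw [Nat.card_zpowers, Nat.card_zpowers, hx, ho]
  have hfus : ∀ g : G, ∀ y ∈ s, g * y * g⁻¹ ∈ s → g ∈ normalizer (zpowers x : Set G) := by
    intro g y hy hgy
    obtain ⟨h1, -⟩ := hpow y hy
    obtain ⟨h2, -⟩ := hpow _ hgy
    rw [orderOf_conj', conj_pow] at h2
    refine mem_normalizer_iff_of_finite fun z hz => ?_
    rw [← h1] at hz
    obtain ⟨i, rfl⟩ := mem_zpowers_iff.1 hz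
    rw [← conj_zpow, ← h2]
    exact zpow_mem (mem_zpowers _) i
  have hN := card_mul_le_conjSet _ s hfus
  have hNle := card_normalizer_zpowers_le hq hx
  have hU : (conjSet s).card ≤ (Finset.univ.filter fun g : G => q ∣ orderOf g).card :=
    Finset.card_le_card fun z hz => by
      obtain ⟨y, hy, e⟩ := orderOf_mem_conjSet hz
      rw [hs, Finset.mem_filter] at hy
      exact Finset.mem_filter.2 ⟨Finset.mem_univ _, e ▸ hy.2⟩
  -- at most `1/q` of `C` is regular
  have hreg : q * s'.card ≤ Cs.card := by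
    rw [← Finset.card_range q, ← Finset.card_product]
    refine Finset.card_le_card_of_injOn (fun v : ℕ × G => x ^ v.1 * v.2) (fun v hv => ?_)
      fun v hv w hw e => ?_
    · rw [Finset.mem_coe, Finset.mem_product, hs', Finset.mem_filter, hCs, Finset.mem_filter] at hv
      rw [Finset.mem_coe, hCs, Finset.mem_filter]
      exact ⟨Finset.mem_univ _, mul_mem (pow_mem ((hmemC x).2 (Commute.refl x)) _) hv.2.1.2⟩
    · rw [Finset.mem_coe, Finset.mem_product, hs', Finset.mem_filter, hCs, Finset.mem_filter,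
        Finset.mem_range] at hv hw
      have e' : x ^ v.1 * v.2 = x ^ w.1 * w.2 := e
      have hcv : Commute v.2 x := (hmemC _).1 hv.2.1.2
      have hcw : Commute w.2 x := (hmemC _).1 hw.2.1.2
      -- raise to a common multiple of the orders prime to `q`
      set m := orderOf v.2 * orderOf w.2 with hm
      have h1 : (x ^ v.1) ^ m = (x ^ w.1) ^ m := by
        have := congrArg (· ^ m) e'
        simp only [(hcv.symm.pow_left v.1).mul_pow, (hcw.symm.pow_left w.1).mul_pow] at this
        rwa [hm, pow_mul v.2, pow_orderOf_eq_one, one_pow, mul_one, mul_comm (orderOf v.2),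
          pow_mul w.2, pow_orderOf_eq_one, one_pow, mul_one, mul_comm (orderOf w.2)] at this
      have hqm : ¬ q ∣ m := fun hd => (hq.dvd_mul.1 hd).elim hv.2.2 hw.2.2
      rw [← pow_mul, ← pow_mul, pow_eq_pow_iff_modEq, hx] at h1
      have h2 : v.1 ≡ w.1 [MOD q] :=
        Nat.ModEq.cancel_right_of_coprime ((hq.coprime_iff_not_dvd).2 hqm) h1
      have h3 : v.1 = w.1 := h2.eq_of_lt_of_lt hv.1 hw.1
      exact Prod.ext h3 (mul_left_cancel (h3 ▸ e'))
  have hsplit : s.card + s'.card = Cs.card := Finset.card_filter_add_card_filter_not _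
  rw [hCc] at hreg hsplit
  have hCpos : 0 < Nat.card C := Nat.card_pos
  have hq1 : (1 : ℕ) ≤ q := hq.one_le
  set M := (Finset.univ.filter fun g : G => q ∣ orderOf g).card
  have hs1 : (q - 1) * Nat.card C ≤ q * s.card := by
    zify [hq1]; nlinarith
  have h4 : Fintype.card G * ((q - 1) * Nat.card C) ≤ (q * M) * ((q - 1) * Nat.card C) := by
    calc Fintype.card G * ((q - 1) * Nat.card C) ≤ Fintype.card G * (q * s.card) :=
          Nat.mul_le_mul_left _ hs1
      _ = q * (Fintype.card G * s.card) := by ring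
      _ ≤ q * (((q - 1) * Nat.card C) * M) :=
          Nat.mul_le_mul_left _ (hN.trans (Nat.mul_le_mul hNle hU))
      _ = _ := by ring
  exact Nat.le_of_mul_le_mul_right h4 (Nat.mul_pos (by have := hq.two_le; omega) hCpos)

/-- The five families fill more than the whole group. -/
private theorem sum_gt {g b a q u₁ u₂ u₃ u₄ u₅ : ℚ} (hq : 5 ≤ q)
    (hab : b = q + 1 ∧ 2 * a + 1 = q ∨ b + 1 = q ∧ 2 * a = q + 1) (hg : 0 ≤ g)
    (q1 : g * (2 * b - 2) ≤ 4 * b * u₁) (q2 : g * (2 * a) ≤ 6 * a * u₂)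
    (q3 : g * (a - 1) ≤ 24 * a * u₃) (q4 : g * (a - 1) ≤ 8 * a * u₄)
    (q5 : g ≤ q * u₅) (q0 : u₁ + u₂ + u₃ + u₄ + u₅ + 1 ≤ g) : False := by
  obtain ⟨hb0, ha0, hle⟩ : 0 < b ∧ 0 < a ∧ (6 * a + 2 * b) * q ≤ 2 * b * (6 * a) := by
    have hq5 : 0 ≤ (q - 5) * q := mul_nonneg (by linarith) (by linarith)
    rcases hab with ⟨rfl, h'⟩ | ⟨h, h'⟩
    · obtain rfl : a = (q - 1) / 2 := by linarith
      refine ⟨by linarith, by linarith, ?_⟩
      linarith
    · obtain rfl : b = q - 1 := by linarith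
      obtain rfl : a = (q + 1) / 2 := by linarith
      refine ⟨by linarith, by linarith, ?_⟩
      linarith
  -- clear denominators
  have hq0 : 0 < q := by linarith
  have h1 := mul_le_mul_of_nonneg_left q1 (show (0 : ℚ) ≤ 6 * a * q by positivity)
  have h2 := mul_le_mul_of_nonneg_left q2 (show (0 : ℚ) ≤ 4 * b * q by positivity)
  have h3 := mul_le_mul_of_nonneg_left q3 (show (0 : ℚ) ≤ b * q by positivity)
  have h4 := mul_le_mul_of_nonneg_left q4 (show (0 : ℚ) ≤ 3 * b * q by positivity)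
  have h5 := mul_le_mul_of_nonneg_left q5 (show (0 : ℚ) ≤ 24 * a * b by positivity)
  have h0 := mul_le_mul_of_nonneg_left q0 (show (0 : ℚ) ≤ 24 * a * b * q by positivity)
  have hk := mul_le_mul_of_nonneg_left hle hg
  have hpos : 0 < 24 * a * b * q := by positivity
  linarith

/-- **The count.**  `T` is a torus of order `2 β` on `t`, `W` an extension by `3` of a torus `A` of
order `α`, with fusion controlled by subgroups of the orders of their normalizers.  This is
impossible when `q` divides `|G|` and `{2 α, β} = {q - 1, q + 1}`. -/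
theorem count_false [Finite G] {q α β : ℕ} (hq : q.Prime) (hq5 : 5 ≤ q)
    (hαβ : β = q + 1 ∧ 2 * α + 1 = q ∨ β + 1 = q ∧ 2 * α = q + 1) (hα : Odd α)
    (hdvd : q ∣ Nat.card G)
    (huniq : ∀ x y : G, orderOf x = q → orderOf y = q → Commute x y → y ∈ zpowers x)
    {t : G} (ht : orderOf t = 2) (T NT W A NW NA : Subgroup G) (htT : t ∈ T)
    (hT : Nat.card T = 2 * β) (hTord : ∀ y ∈ T, orderOf y ∣ 6 * α → y = 1 ∨ y = t)
    (hTfus : ∀ g : G, ∀ y ∈ T, y ≠ 1 → y ≠ t → g * y * g⁻¹ ∈ T → g ∈ NT)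
    (hNT : Nat.card NT ≤ 4 * β)
    (hW : Nat.card W = 3 * α) (hA : Nat.card A = α) (hAW : A ≤ W)
    (hWA : ∀ y ∈ W, orderOf y ∣ α → y ∈ A)
    (hWfus : ∀ g : G, ∀ y ∈ W, y ∉ A → g * y * g⁻¹ ∈ W → g ∈ NW) (hNW : Nat.card NW ≤ 6 * α)
    (hAfus : ∀ g : G, ∀ y ∈ A, y ≠ 1 → g * y * g⁻¹ ∈ A → g ∈ NA)
    (hNA : Nat.card NA ≤ 24 * α)
    (hAt : ∀ y ∈ A, Commute y t)
    (hNAt : Nat.card (NA ⊓ centralizer ({t} : Set G) : Subgroup G) ≤ 8 * α) : False := by
  have := Fintype.ofFinite G
  have ht1 : t ≠ 1 := fun e => by rw [e, orderOf_one] at ht; omega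
  have hαpos : 0 < α := hα.pos
  have hqα : ¬ q ∣ 6 * α := fun hd => by
    rcases hq.dvd_mul.1 hd with h6 | h6
    · have := Nat.le_of_dvd (by norm_num) h6
      interval_cases q <;> simp_all (config := {decide := true})
    · have := Nat.le_of_dvd hαpos h6
      omega
  have hqβ : ¬ q ∣ 2 * β := fun hd => by
    rcases hq.dvd_mul.1 hd with h2 | h2
    · have := Nat.le_of_dvd (by norm_num) h2; omega
    · rcases hαβ with ⟨h, -⟩ | ⟨h, -⟩
      · have h' := (Nat.dvd_add_right dvd_rfl).1 (h ▸ h2)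
        have := Nat.le_of_dvd one_pos h'; omega
      · have := Nat.le_of_dvd (by omega) h2; omega
  -- the five sets
  set sT : Finset G := Finset.univ.filter fun y => y ∈ T ∧ y ≠ 1 ∧ y ≠ t with hsT
  set sW : Finset G := Finset.univ.filter fun y => y ∈ W ∧ y ∉ A with hsW
  set sA : Finset G := Finset.univ.filter fun y => y ∈ A ∧ y ≠ 1 with hsA
  set sAt : Finset G := sA.image fun y => y * t with hsAt
  set sQ : Finset G := Finset.univ.filter fun g => q ∣ orderOf g with hsQ
  have hcard : ∀ H : Subgroup G, (Finset.univ.filter fun y => y ∈ H).card = Nat.card H := fun H => by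
    rw [Nat.card_eq_fintype_card, Fintype.card_subtype]
  have hsTc : sT.card + 2 = 2 * β := by
    rw [← hT, ← hcard T]
    have h1 : (Finset.univ.filter fun y => y ∈ T) = insert 1 (insert t sT) := by
      ext y
      simp only [Finset.mem_insert, hsT, Finset.mem_filter, Finset.mem_univ, true_and]
      constructor
      · intro h; tauto
      · rintro (rfl | rfl | h)
        · exact T.one_mem
        · exact htT
        · exact h.1
    rw [h1, Finset.card_insert_of_notMem (by simp [hsT, ht1.symm]),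
      Finset.card_insert_of_notMem (by simp [hsT])]
  have hsWc : sW.card + α = 3 * α := by
    rw [← hW, ← hcard W]
    conv_lhs => rw [← hA, ← hcard A]
    rw [← Finset.card_union_of_disjoint (Finset.disjoint_left.2 fun y h1 h2 =>
      (Finset.mem_filter.1 h1).2.2 (Finset.mem_filter.1 h2).2)]
    congr 1
    ext y
    simp only [Finset.mem_union, hsW, Finset.mem_filter, Finset.mem_univ, true_and]
    constructor
    · rintro (h | h)
      · exact h.1
      · exact hAW h
    · intro h; tauto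
  have hsAc : sA.card + 1 = α := by
    rw [← hA, ← hcard A]
    have h1 : (Finset.univ.filter fun y => y ∈ A) = insert 1 sA := by
      ext y
      simp only [Finset.mem_insert, hsA, Finset.mem_filter, Finset.mem_univ, true_and]
      constructor
      · intro h; tauto
      · rintro (rfl | h)
        · exact A.one_mem
        · exact h.1
    rw [h1, Finset.card_insert_of_notMem (by simp [hsA])]
  have hsAtc : sAt.card = sA.card :=
    Finset.card_image_of_injective _ fun a b e => mul_right_cancel e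
  have hAord : ∀ y ∈ A, orderOf y ∣ α := fun y hy => hA ▸ Subgroup.orderOf_dvd_natCard A hy
  have hordAt : ∀ y ∈ A, orderOf (y * t) = orderOf y * 2 := fun y hy => by
    rw [(hAt y hy).orderOf_mul_eq_mul_orderOf_of_coprime, ht]
    rw [ht]; exact Nat.coprime_two_right.2 (hα.of_dvd_nat (hAord y hy))
  -- the conjugates
  have h1 := card_mul_le_conjSet NT sT fun g y hy hgy => by
    rw [hsT, Finset.mem_filter] at hy hgy
    exact hTfus g y hy.2.1 hy.2.2.1 hy.2.2.2 hgy.2.1
  have h2 := card_mul_le_conjSet NW sW fun g y hy hgy => by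
    rw [hsW, Finset.mem_filter] at hy hgy
    exact hWfus g y hy.2.1 hy.2.2 hgy.2.1
  have h3 := card_mul_le_conjSet NA sA fun g y hy hgy => by
    rw [hsA, Finset.mem_filter] at hy hgy
    exact hAfus g y hy.2.1 hy.2.2 hgy.2.1
  have h4 := card_mul_le_conjSet (NA ⊓ centralizer ({t} : Set G)) sAt fun g z hz hgz => by
    obtain ⟨y, hy, rfl⟩ := Finset.mem_image.1 hz
    obtain ⟨y', hy', e⟩ := Finset.mem_image.1 hgz
    rw [hsA, Finset.mem_filter] at hy hy'
    obtain ⟨j, hj⟩ := hα
    have hodd : ∀ a ∈ A, (a * t) ^ α = t := fun a ha => by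
      rw [(hAt a ha).mul_pow, orderOf_dvd_iff_pow_eq_one.1 (hAord a ha), one_mul, hj, pow_succ,
        pow_mul, show t ^ 2 = 1 by rw [← ht]; exact pow_orderOf_eq_one t, one_pow, one_mul]
    have hgt : g * t * g⁻¹ = t := by
      have h := hodd y' hy'.2.1
      rwa [e, conj_pow, hodd y hy.2.1] at h
    refine ⟨hAfus g y hy.2.1 hy.2.2 ?_, mem_centralizer_singleton_iff.2 (mul_inv_eq_iff_eq_mul.1 hgt)⟩
    have : g * y * g⁻¹ * t = y' * t := by
      calc g * y * g⁻¹ * t = g * y * g⁻¹ * (g * t * g⁻¹) := by rw [hgt]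
        _ = y' * t := by rw [e]; group
    rw [mul_right_cancel this]; exact hy'.2.1
  have h5 := card_le_mul_singular hq hdvd huniq
  rw [← hsQ] at h5
  -- they are disjoint and avoid `1`
  set uT := conjSet sT with huT
  set uW := conjSet sW with huW
  set uA := conjSet sA with huA
  set uAt := conjSet sAt with huAt
  have oT : ∀ z ∈ uT, orderOf z ∣ 2 * β ∧ ¬ orderOf z ∣ 6 * α := fun z hz => by
    obtain ⟨y, hy, e⟩ := orderOf_mem_conjSet hz
    rw [hsT, Finset.mem_filter] at hy
    exact e ▸ ⟨hT ▸ Subgroup.orderOf_dvd_natCard T hy.2.1,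
      fun h => (hTord y hy.2.1 h).elim hy.2.2.1 hy.2.2.2⟩
  have oW : ∀ z ∈ uW, orderOf z ∣ 3 * α ∧ ¬ orderOf z ∣ α := fun z hz => by
    obtain ⟨y, hy, e⟩ := orderOf_mem_conjSet hz
    rw [hsW, Finset.mem_filter] at hy
    exact e ▸ ⟨hW ▸ Subgroup.orderOf_dvd_natCard W hy.2.1, fun h => hy.2.2 (hWA y hy.2.1 h)⟩
  have oA : ∀ z ∈ uA, orderOf z ∣ α ∧ orderOf z ≠ 1 := fun z hz => by
    obtain ⟨y, hy, e⟩ := orderOf_mem_conjSet hz
    rw [hsA, Finset.mem_filter] at hy
    exact e ▸ ⟨hAord y hy.2.1, fun h => hy.2.2 (orderOf_eq_one_iff.1 h)⟩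
  have oAt : ∀ z ∈ uAt, orderOf z ∣ 2 * α ∧ 2 ∣ orderOf z := fun z hz => by
    obtain ⟨w, hw, e⟩ := orderOf_mem_conjSet hz
    obtain ⟨y, hy, rfl⟩ := Finset.mem_image.1 hw
    rw [hsA, Finset.mem_filter] at hy
    rw [e, hordAt y hy.2.1, mul_comm 2 α]
    exact ⟨Nat.mul_dvd_mul_right (hAord y hy.2.1) 2, dvd_mul_left 2 _⟩
  have oQ : ∀ z ∈ sQ, q ∣ orderOf z := fun z hz => (Finset.mem_filter.1 hz).2
  have d36 : 3 * α ∣ 6 * α := Nat.mul_dvd_mul_right (by norm_num) α
  have d26 : 2 * α ∣ 6 * α := Nat.mul_dvd_mul_right (by norm_num) α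
  have da6 : α ∣ 6 * α := dvd_mul_left α 6
  have hα2 : ¬ 2 ∣ α := fun h => Nat.not_even_iff_odd.2 hα (even_iff_two_dvd.2 h)
  have h3α : ¬ 2 ∣ 3 * α := fun h => by
    rcases Nat.prime_two.dvd_mul.1 h with h | h
    · norm_num at h
    · exact hα2 h
  have dTW : Disjoint uT uW := Finset.disjoint_left.2 fun z a b => (oT z a).2 ((oW z b).1.trans d36)
  have dTA : Disjoint uT uA := Finset.disjoint_left.2 fun z a b => (oT z a).2 ((oA z b).1.trans da6)
  have dTAt : Disjoint uT uAt :=
    Finset.disjoint_left.2 fun z a b => (oT z a).2 ((oAt z b).1.trans d26)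
  have dTQ : Disjoint uT sQ := Finset.disjoint_left.2 fun z a b => hqβ ((oQ z b).trans (oT z a).1)
  have dWA : Disjoint uW uA := Finset.disjoint_left.2 fun z a b => (oW z a).2 (oA z b).1
  have dWAt : Disjoint uW uAt :=
    Finset.disjoint_left.2 fun z a b => h3α ((oAt z b).2.trans (oW z a).1)
  have dWQ : Disjoint uW sQ :=
    Finset.disjoint_left.2 fun z a b => hqα ((oQ z b).trans ((oW z a).1.trans d36))
  have dAAt : Disjoint uA uAt :=
    Finset.disjoint_left.2 fun z a b => hα2 ((oAt z b).2.trans (oA z a).1)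
  have dAQ : Disjoint uA sQ :=
    Finset.disjoint_left.2 fun z a b => hqα ((oQ z b).trans ((oA z a).1.trans da6))
  have dAtQ : Disjoint uAt sQ :=
    Finset.disjoint_left.2 fun z a b => hqα ((oQ z b).trans ((oAt z a).1.trans d26))
  have d1 : Disjoint (uT ∪ uW) uA := Finset.disjoint_union_left.2 ⟨dTA, dWA⟩
  have d2 : Disjoint (uT ∪ uW ∪ uA) uAt :=
    Finset.disjoint_union_left.2 ⟨Finset.disjoint_union_left.2 ⟨dTAt, dWAt⟩, dAAt⟩
  have d3 : Disjoint (uT ∪ uW ∪ uA ∪ uAt) sQ := Finset.disjoint_union_left.2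
    ⟨Finset.disjoint_union_left.2 ⟨Finset.disjoint_union_left.2 ⟨dTQ, dWQ⟩, dAQ⟩, dAtQ⟩
  have hlt : uT.card + uW.card + uA.card + uAt.card + sQ.card + 1 ≤ Fintype.card G := by
    rw [← Finset.card_union_of_disjoint dTW, ← Finset.card_union_of_disjoint d1,
      ← Finset.card_union_of_disjoint d2, ← Finset.card_union_of_disjoint d3,
      ← Finset.card_insert_of_notMem (a := (1 : G)) ?_]
    · exact Finset.card_le_univ _
    · simp only [Finset.mem_union, not_or]
      refine ⟨⟨⟨⟨fun h => (oT 1 h).2 (by simp), fun h => (oW 1 h).2 (by simp)⟩,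
        fun h => (oA 1 h).2 orderOf_one⟩, fun h => ?_⟩, fun h => ?_⟩
      · have := (oAt 1 h).2; rw [orderOf_one] at this; omega
      · have := oQ 1 h; rw [orderOf_one] at this
        exact hq.ne_one (Nat.dvd_one.1 this)
  -- the inequalities
  have k1 : Fintype.card G * sT.card ≤ 4 * β * uT.card := h1.trans (Nat.mul_le_mul_right _ hNT)
  have k2 : Fintype.card G * sW.card ≤ 6 * α * uW.card := h2.trans (Nat.mul_le_mul_right _ hNW)
  have k3 : Fintype.card G * sA.card ≤ 24 * α * uA.card := h3.trans (Nat.mul_le_mul_right _ hNA)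
  have k4 : Fintype.card G * sA.card ≤ 8 * α * uAt.card :=
    hsAtc ▸ h4.trans (Nat.mul_le_mul_right _ hNAt)
  have eT : (sT.card : ℚ) = 2 * β - 2 := eq_sub_of_add_eq (by exact_mod_cast hsTc)
  have eW : (sW.card : ℚ) = 2 * α := by
    have : sW.card = 2 * α := by omega
    exact_mod_cast this
  have eA : (sA.card : ℚ) = α - 1 := eq_sub_of_add_eq (by exact_mod_cast hsAc)
  have q1 : (Fintype.card G : ℚ) * sT.card ≤ 4 * β * uT.card := by exact_mod_cast k1
  have q2 : (Fintype.card G : ℚ) * sW.card ≤ 6 * α * uW.card := by exact_mod_cast k2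
  have q3 : (Fintype.card G : ℚ) * sA.card ≤ 24 * α * uA.card := by exact_mod_cast k3
  have q4 : (Fintype.card G : ℚ) * sA.card ≤ 8 * α * uAt.card := by exact_mod_cast k4
  have q5 : (Fintype.card G : ℚ) ≤ q * sQ.card := by exact_mod_cast h5
  have q0 : (uT.card : ℚ) + uW.card + uA.card + uAt.card + sQ.card + 1 ≤ Fintype.card G := by
    exact_mod_cast hlt
  rw [eT] at q1; rw [eW] at q2; rw [eA] at q3 q4
  refine sum_gt (b := (β : ℚ)) (a := (α : ℚ)) (q := (q : ℚ)) (by exact_mod_cast hq5) ?_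
    (by positivity) q1 q2 q3 q4 q5 q0
  rcases hαβ with ⟨h, h'⟩ | ⟨h, h'⟩
  · exact Or.inl ⟨by exact_mod_cast h, by exact_mod_cast h'⟩
  · exact Or.inr ⟨by exact_mod_cast h, by exact_mod_cast h'⟩

end CfsgLib.S4069
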