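import Mathlib
import Cfsg.Prelude.Def_FusionSystem
import Cfsg.Prelude.Def_CaseTheorems

/-!
# Groups with cyclic Sylow subgroups for odd primes: the vocabulary of the semidihedral case

`Shape` is the conclusion for nonsolvable groups, `SDMin` the semidihedral configuration to be
refuted, `Frame` the local data at a four-group, `Big` and `Three` the two shapes of an involution
centralizer and `Tori` what the element count needs from it.
-/

set_option autoImplicit false

namespace CfsgLib.S4069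

open Subgroup
open scoped MatrixGroups

universe u

/-- Cyclic Sylow subgroups for odd primes, a cyclic subgroup of index at most two for the prime
two. -/
structure AlmostCyclic (G : Type u) [Group G] : Prop where
  odd : ∀ p : ℕ, p.Prime → p ≠ 2 → ∀ P : Sylow p G, IsCyclic P
  two : ∀ S : Sylow 2 G, ∃ C : Subgroup ↥(S : Subgroup G), IsCyclic C ∧ C.index ∣ 2

/-- The structure of a nonsolvable such group. -/
def Shape (G : Type u) [Group G] : Prop :=
  ∃ X L : Subgroup G, X.Normal ∧ L.Normal ∧ X ⊓ L = ⊥ ∧ (X ⊔ L).index ∣ 2 ∧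
    Odd (Nat.card X) ∧ (Nat.card X).Coprime (Nat.card L) ∧
    ∃ (p : ℕ) (_ : Fact p.Prime), 5 ≤ p ∧
      (Nonempty (↥L ≃* Matrix.ProjectiveSpecialLinearGroup (Fin 2) (ZMod p)) ∨
        Nonempty (↥L ≃* Matrix.SpecialLinearGroup (Fin 2) (ZMod p)))

/-- The semidihedral configuration to be refuted. -/
structure SDMin (G : Type u) [Group G] [Finite G] : Prop where
  simple : IsSimpleGroup G
  cyc : AlmostCyclic G
  known : ∀ H : Subgroup G, H ≠ ⊤ → ¬ Group.IsSolvable H → Shape H
  sd : ∀ S : Sylow 2 G, Cfsg.IsQuasiDihedral (S : Subgroup G)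

/-- A Sylow subgroup with central involution `t`, a four-group `⟨t, i⟩`, an element of `P` exchanging
`i` and `t * i` and an element of `3`-power order rotating the four-group. -/
structure Frame (G : Type u) [Group G] where
  P : Sylow 2 G
  t : G
  i : G
  v : G
  g : G
  t_two : orderOf t = 2
  i_two : orderOf i = 2
  i_ne : i ≠ t
  t_comm : ∀ x ∈ (P : Subgroup G), Commute x t
  t_derived : t ∈ ⁅(P : Subgroup G), (P : Subgroup G)⁆
  i_mem : i ∈ (P : Subgroup G)
  v_mem : v ∈ (P : Subgroup G)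
  v_i : v * i * v⁻¹ = t * i
  g_pow : ∃ k : ℕ, g ^ 3 ^ k = 1
  g_t : g * t * g⁻¹ = i
  g_i : g * i * g⁻¹ = t * i
  one_class : ∀ s : G, orderOf s = 2 → IsConj t s
  /-- the centralizer of `t` is the only maximal subgroup over `P` -/
  le_cent : ∀ H : Subgroup G, H ≠ ⊤ → (P : Subgroup G) ≤ H → H ≤ centralizer ({t} : Set G)
  /-- so nothing of odd order is normalised by `P` and `g` -/
  eq_bot : ∀ K : Subgroup G, Odd (Nat.card K) → (P : Subgroup G) ≤ normalizer (K : Set G) →
    g ∈ normalizer (K : Set G) → K = ⊥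

/-- The centralizer of `t` is an odd extension by `GL(2, 3)`. -/
def Three {G : Type u} [Group G] (F : Frame G) : Prop :=
  ∃ π : centralizer ({F.t} : Set G) →* GL (Fin 2) (ZMod 3),
    Function.Surjective π ∧ Odd (Nat.card π.ker)

/-- The centralizer of `t` is `(O × L) ⟨i⟩` with `L ≅ SL(2, q)`. -/
structure Big {G : Type u} [Group G] (F : Frame G) where
  q : ℕ
  [prime : Fact q.Prime]
  five_le : 5 ≤ q
  O : Subgroup G
  L : Subgroup G
  O_le : O ≤ centralizer ({F.t} : Set G)
  L_le : L ≤ centralizer ({F.t} : Set G)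
  O_norm : centralizer ({F.t} : Set G) ≤ normalizer (O : Set G)
  L_norm : centralizer ({F.t} : Set G) ≤ normalizer (L : Set G)
  O_odd : Odd (Nat.card O)
  coprime : (Nat.card O).Coprime (Nat.card L)
  comm : ∀ x ∈ O, ∀ y ∈ L, Commute x y
  iso : Nonempty (↥L ≃* Matrix.SpecialLinearGroup (Fin 2) (ZMod q))
  t_mem : F.t ∈ L
  i_not_mem : F.i ∉ O ⊔ L
  decomp : ∀ c : G, Commute c F.t →
    ∃ o ∈ O, ∃ l ∈ L, c = o * l ∨ c = o * l * F.i

attribute [instance] Big.prime

/-- What the element count needs: the torus `A` of order `α` centralised by `i` and the cyclic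
torus `T` of order `2 β` through `t`. -/
structure Tori {G : Type u} [Group G] (F : Frame G) where
  q : ℕ
  α : ℕ
  β : ℕ
  q_prime : q.Prime
  five_le : 5 ≤ q
  αβ : β = q + 1 ∧ 2 * α + 1 = q ∨ β + 1 = q ∧ 2 * α = q + 1
  α_odd : Odd α
  q_dvd : q ∣ Nat.card G
  O : Subgroup G
  A : Subgroup G
  T : Subgroup G
  O_le : O ≤ centralizer ({F.t} : Set G)
  A_le : A ≤ centralizer ({F.t} : Set G)
  T_le : T ≤ centralizer ({F.t} : Set G)
  O_norm : centralizer ({F.t} : Set G) ≤ normalizer (O : Set G)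
  O_odd : Odd (Nat.card O)
  O_coprime : (Nat.card O).Coprime (q * (q * q - 1))
  A_card : Nat.card A = α
  A_cyclic : IsCyclic A
  A_i : ∀ a ∈ A, Commute a F.i
  O_A : ∀ x ∈ O, ∀ a ∈ A, Commute x a
  O_T : ∀ x ∈ O, ∀ y ∈ T, Odd (orderOf y) → Commute x y
  /-- `P` centralises the fixed points of `i` on `O` -/
  O_fix : ∀ x ∈ O, Commute x F.i → ∀ y ∈ (F.P : Subgroup G), Commute x y
  cent_i : ∀ c : G, Commute c F.t → Commute c F.i →
    ∃ o ∈ O, Commute o F.i ∧ ∃ a ∈ A, ∃ w ∈ closure ({F.t, F.i} : Set G), c = o * a * w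
  cent_A : ∀ a ∈ A, a ≠ 1 → ∀ c : G, Commute c F.t → Commute c a →
    ∃ o ∈ O, ∃ y ∈ A, ∃ w ∈ closure ({F.t, F.i} : Set G), c = o * y * w
  t_T : F.t ∈ T
  T_card : Nat.card T = 2 * β
  T_cyclic : IsCyclic T
  T_norm : (F.P : Subgroup G) ≤ normalizer (T : Set G)
  cent_T : ∀ y ∈ T, y ≠ 1 → y ≠ F.t → ∀ c : G, Commute c F.t → Commute c y →
    ∃ o ∈ O, ∃ z ∈ T, c = o * z
  norm_T : Nat.card (normalizer (T : Set G) ⊓ centralizer ({F.t} : Set G) : Subgroup G) ≤
    4 * β * Nat.card O

end CfsgLib.S4069
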