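import Mathlib

/-!
# Derived elements of a 2-group centralise Z-groups of odd order
-/

set_option autoImplicit false
set_option linter.unusedSectionVars false

namespace CfsgLib.S4069

open Subgroup
open scoped commutatorElement

universe u

variable {G : Type u} [Group G] [Finite G]

/-- Elements of `⁅D, D⁆` centralise a Z-group of odd order normalised by the 2-group `D`. -/
theorem commute_of_mem_commutator {D K : Subgroup G} (hD : IsPGroup 2 D) (hK : Odd (Nat.card K))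
    [IsZGroup K] (hn : D ≤ normalizer (K : Set G)) {t : G} (ht : t ∈ ⁅D, D⁆) :
    ∀ k ∈ K, t * k * t⁻¹ = k := by
  classical
  set C := (commutator K).map K.subtype with hC
  have hCK : C ≤ K := map_subtype_le _
  haveI hCc : IsCyclic C := by
    haveI : IsCyclic (commutator K) := IsZGroup.isCyclic_commutator K
    exact isCyclic_of_surjective _
      ((commutator K).equivMapOfInjective K.subtype K.subtype_injective).surjective
  obtain ⟨c₀, hc₀⟩ := (Subgroup.isCyclic_iff_exists_zpowers_eq_top C).1 hCc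
  let φ : K →* Abelianization K := Abelianization.of
  have hφ : ∀ x : K, φ x = 1 → (x : G) ∈ C := fun x hx =>
    ⟨x, (Abelianization.ker_of K).le hx, rfl⟩
  obtain ⟨k₁, hk₁⟩ := IsCyclic.exists_generator (α := Abelianization K)
  obtain ⟨k₀, hk₀⟩ : ∃ k₀, φ k₀ = k₁ := QuotientGroup.mk_surjective k₁
  have hnK : ∀ d ∈ D, ∀ k ∈ K, d * k * d⁻¹ ∈ K := fun d hd k hk =>
    (mem_normalizer_iff.1 (hn hd) k).1 hk
  have hnC : ∀ d ∈ D, ∀ c ∈ C, d * c * d⁻¹ ∈ C := by
    intro d hd c hc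
    have e : C = ⁅K, K⁆ := map_subtype_commutator K
    rw [e] at hc ⊢
    have hmap : K.map (MulAut.conj d).toMonoidHom = K := by
      refine eq_of_le_of_card_ge ?_ ?_
      · rintro _ ⟨k, hk, rfl⟩
        exact hnK d hd k hk
      · exact le_of_eq (card_map_of_injective (f := (MulAut.conj d).toMonoidHom)
          (MulAut.conj d).injective).symm
    have h1 : d * c * d⁻¹ ∈ ⁅K, K⁆.map (MulAut.conj d).toMonoidHom := ⟨c, hc, rfl⟩
    rwa [map_commutator, hmap] at h1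
  -- every element of `D` acts by powers
  have hC1 : ∀ d ∈ D, ∃ n : ℤ, ∀ c ∈ C, d * c * d⁻¹ = c ^ n := by
    intro d hd
    have hc0 : c₀ ∈ C := hc₀ ▸ mem_zpowers c₀
    obtain ⟨n, hn'⟩ := mem_zpowers_iff.1 (hc₀.symm ▸ hnC d hd c₀ hc0 : d * c₀ * d⁻¹ ∈ zpowers c₀)
    refine ⟨n, fun c hc => ?_⟩
    obtain ⟨m, rfl⟩ := mem_zpowers_iff.1 (hc₀.symm ▸ hc : c ∈ zpowers c₀)
    rw [← conj_zpow, ← hn', ← zpow_mul, ← zpow_mul, mul_comm]
  have hC2 : ∀ d ∈ D, ∃ n : ℤ, ∀ x y : K, (y : G) = d * x * d⁻¹ → φ y = φ x ^ n := by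
    intro d hd
    let σ : K →* K :=
      { toFun := fun x => ⟨d * x * d⁻¹, hnK d hd x x.2⟩
        map_one' := Subtype.ext (show d * (1 : G) * d⁻¹ = 1 by group)
        map_mul' := fun x y => Subtype.ext
          (show d * ((x : G) * y) * d⁻¹ = d * x * d⁻¹ * (d * y * d⁻¹) by group) }
    obtain ⟨n, hn'⟩ := mem_zpowers_iff.1 (hk₁ (φ (σ k₀)))
    refine ⟨n, fun x y hxy => ?_⟩
    obtain ⟨m, hm⟩ := mem_zpowers_iff.1 (hk₁ (φ x))
    have hy : y = σ x := Subtype.ext hxy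
    have hx0 : (x * (k₀ ^ m)⁻¹ : K) ∈ commutator K := (Abelianization.ker_of K).le (by
      rw [MonoidHom.mem_ker, map_mul, map_inv, map_zpow, show Abelianization.of k₀ = k₁ from hk₀,
        hm, mul_inv_cancel])
    have h0 : φ (σ (x * (k₀ ^ m)⁻¹)) = 1 := by
      refine (Abelianization.ker_of K).ge ?_
      obtain ⟨v, hv, hv'⟩ := hnC d hd _ ⟨_, hx0, rfl⟩
      exact (Subtype.ext hv' : v = σ (x * (k₀ ^ m)⁻¹)) ▸ hv
    rw [map_mul, map_inv, map_zpow, map_mul, map_inv, map_zpow, mul_inv_eq_one] at h0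
    rw [hy, h0, ← hn', ← hm, ← zpow_mul, ← zpow_mul, mul_comm]
  -- commutators act trivially on `C` and on `K / C`
  let S : Subgroup G :=
    { carrier := {d | d ∈ D ∧ (∀ c ∈ C, d * c * d⁻¹ = c) ∧
        ∀ x y : K, (y : G) = d * x * d⁻¹ → φ y = φ x}
      one_mem' := ⟨one_mem _, fun c _ => by group, fun x y h => by
        rw [Subtype.ext (h.trans (by group) : (y : G) = x)]⟩
      mul_mem' := fun {d e} hd he => ⟨mul_mem hd.1 he.1,
        fun c hc => by
          rw [show d * e * c * (d * e)⁻¹ = d * (e * c * e⁻¹) * d⁻¹ by group, he.2.1 c hc,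
            hd.2.1 c hc],
        fun x y h => (hd.2.2 ⟨_, hnK e he.1 x x.2⟩ y (h.trans (by group))).trans
          (he.2.2 x _ rfl)⟩
      inv_mem' := fun {d} hd => ⟨inv_mem hd.1,
        fun c hc => by
          calc d⁻¹ * c * d⁻¹⁻¹ = d⁻¹ * (d * c * d⁻¹) * d := by rw [hd.2.1 c hc]; group
            _ = c := by group,
        fun x y h => (hd.2.2 y x (by rw [h]; group)).symm⟩ }
  have hDS : ⁅D, D⁆ ≤ S := by
    refine commutator_le.2 fun d hd e he => ⟨?_, ?_, ?_⟩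
    · exact mul_mem (mul_mem (mul_mem hd he) (inv_mem hd)) (inv_mem he)
    · intro c hc
      obtain ⟨n, hn'⟩ := hC1 d hd
      obtain ⟨m, hm⟩ := hC1 e he
      have hde : ∀ x ∈ C, d * (e * x * e⁻¹) * d⁻¹ = e * (d * x * d⁻¹) * e⁻¹ := fun x hx => by
        rw [hm x hx, hn' _ (zpow_mem hx m), hn' x hx, hm _ (zpow_mem hx n), ← zpow_mul, ← zpow_mul,
          mul_comm]
      have hz : d⁻¹ * (e⁻¹ * c * e) * d ∈ C := by
        have h1 := hnC _ (inv_mem he) c hc
        rw [inv_inv] at h1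
        have h2 := hnC _ (inv_mem hd) _ h1
        rwa [inv_inv] at h2
      calc ⁅d, e⁆ * c * ⁅d, e⁆⁻¹
          = d * (e * (d⁻¹ * (e⁻¹ * c * e) * d) * e⁻¹) * d⁻¹ := by
            rw [commutatorElement_def]; group
        _ = e * (d * (d⁻¹ * (e⁻¹ * c * e) * d) * d⁻¹) * e⁻¹ := hde _ hz
        _ = c := by group
    · intro x y hxy
      obtain ⟨n, hn'⟩ := hC2 d hd
      obtain ⟨m, hm⟩ := hC2 e he
      have hz : d⁻¹ * (e⁻¹ * x * e) * d ∈ K := by
        have h1 := hnK _ (inv_mem he) x x.2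
        rw [inv_inv] at h1
        have h2 := hnK _ (inv_mem hd) _ h1
        rwa [inv_inv] at h2
      set z : K := ⟨_, hz⟩
      set z1 : K := ⟨e * z * e⁻¹, hnK e he z z.2⟩
      set z2 : K := ⟨d * z * d⁻¹, hnK d hd z z.2⟩
      have e1 : φ y = φ z1 ^ n := hn' z1 y (by
        rw [hxy]; show _ = d * (e * (d⁻¹ * (e⁻¹ * (x : G) * e) * d) * e⁻¹) * d⁻¹
        rw [commutatorElement_def]; group)
      have e2 : φ x = φ z2 ^ m := hm z2 x (by
        show (x : G) = e * (d * (d⁻¹ * (e⁻¹ * (x : G) * e) * d) * d⁻¹) * e⁻¹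
        group)
      rw [e1, e2, hm z z1 rfl, hn' z z2 rfl, ← zpow_mul, ← zpow_mul, mul_comm]
  obtain ⟨htD, htC, htK⟩ := hDS ht
  intro k hk
  set x : K := ⟨k, hk⟩
  set y : K := ⟨t * k * t⁻¹, hnK t htD k hk⟩
  have hc : k⁻¹ * (t * k * t⁻¹) ∈ C := hφ (x⁻¹ * y) (by
    rw [map_mul, map_inv, htK x y rfl, inv_mul_cancel])
  obtain ⟨c, hcdef⟩ : ∃ c, c = k⁻¹ * (t * k * t⁻¹) := ⟨_, rfl⟩
  rw [← hcdef] at hc
  have e : t * k * t⁻¹ = k * c := by rw [hcdef]; group
  have hpow : ∀ i : ℕ, t ^ i * k * (t ^ i)⁻¹ = k * c ^ i := fun i => by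
    induction i with
    | zero => simp
    | succ i ih =>
      calc t ^ (i + 1) * k * (t ^ (i + 1))⁻¹ = t * (t ^ i * k * (t ^ i)⁻¹) * t⁻¹ := by
            rw [pow_succ']; group
        _ = t * k * t⁻¹ * (t * c ^ i * t⁻¹) := by rw [ih]; group
        _ = k * c ^ (i + 1) := by rw [e, htC _ (pow_mem hc i), mul_assoc, ← pow_succ']
  obtain ⟨j, hj⟩ := hD ⟨t, htD⟩
  have hj' : t ^ 2 ^ j = 1 := congrArg Subtype.val hj
  have h1 := hpow (2 ^ j)
  rw [hj', one_mul, inv_one, mul_one] at h1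
  have hcod : Odd (orderOf c) := hK.of_dvd_nat (Subgroup.orderOf_dvd_natCard K (hCK hc))
  have hc1 : c = 1 := orderOf_eq_one_iff.1 (Nat.eq_one_of_dvd_coprimes
    ((Nat.coprime_two_right.2 hcod).pow_right j) dvd_rfl
    (orderOf_dvd_of_pow_eq_one (mul_eq_left.1 h1.symm)))
  rw [e, hc1, mul_one]

end CfsgLib.S4069
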