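import Cfsg.Agent.Lib.S4069.FinalBase
import Cfsg.Agent.Lib.GW.ShapePGL
import Cfsg.Agent.Lib.Geom.RedundantPSL
import Cfsg.Agent.Lib.Classical.SLTwoSylow
import Cfsg.Agent.Lib.Solvable.HallHigman

/-!
# The semidihedral case: the tori contradict each other

The centralizers of the elements of `A` normalise the four-group when `3` divides `α`, and the
count applies; otherwise the rotation is conjugate into `T`.
-/

set_option autoImplicit false
set_option linter.unusedSectionVars false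
set_option linter.style.haveILetI false

namespace CfsgLib.S4069

open Subgroup CfsgLib.Invol
open scoped commutatorElement MatrixGroups

universe u

namespace Tori

variable {G : Type u} [Group G] [Finite G] {F : Frame G} (hS : SDMin G) (T : Tori F)

theorem i_ne_one : F.i ≠ 1 := invol_ne_one F.i_two

theorem ti_ne_one : F.t * F.i ≠ 1 := fun e => F.i_ne <| by
  rw [eq_inv_of_mul_eq_one_right e, invol_inv F.t_two]

theorem ti_ne_t : F.t * F.i ≠ F.t := fun e => i_ne_one (mul_eq_left.1 e)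

theorem ti_ne_i : F.t * F.i ≠ F.i := fun e => t_ne_one (mul_eq_right.1 e)

theorem conj_g_ti : F.g * (F.t * F.i) * F.g⁻¹ = F.t := by
  rw [← conj_mul, F.g_t, F.g_i, ← mul_assoc, (i_comm (F := F)).eq, mul_assoc, i_sq, mul_one]

theorem conj_g2_t : F.g ^ 2 * F.t * (F.g ^ 2)⁻¹ = F.t * F.i := by
  rw [pow_two, show F.g * F.g * F.t * (F.g * F.g)⁻¹ = F.g * (F.g * F.t * F.g⁻¹) * F.g⁻¹ by group,
    F.g_t, F.g_i]

theorem conj_v_t : F.v * F.t * F.v⁻¹ = F.t := by
  rw [(v_comm (F := F)).eq, mul_inv_cancel_right]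

theorem conj_v_ti : F.v * (F.t * F.i) * F.v⁻¹ = F.i := by
  rw [← conj_mul, conj_v_t, F.v_i, ← mul_assoc, t_sq, one_mul]

theorem g_norm : F.g ∈ normalizer (four F : Set G) :=
  mem_normalizer_iff_of_finite fun y hy => by
    rcases mem_four hy with rfl | rfl | rfl | rfl
    · simp
    · rw [F.g_t]; exact i_four
    · rw [F.g_i]; exact mul_mem t_four i_four
    · rw [conj_g_ti]; exact t_four

theorem v_norm : F.v ∈ normalizer (four F : Set G) :=
  mem_normalizer_iff_of_finite fun y hy => by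
    rcases mem_four hy with rfl | rfl | rfl | rfl
    · simp
    · rw [conj_v_t]; exact t_four
    · rw [F.v_i]; exact mul_mem t_four i_four
    · rw [conj_v_ti]; exact i_four

theorem A_four {a w : G} (ha : a ∈ T.A) (hw : w ∈ four F) : Commute a w :=
  four_comm (comm_t T.A_le ha) (T.A_i a ha) hw

theorem four_p : IsPGroup 2 (four F) := fun w => ⟨1, Subtype.ext (by
  rw [SubmonoidClass.coe_pow, pow_one, pow_two]; exact four_sq w.2)⟩

theorem four_card_le : Nat.card (four F) ≤ 4 := by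
  classical
  have hsub : (four F : Set G) ⊆ ({1, F.t, F.i, F.t * F.i} : Finset G) := fun w hw => by
    simpa using mem_four hw
  rw [show Nat.card (four F) = (four F : Set G).ncard from Nat.card_coe_set_eq (four F : Set G)]
  refine (Set.ncard_le_ncard hsub (Finset.finite_toSet _)).trans ?_
  rw [Set.ncard_coe_finset]
  exact (Finset.card_insert_le _ _).trans (Nat.succ_le_succ ((Finset.card_insert_le _ _).trans
    (Nat.succ_le_succ ((Finset.card_insert_le _ _).trans (by simp)))))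

theorem cop_αβ : T.α.Coprime (2 * T.β) := by
  refine Nat.Coprime.mul_right (Nat.coprime_two_right.2 T.α_odd) ?_
  have hd : T.α.gcd T.β ∣ 2 := by
    obtain ⟨d, hd⟩ : ∃ d, d = T.α.gcd T.β := ⟨_, rfl⟩
    have h1 : d ∣ 2 * T.α := (hd ▸ Nat.gcd_dvd_left T.α T.β).mul_left 2
    have h2 : d ∣ T.β := hd ▸ Nat.gcd_dvd_right T.α T.β
    rw [← hd]
    rcases T.αβ with ⟨hb, hq⟩ | ⟨hb, hq⟩
    · rw [show T.β = 2 * T.α + 2 by omega] at h2
      exact (Nat.dvd_add_right h1).1 h2
    · rw [show 2 * T.α = T.β + 2 by omega] at h1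
      exact (Nat.dvd_add_right h2).1 h1
  rcases (Nat.dvd_prime Nat.prime_two).1 hd with h | h
  · exact h
  · exact absurd ((h ▸ T.α_odd.of_dvd_nat (Nat.gcd_dvd_left _ _)) : Odd 2) (by decide)

/-- The involution of `T` is `t`. -/
theorem T_invol {y : G} (hy : y ∈ T.T) (h : orderOf y = 2) : y = F.t :=
  GW.PGL.invol_unique T.T_cyclic hy T.t_T h F.t_two

theorem g_pow_t {r : ℕ} (hr : r < 3) (h : Commute (F.g ^ r) F.t) : r = 0 := by
  have h' : F.g ^ r * F.t * (F.g ^ r)⁻¹ = F.t := by rw [h.eq, mul_inv_cancel_right]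
  interval_cases r
  · rfl
  · rw [pow_one, F.g_t] at h'; exact absurd h' F.i_ne
  · rw [conj_g2_t] at h'; exact absurd h' ti_ne_t

theorem g_pow_four {r : ℕ} (hr : r = 1 ∨ r = 2) {w : G} (hw : w ∈ four F)
    (h : Commute (F.g ^ r) w) : w = 1 := by
  have h1 : Commute F.g w := by
    rcases hr with rfl | rfl
    · rwa [pow_one] at h
    · -- `g` is a power of `g ^ 2`
      obtain ⟨k, hk⟩ := F.g_pow
      obtain ⟨m, hm⟩ := exists_pow_eq_self_of_coprime (x := F.g) (n := 2)
        ((Nat.coprime_two_left.2 ((by decide : Odd 3).pow)).coprime_dvd_right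
          (orderOf_dvd_of_pow_eq_one hk))
      exact hm ▸ h.pow_left m
  have h' : F.g * w * F.g⁻¹ = w := by rw [h1.eq, mul_inv_cancel_right]
  rcases mem_four hw with rfl | rfl | rfl | rfl
  · rfl
  · rw [F.g_t] at h'; exact absurd h' F.i_ne
  · rw [F.g_i] at h'; exact absurd h' ti_ne_i
  · rw [conj_g_ti] at h'; exact absurd h'.symm ti_ne_t

include hS

include T in
theorem center_bot : center G = ⊥ := by
  haveI := hS.simple
  refine (IsSimpleGroup.eq_bot_or_eq_top_of_normal (center G) inferInstance).resolve_right fun h => ?_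
  refine cent_ne_top (F := F) hS (eq_top_iff.2 fun x _ => mem_centralizer_singleton_iff.2 ?_)
  exact ((mem_center_iff.1 (h ▸ mem_top x : x ∈ center G)) F.t).symm

theorem g_cube : F.g ^ 3 ∈ T.A := by
  have h1 : Commute (F.g ^ 3) F.t := by
    refine commute_of_conj ?_
    rw [show F.g ^ 3 * F.t * (F.g ^ 3)⁻¹ =
      F.g * (F.g * (F.g * F.t * F.g⁻¹) * F.g⁻¹) * F.g⁻¹ by rw [pow_three]; group, F.g_t, F.g_i,
      conj_g_ti]
  have h2 : Commute (F.g ^ 3) F.i := by
    have h := h1.map (MulAut.conj F.g).toMonoidHom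
    simp only [MulEquiv.coe_toMonoidHom, MulAut.conj_apply] at h
    rwa [F.g_t, show F.g * F.g ^ 3 * F.g⁻¹ = F.g ^ 3 by group] at h
  obtain ⟨k, hk⟩ := F.g_pow
  exact T.odd_cent_four hS h1 h2 (((by decide : Odd 3).pow (n := k)).of_dvd_nat
    ((orderOf_pow_dvd 3).trans (orderOf_dvd_of_pow_eq_one hk)))

/-- A conjugation by `v` moves an element of `A` to a power of itself, never to itself. -/
theorem v_not_comm {a : G} (ha : a ∈ T.A) (ha1 : a ≠ 1) : ¬ Commute F.v a := by
  intro h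
  obtain ⟨o, ho, y, hy, w, hw, e⟩ := T.cent_A a ha ha1 F.v v_comm h
  have hyw : Commute (y * w) F.i := (T.A_i y hy).mul_left
    (four_comm (i_comm (F := F)) (Commute.refl F.i) hw).symm
  have h1 : o * F.i * o⁻¹ = F.t * F.i := by
    rw [← F.v_i, e]
    calc o * F.i * o⁻¹ = o * ((y * w) * F.i * (y * w)⁻¹) * o⁻¹ := by
          rw [hyw.eq, mul_inv_cancel_right]
      _ = o * y * w * F.i * (o * y * w)⁻¹ := by group
  have h2 : F.i * o⁻¹ * F.i⁻¹ ∈ T.O :=
    (mem_normalizer_iff.1 (T.O_norm (mem_centralizer_singleton_iff.2 (i_comm (F := F)))) _).1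
      (inv_mem ho)
  have h3 : F.t ∈ T.O := by
    have : o * (F.i * o⁻¹ * F.i⁻¹) = F.t := by
      rw [show o * (F.i * o⁻¹ * F.i⁻¹) = o * F.i * o⁻¹ * F.i⁻¹ by group, h1, mul_inv_cancel_right]
    exact this ▸ mul_mem ho h2
  have := odd_orderOf T.O_odd h3
  rw [F.t_two] at this
  exact absurd this (by decide)

/-- The normalizer of the four-group. -/
theorem norm_four {x : G} (hx : x ∈ normalizer (four F : Set G)) :
    ∃ (j : Fin 3) (e : Fin 2), ∃ a ∈ T.A, ∃ w ∈ four F,
      x = F.g ^ (j : ℕ) * a * w * F.v ^ (e : ℕ) := by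
  have hne : ∀ z, z ≠ 1 → ∀ y : G, y * z * y⁻¹ ≠ 1 := fun z hz y e => hz (conj_eq_one_iff.1 e)
  obtain ⟨j, hj⟩ : ∃ j : Fin 3, F.g ^ (j : ℕ) * F.t * (F.g ^ (j : ℕ))⁻¹ = x * F.t * x⁻¹ := by
    rcases mem_four ((mem_normalizer_iff.1 hx _).1 t_four) with h | h | h | h
    · exact absurd h (hne _ t_ne_one x)
    · exact ⟨0, by rw [h]; simp⟩
    · exact ⟨1, by rw [h]; simpa using F.g_t⟩
    · exact ⟨2, by rw [h]; exact conj_g2_t⟩
  obtain ⟨y, hy⟩ : ∃ y, y = (F.g ^ (j : ℕ))⁻¹ * x := ⟨_, rfl⟩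
  have hyN : y ∈ normalizer (four F : Set G) := hy ▸ mul_mem (inv_mem (pow_mem g_norm _)) hx
  have hyt : y * F.t * y⁻¹ = F.t := by
    rw [hy, show (F.g ^ (j : ℕ))⁻¹ * x * F.t * ((F.g ^ (j : ℕ))⁻¹ * x)⁻¹ =
      (F.g ^ (j : ℕ))⁻¹ * (x * F.t * x⁻¹) * F.g ^ (j : ℕ) by group, ← hj]
    group
  have hxy : x = F.g ^ (j : ℕ) * y := by rw [hy, mul_inv_cancel_left]
  rcases mem_four ((mem_normalizer_iff.1 hyN _).1 i_four) with h | h | h | h
  · exact absurd h (hne _ i_ne_one y)
  · exact absurd (conj_injective (x := y) (h.trans hyt.symm)) F.i_ne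
  · obtain ⟨a, ha, w, hw, e⟩ := T.cent_four hS (commute_of_conj hyt) (commute_of_conj h)
    exact ⟨j, 0, a, ha, w, hw, by rw [hxy, e]; simp [mul_assoc]⟩
  · have h1 : y * F.v⁻¹ * F.t * (y * F.v⁻¹)⁻¹ = F.t := by
      calc y * F.v⁻¹ * F.t * (y * F.v⁻¹)⁻¹ = y * (F.v⁻¹ * F.t * F.v) * y⁻¹ := by group
        _ = F.t := by rw [mul_assoc F.v⁻¹, ← (v_comm (F := F)).eq, inv_mul_cancel_left, hyt]
    have h2 : y * F.v⁻¹ * F.i * (y * F.v⁻¹)⁻¹ = F.i := by
      have hv : F.v⁻¹ * F.i * F.v = F.t * F.i := by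
        calc F.v⁻¹ * F.i * F.v = F.v⁻¹ * (F.v * (F.t * F.i) * F.v⁻¹) * F.v := by rw [conj_v_ti]
          _ = F.t * F.i := by group
      calc y * F.v⁻¹ * F.i * (y * F.v⁻¹)⁻¹ = y * (F.v⁻¹ * F.i * F.v) * y⁻¹ := by group
        _ = F.i := by rw [hv, ← conj_mul, hyt, h, ← mul_assoc, t_sq, one_mul]
    obtain ⟨a, ha, w, hw, e⟩ := T.cent_four hS (commute_of_conj h1) (commute_of_conj h2)
    exact ⟨j, 1, a, ha, w, hw, by rw [hxy, mul_inv_eq_iff_eq_mul.1 e]; simp [mul_assoc]⟩

theorem cent_norm {a x : G} (ha : a ∈ T.A) (ha1 : a ≠ 1) (hx : x ∈ normalizer (four F : Set G))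
    (hc : Commute x a) : ∃ j : Fin 3, ∃ b ∈ T.A, ∃ w ∈ four F, x = F.g ^ (j : ℕ) * b * w := by
  obtain ⟨j, e, b, hb, w, hw, rfl⟩ := norm_four hS T hx
  refine ⟨j, b, hb, w, hw, ?_⟩
  have h1 : Commute (F.g ^ (j : ℕ) * b * w) a :=
    (((g_comm_A hS T a ha).pow_left _).mul_left (commute_of_mem_cyclic T.A_cyclic hb ha)).mul_left
      (A_four T ha hw).symm
  have h2 : Commute (F.v ^ (e : ℕ)) a := by
    have := h1.inv_left.mul_left hc
    rwa [inv_mul_cancel_left] at this
  fin_cases e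
  · simp
  · simp only [pow_one] at h2
    exact absurd h2 (v_not_comm hS T ha ha1)

/-- The four-group is a maximal 2-subgroup of the centralizer of an element of `A`. -/
theorem two_sub {a : G} (ha : a ∈ T.A) (ha1 : a ≠ 1) {Q : Subgroup G} (hQ : IsPGroup 2 Q)
    (hUQ : four F ≤ Q) (hQa : ∀ x ∈ Q, Commute x a) : Q ≤ four F := by
  haveI : Fact (Nat.Prime 2) := ⟨Nat.prime_two⟩
  intro q hq
  by_contra hne
  haveI := hQ.isNilpotent
  have hlt : (four F).subgroupOf Q < ⊤ := lt_top_iff_ne_top.2 fun e =>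
    hne (subgroupOf_eq_top.1 e hq)
  obtain ⟨x, hxN, hx⟩ := SetLike.exists_of_lt
    (Group.normalizerCondition_of_isNilpotent ((four F).subgroupOf Q) hlt)
  rw [mem_subgroupOf] at hx
  have hxn : (x : G) ∈ normalizer (four F : Set G) := mem_normalizer_iff_of_finite fun y hy => by
    have := (mem_normalizer_iff.1 hxN ⟨y, hUQ hy⟩).1 (mem_subgroupOf.2 hy)
    exact mem_subgroupOf.1 this
  obtain ⟨j, b, hb, w, hw, e⟩ := cent_norm hS T ha ha1 hxn (hQa _ x.2)
  have hz : F.g ^ (j : ℕ) * b ∈ Q := by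
    rw [show F.g ^ (j : ℕ) * b = (x : G) * w⁻¹ by rw [e, mul_inv_cancel_right]]
    exact mul_mem x.2 (inv_mem (hUQ hw))
  obtain ⟨m, hm⟩ := hQ ⟨_, hz⟩
  have hm' : (F.g ^ (j : ℕ) * b) ^ 2 ^ m = 1 := congrArg Subtype.val hm
  obtain ⟨k, hk⟩ := F.g_pow
  have hodd : (F.g ^ (j : ℕ) * b) ^ (3 ^ k * T.α) = 1 := by
    rw [((g_comm_A hS T b hb).pow_left _).mul_pow, ← pow_mul, mul_comm (j : ℕ), mul_assoc,
      pow_mul, hk, one_pow, one_mul, mul_comm, pow_mul, pow_α T hb, one_pow]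
  have h1 : F.g ^ (j : ℕ) * b = 1 := orderOf_eq_one_iff.1 (Nat.eq_one_of_dvd_coprimes
    ((Nat.coprime_two_left.2 (((by decide : Odd 3).pow).mul T.α_odd)).pow_left m)
    (orderOf_dvd_of_pow_eq_one hm') (orderOf_dvd_of_pow_eq_one hodd))
  exact hx (by rw [e, h1, one_mul]; exact hw)

include T in
theorem cent_ne_top_A {a : G} (ha1 : a ≠ 1) : centralizer ({a} : Set G) ≠ ⊤ := by
  intro e
  have hz : a ∈ center G :=
    mem_center_iff.2 fun x => (mem_centralizer_singleton_iff.1 (e ▸ mem_top x)).symm ▸ rfl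
  rw [center_bot hS T, mem_bot] at hz
  exact ha1 hz

theorem not_eight {a : G} (ha : a ∈ T.A) (ha1 : a ≠ 1) :
    ¬ 8 ∣ Nat.card (centralizer ({a} : Set G)) := by
  haveI : Fact (Nat.Prime 2) := ⟨Nat.prime_two⟩
  intro h8
  set H := centralizer ({a} : Set G) with hH
  have hUH : four F ≤ H := fun w hw => mem_centralizer_singleton_iff.2 (A_four T ha hw).symm.eq
  obtain ⟨S, hS'⟩ := (four_p (F := F) |>.comap_of_injective H.subtype
    H.subtype_injective).exists_le_sylow
  have hle : (S : Subgroup H).map H.subtype ≤ four F := two_sub hS T ha ha1 (S.2.map _)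
    (fun w hw => ⟨⟨w, hUH hw⟩, hS' hw, rfl⟩)
    (fun x hx => by
      obtain ⟨y, -, rfl⟩ := hx
      exact mem_centralizer_singleton_iff.1 y.2)
  have h1 : Nat.card (S : Subgroup H) ≤ 4 := by
    rw [← card_map_of_injective (K := (S : Subgroup H)) H.subtype_injective]
    exact (Nat.le_of_dvd Nat.card_pos (card_dvd_of_le hle)).trans four_card_le
  rw [S.card_eq_multiplicity] at h1
  have h3 : 3 ≤ (Nat.card H).factorization 2 :=
    (Nat.prime_two.pow_dvd_iff_le_factorization Nat.card_pos.ne').1 h8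
  have : 2 ^ 3 ≤ 4 := (Nat.pow_le_pow_right (by norm_num) h3).trans h1
  norm_num at this

theorem solvable_cent {a a₃ : G} (ha : a ∈ T.A) (ha1 : a ≠ 1) (ha3 : a₃ ∈ T.A)
    (h3 : orderOf a₃ = 3) : Group.IsSolvable (centralizer ({a} : Set G)) := by
  set H := centralizer ({a} : Set G) with hH
  by_contra hns
  obtain ⟨X, L, hX, hL, hXL, hidx, hXodd, hcop, p, hp, hp5, hiso⟩ :=
    hS.known H (cent_ne_top_A hS T ha1) hns
  haveI := hX; haveI := hL; haveI := hp
  have h8 := not_eight hS T ha ha1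
  rw [← hH] at h8
  obtain ⟨m, hm⟩ : Odd p := hp.out.odd_of_ne_two (by omega)
  have hLdvd : Nat.card L ∣ Nat.card (X ⊔ L : Subgroup H) := card_dvd_of_le le_sup_right
  have hsq : p ^ 2 - 1 = 4 * (m * (m + 1)) := by
    rw [hm, show (2 * m + 1) ^ 2 = 4 * (m * (m + 1)) + 1 by ring, Nat.add_sub_cancel]
  obtain ⟨n, hn⟩ := Nat.even_mul_succ_self m
  rcases hiso with ⟨⟨e⟩⟩ | ⟨⟨e⟩⟩
  swap
  · apply h8
    refine dvd_trans ?_ (card_subgroup_dvd_card L)
    rw [Nat.card_congr e.toEquiv, CfsgLib.Classical.card_sl_two_eq, ZMod.card, hsq, hn]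
    exact Dvd.dvd.mul_left ⟨n, by ring⟩ _
  have hodd : Odd (Fintype.card (ZMod p)) := by rw [ZMod.card]; exact ⟨m, hm⟩
  have hc := CfsgLib.Geom.Moebius.card_psl_two_gcd (F := ZMod p)
  rw [CfsgLib.Geom.Moebius.gcd_two_of_odd hodd, ZMod.card, ← Nat.card_congr e.toEquiv,
    ← Nat.sq_sub_sq, one_pow] at hc
  have hcL : Nat.card L = p * (4 * n) := by
    rw [hsq, hn] at hc
    linarith
  have h4 : 4 ∣ Nat.card L := hcL ▸ ⟨p * n, by ring⟩
  have h3L : 3 ∣ Nat.card L := by
    have hp3 : ¬ 3 ∣ p := fun h => by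
      have := (Nat.prime_dvd_prime_iff_eq Nat.prime_three hp.out).1 h; omega
    have hn3 : 3 ∣ p ^ 2 - 1 := by
      have h1 : p ^ 2 % 3 = 1 := by
        rcases (show p % 3 = 1 ∨ p % 3 = 2 by omega) with h | h <;> simp [Nat.pow_mod, h]
      omega
    rw [hsq, hn] at hn3
    have : 3 ∣ n := by omega
    rw [hcL]; exact dvd_mul_of_dvd_right (this.mul_left 4) p
  have htop : X ⊔ L = ⊤ := by
    rcases (Nat.dvd_prime Nat.prime_two).1 hidx with h | h
    · exact index_eq_one.1 h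
    · refine absurd ?_ h8
      rw [← (X ⊔ L).card_mul_index, h]
      exact (show 8 = 4 * 2 from rfl) ▸ Nat.mul_dvd_mul_right (h4.trans hLdvd) 2
  have hLidx : L.index = Nat.card X := by
    rw [← relIndex_top_right, ← htop, relIndex_sup_right, ← inf_relIndex_right, inf_comm, hXL,
      relIndex_bot_left]
  -- elements of order prime to the index lie in `L`
  have hmemL : ∀ z : H, (orderOf z).Coprime L.index → z ∈ L := fun z hz => by
    rw [← QuotientGroup.eq_one_iff]
    refine orderOf_eq_one_iff.1 (Nat.eq_one_of_dvd_coprimes hz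
      (orderOf_map_dvd (QuotientGroup.mk' L) z) ?_)
    rw [index_eq_card]
    exact orderOf_dvd_natCard _
  have hmem : ∀ z : G, Commute z a → z ∈ H := fun z hz => mem_centralizer_singleton_iff.2 hz
  set tt : H := ⟨F.t, hmem _ (comm_t T.A_le ha).symm⟩
  set ii : H := ⟨F.i, hmem _ (T.A_i a ha).symm⟩
  set aa : H := ⟨a₃, hmem _ (commute_of_mem_cyclic T.A_cyclic ha3 ha)⟩
  have h2X : Nat.Coprime 2 L.index := by rw [hLidx]; exact Nat.coprime_two_left.2 hXodd
  have htL : tt ∈ L := hmemL _ (by rw [orderOf_mk, F.t_two]; exact h2X)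
  have hiL : ii ∈ L := hmemL _ (by rw [orderOf_mk, F.i_two]; exact h2X)
  have haL : aa ∈ L := hmemL _ (by
    rw [orderOf_mk, h3, hLidx]; exact (hcop.coprime_dvd_right h3L).symm)
  let ψ : L →* PGL(2, ZMod p) := Matrix.ProjectiveSpecialLinearGroup.toPGL.comp e.toMonoidHom
  have hψ : Function.Injective ψ :=
    Matrix.ProjectiveSpecialLinearGroup.toPGL_injective.comp e.injective
  have ho : ∀ (z : H) (hz : z ∈ L), orderOf (ψ ⟨z, hz⟩) = orderOf (z : G) := fun z hz => by
    rw [orderOf_injective ψ hψ, orderOf_mk, Subgroup.orderOf_coe]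
  have h := GW.PGL.eq_one_of_two_invol (F := ZMod p) hodd (a := ψ ⟨tt, htL⟩) (b := ψ ⟨ii, hiL⟩)
    (x := ψ ⟨aa, haL⟩) ((ho _ _).trans F.t_two) ((ho _ _).trans F.i_two)
    (fun he => F.i_ne (congrArg (fun z : L => ((z : H) : G)) (hψ he)).symm)
    (Commute.map (Subtype.ext (Subtype.ext (comm_t T.A_le ha3).eq) :
      Commute (⟨aa, haL⟩ : L) ⟨tt, htL⟩) ψ)
    (Commute.map (Subtype.ext (Subtype.ext (T.A_i a₃ ha3).eq) :
      Commute (⟨aa, haL⟩ : L) ⟨ii, hiL⟩) ψ)
    (by rw [ho _ _, h3]; decide)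
  have := ho aa haL
  rw [h, orderOf_one, h3] at this
  omega

theorem cent_le_norm {a a₃ : G} (ha : a ∈ T.A) (ha1 : a ≠ 1) (ha3 : a₃ ∈ T.A)
    (h3 : orderOf a₃ = 3) {c : G} (hc : Commute c a) : c ∈ normalizer (four F : Set G) := by
  haveI : Fact (Nat.Prime 2) := ⟨Nat.prime_two⟩
  set H := centralizer ({a} : Set G) with hH
  haveI := solvable_cent hS T ha ha1 ha3 h3
  have hmem : ∀ z : G, Commute z a → z ∈ H := fun z hz => mem_centralizer_singleton_iff.2 hz
  have hUH : four F ≤ H := fun w hw => hmem w (A_four T ha hw).symm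
  have hgH : F.g ∈ H := hmem _ (g_comm_A hS T a ha)
  have htH : F.t ∈ H := hUH t_four
  have hvH : F.v ∈ normalizer (H : Set G) := mem_normalizer_iff_of_finite fun y hy => by
    have hva : F.v * a * F.v⁻¹ ∈ T.A := by
      refine T.odd_cent_four hS ?_ ?_ (by rw [orderOf_conj']; exact odd_orderOf T.A_odd ha)
      · have := (comm_t T.A_le ha).map (MulAut.conj F.v).toMonoidHom
        simp only [MulEquiv.coe_toMonoidHom, MulAut.conj_apply] at this
        rwa [conj_v_t] at this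
      · have := (A_four T ha (mul_mem t_four i_four)).map (MulAut.conj F.v).toMonoidHom
        simp only [MulEquiv.coe_toMonoidHom, MulAut.conj_apply] at this
        rwa [conj_v_ti] at this
    obtain ⟨r, hr⟩ := mem_zpowers_iff.1 (mem_zpowers_cyclic T.A_cyclic hva ha
      (by rw [orderOf_conj']))
    have h1 : Commute (F.v * y * F.v⁻¹) (F.v * a * F.v⁻¹) :=
      (show Commute y a from mem_centralizer_singleton_iff.1 hy).map (MulAut.conj F.v).toMonoidHom
    exact hmem _ (hr ▸ h1.zpow_right r)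
  set K2 := Cfsg.pCore 2 H with hK2
  have hK2b : K2 ≠ ⊥ := by
    intro hbot
    set Φ := Cfsg.fittingSubgroup H with hΦ
    haveI : Φ.Characteristic := CfsgLib.Solvable.fittingSubgroup_characteristic H
    have hodd : Odd (Nat.card Φ) := by
      have hle : Φ ≤ Cfsg.pPrimeCore 2 H := by
        rw [hΦ, CfsgLib.Solvable.fittingSubgroup_eq_iSup_pCore]
        refine iSup_le fun ⟨r, hr⟩ => ?_
        show Cfsg.pCore r H ≤ _
        by_cases hr2 : r = 2
        · subst hr2; rw [← hK2, hbot]; exact bot_le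
        · haveI := Fact.mk hr
          obtain ⟨n, hn⟩ := (CfsgLib.Solvable.pCore_isPGroup (G := H) r).exists_card_eq
          exact CfsgLib.Solvable.le_pPrimeCore (CfsgLib.Solvable.pCore_normal r H)
            (hn ▸ ((Nat.coprime_primes hr Nat.prime_two).2 hr2).pow_left n)
      exact (Nat.coprime_two_right.1 (CfsgLib.Solvable.pPrimeCore_coprime (G := H) 2)).of_dvd_nat
        (card_dvd_of_le hle)
    set K := Φ.map H.subtype with hK
    have hKodd : Odd (Nat.card K) := by rwa [hK, card_map_of_injective H.subtype_injective]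
    have hN : ∀ x ∈ normalizer (H : Set G), x ∈ normalizer (K : Set G) := fun x hx =>
      mem_normalizer_iff_of_finite fun y hy => by
        obtain ⟨z, hz, rfl⟩ := hy
        let f : MulAut H := normalizerMonoidHom H ⟨x, hx⟩
        have : f z ∈ Φ := by
          exact (Subgroup.characteristic_iff_map_eq.1 (inferInstance : Φ.Characteristic) f).le
            ⟨z, hz, rfl⟩
        exact ⟨f z, this, rfl⟩
    have hiH : F.i ∈ normalizer (H : Set G) := le_normalizer (hUH i_four)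
    have ht : F.t ∈ ⁅normalizer (K : Set G), normalizer (K : Set G)⁆ := by
      have : ⁅F.v, F.i⁆ = F.t := by
        rw [commutatorElement_def, F.v_i, mul_inv_cancel_right]
      exact this ▸ commutator_mem_commutator (hN _ hvH) (hN _ hiH)
    have hKt := comm_t_of_normalised hS hKodd ht le_rfl
    have htΦ : (⟨F.t, htH⟩ : H) ∈ centralizer (Φ : Set H) := mem_centralizer_iff.2 fun z hz =>
      Subtype.ext (hKt _ ⟨z, hz, rfl⟩).eq
    have h2 := odd_orderOf hodd (CfsgLib.Solvable.centralizer_fittingSubgroup_le htΦ)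
    rw [orderOf_mk, F.t_two] at h2
    exact absurd h2 (by decide)
  haveI := CfsgLib.Solvable.pCore_normal 2 H
  set V := K2.map H.subtype with hV
  have hVn : ∀ x ∈ H, ∀ y ∈ V, x * y * x⁻¹ ∈ V := fun x hx y hy => by
    obtain ⟨z, hz, rfl⟩ := hy
    exact ⟨⟨x, hx⟩ * z * ⟨x, hx⟩⁻¹, Normal.conj_mem inferInstance z hz _, rfl⟩
  have hVU : V ≤ four F := by
    have hU : four F ≤ normalizer (V : Set G) := fun w hw =>
      mem_normalizer_iff_of_finite (hVn w (hUH hw))
    exact le_sup_right.trans (two_sub hS T ha ha1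
      (four_p.to_sup_of_normal_right' ((CfsgLib.Solvable.pCore_isPGroup (G := H) 2).map _) hU)
      le_sup_left fun x hx => mem_centralizer_singleton_iff.1
        (sup_le hUH (map_subtype_le K2) hx))
  have hUV : four F ≤ V := by
    obtain ⟨z, hz, hz1⟩ : ∃ z ∈ V, z ≠ 1 := by
      by_contra hcon
      push Not at hcon
      refine hK2b ((map_eq_bot_iff_of_injective K2 H.subtype_injective).1 ?_)
      exact (eq_bot_iff_forall V).2 hcon
    have hst : F.t ∈ V ∧ F.i ∈ V := by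
      have hg := hVn _ hgH
      rcases mem_four (hVU hz) with rfl | rfl | rfl | rfl
      · exact absurd rfl hz1
      · exact ⟨hz, F.g_t ▸ hg _ hz⟩
      · exact ⟨by have := hg _ (hg _ hz); rwa [F.g_i, conj_g_ti] at this, hz⟩
      · have h1 : F.t ∈ V := by have := hg _ hz; rwa [conj_g_ti] at this
        exact ⟨h1, F.g_t ▸ hg _ h1⟩
    rw [closure_le]
    rintro w (rfl | rfl)
    · exact hst.1
    · exact hst.2
  exact mem_normalizer_iff_of_finite fun y hy => hVU (hVn c (hmem c hc) y (hUV hy))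

theorem two_cent {a a₃ u : G} (ha : a ∈ T.A) (ha1 : a ≠ 1) (ha3 : a₃ ∈ T.A)
    (h3 : orderOf a₃ = 3) (hu : Commute u a) (hu2 : u * u = 1) : u ∈ four F := by
  have hp : IsPGroup 2 (zpowers u) := fun z => ⟨1, Subtype.ext (by
    obtain ⟨r, hr⟩ := mem_zpowers_iff.1 z.2
    rw [SubmonoidClass.coe_pow, pow_one, pow_two, ← hr, ← (Commute.refl u).mul_zpow, hu2,
      one_zpow]
    rfl)⟩
  have h := two_sub hS T ha ha1 (Q := zpowers u ⊔ four F)
    (hp.to_sup_of_normal_right' four_p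
      (zpowers_le.2 (cent_le_norm hS T ha ha1 ha3 h3 hu))) le_sup_right fun x hx =>
      mem_centralizer_singleton_iff.1 (sup_le (zpowers_le.2 (mem_centralizer_singleton_iff.2 hu))
        (fun w hw => mem_centralizer_singleton_iff.2 (A_four T ha hw).symm) hx)
  exact h (le_sup_left (a := zpowers u) (mem_zpowers u))

/-- `3` divides `α`: otherwise the rotation is conjugate into `T`. -/
theorem three_dvd : 3 ∣ T.α := by
  by_contra h3α
  haveI : Fact (Nat.Prime 3) := ⟨Nat.prime_three⟩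
  have hg3 : F.g ^ 3 = 1 := by
    obtain ⟨k, hk⟩ := F.g_pow
    exact orderOf_eq_one_iff.1 (Nat.eq_one_of_dvd_coprimes
      (((Nat.prime_three.coprime_iff_not_dvd).2 h3α).pow_left k)
      ((orderOf_pow_dvd 3).trans (orderOf_dvd_of_pow_eq_one hk))
      (orderOf_dvd_of_pow_eq_one (pow_α T (g_cube hS T))))
  have hg : orderOf F.g = 3 := orderOf_eq_prime hg3 fun e => F.i_ne (by
    have := F.g_t; rw [e] at this; simpa using this.symm)
  have hβ : 3 ∣ T.β := by
    have hq3 : T.q % 3 ≠ 0 := fun h => by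
      have := (Nat.prime_dvd_prime_iff_eq Nat.prime_three T.q_prime).1 (Nat.dvd_of_mod_eq_zero h)
      have := T.five_le; omega
    obtain ⟨m, hm | hm⟩ : ∃ m, T.α = 3 * m + 1 ∨ T.α = 3 * m + 2 := ⟨T.α / 3, by omega⟩
    · rcases T.αβ with ⟨h, h'⟩ | ⟨h, h'⟩
      · exact absurd (show T.q % 3 = 0 by omega) hq3
      · exact ⟨2 * m, by omega⟩
    · rcases T.αβ with ⟨h, h'⟩ | ⟨h, h'⟩
      · exact ⟨2 * m + 2, by omega⟩
      · exact absurd (show T.q % 3 = 0 by omega) hq3
  haveI := T.T_cyclic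
  obtain ⟨b', hb'⟩ := exists_prime_orderOf_dvd_card' (G := T.T) 3
    (by rw [T.T_card]; exact hβ.mul_left 2)
  set b : G := (b' : G) with hb
  have hbo : orderOf b = 3 := by rw [hb, Subgroup.orderOf_coe, hb']
  have hb1 : b ≠ 1 := fun e => by rw [e, orderOf_one] at hbo; omega
  have hbt : b ≠ F.t := fun e => by rw [e, F.t_two] at hbo; omega
  obtain ⟨S₁, hS₁⟩ := (IsPGroup.of_card (n := 1) (show Nat.card (zpowers F.g) = 3 ^ 1 by
    rw [Nat.card_zpowers, hg, pow_one])).exists_le_sylow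
  obtain ⟨S₂, hS₂⟩ := (IsPGroup.of_card (n := 1) (show Nat.card (zpowers b) = 3 ^ 1 by
    rw [Nat.card_zpowers, hbo, pow_one])).exists_le_sylow
  obtain ⟨x, hx⟩ := MulAction.exists_smul_eq G S₂ S₁
  have hxb : x * b * x⁻¹ ∈ (S₁ : Subgroup G) := by
    rw [← hx, Sylow.coe_subgroup_smul]
    exact ⟨b, hS₂ (mem_zpowers b), rfl⟩
  obtain ⟨r, hr⟩ := mem_zpowers_iff.1 (mem_zpowers_cyclic
    (hS.cyc.odd 3 Nat.prime_three (by norm_num) S₁) (hS₁ (mem_zpowers F.g)) hxb
    (by rw [orderOf_conj', hbo, hg]))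
  haveI := T.A_cyclic
  obtain ⟨a', ha'⟩ := IsCyclic.exists_generator (α := T.A)
  have hca : Commute (x⁻¹ * a' * x) b := by
    have h1 : Commute (a' : G) (x * b * x⁻¹) := hr ▸ ((g_comm_A hS T _ a'.2).symm.zpow_right r)
    have := h1.map (MulAut.conj x⁻¹).toMonoidHom
    simp only [MulEquiv.coe_toMonoidHom, MulAut.conj_apply, inv_inv] at this
    rwa [show x⁻¹ * (x * b * x⁻¹) * x = b by group] at this
  have hbodd : Odd (orderOf b) := by rw [hbo]; decide
  obtain ⟨o, ho, z, hz, e⟩ := T.cent_T b b'.2 hb1 hbt _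
    (cent_odd_T hS T b'.2 hb1 hbodd _ hca) hca
  have hc : (o * z) ^ T.α = 1 := by
    rw [← e, ← orderOf_dvd_iff_pow_eq_one,
      show x⁻¹ * (a' : G) * x = x⁻¹ * a' * (x⁻¹)⁻¹ by rw [inv_inv], orderOf_conj']
    exact orderOf_dvd_of_pow_eq_one (pow_α T a'.2)
  have hz1 : z = 1 := by
    refine orderOf_eq_one_iff.1 (Nat.eq_one_of_dvd_coprimes (cop_αβ T)
      (orderOf_dvd_of_pow_eq_one (pow_eq_one_of_O T ho hz hc))
      (T.T_card ▸ Subgroup.orderOf_dvd_natCard _ hz))
  have ho1 : o = 1 := eq_one_of_O T ho (O_cop_α T) (by rwa [hz1, mul_one] at hc)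
  rw [ho1, hz1, mul_one] at e
  have ha1 : (a' : G) = 1 := by
    have := congrArg (fun y => x * y * x⁻¹) e
    simpa [mul_assoc] using this
  have hcard := orderOf_eq_card_of_forall_mem_zpowers ha'
  rw [T.A_card, show a' = 1 from Subtype.ext ha1, orderOf_one] at hcard
  have := one_lt_α T; omega

include T in
/-- The semidihedral configuration is impossible. -/
theorem false : False := by
  have h3α : 3 ∣ T.α := three_dvd hS T
  haveI : Fact (Nat.Prime 3) := ⟨Nat.prime_three⟩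
  obtain ⟨a₃', ha₃'⟩ := exists_prime_orderOf_dvd_card' (G := T.A) 3 (by rw [T.A_card]; exact h3α)
  set a₃ : G := (a₃' : G) with ha₃
  have ha3 : a₃ ∈ T.A := a₃'.2
  have h3 : orderOf a₃ = 3 := by rw [ha₃, Subgroup.orderOf_coe, ha₃']
  have ha31 : a₃ ≠ 1 := fun e => by rw [e, orderOf_one] at h3; omega
  -- `O` is trivial
  have hO : ∀ x ∈ T.O, x = 1 := fun x hx => by
    obtain ⟨j, b, hb, w, hw, e⟩ := cent_norm hS T ha3 ha31
      (cent_le_norm hS T ha3 ha31 ha3 h3 (T.O_A x hx _ ha3)) (T.O_A x hx _ ha3)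
    have hbw : Commute (b * w) F.t := (comm_t T.A_le hb).mul_left
      (four_comm (Commute.refl F.t) (i_comm (F := F)).symm hw).symm
    have hj : (j : ℕ) = 0 := g_pow_t j.2 (by
      have := (comm_t T.O_le hx).mul_left hbw.inv_left
      rwa [e, mul_assoc _ b w, mul_inv_cancel_right] at this)
    refine O_fixed hS T x hx ?_
    rw [e, hj, pow_zero, one_mul]
    exact (T.A_i b hb).mul_left (four_comm (i_comm (F := F)) (Commute.refl F.i) hw).symm
  -- the extended torus
  have hcg : ∀ (m : zpowers F.g) (n : T.A), Commute (m : G) (n : G) := fun m n => by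
    obtain ⟨r, hr⟩ := mem_zpowers_iff.1 m.2
    exact hr ▸ (g_comm_A hS T _ n.2).zpow_left r
  let φ : zpowers F.g × T.A →* G :=
    MonoidHom.noncommCoprod (zpowers F.g).subtype T.A.subtype hcg
  set W := φ.range with hW
  have hmemW : ∀ y, y ∈ W ↔ ∃ j : Fin 3, ∃ a ∈ T.A, y = F.g ^ (j : ℕ) * a := by
    intro y
    constructor
    · rintro ⟨⟨⟨m, hm⟩, ⟨a, ha⟩⟩, rfl⟩
      obtain ⟨n, rfl⟩ := mem_zpowers_iff.1 hm
      have hr : (n % 3).toNat < 3 := by omega
      refine ⟨⟨(n % 3).toNat, hr⟩, (F.g ^ 3) ^ (n / 3) * a,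
        mul_mem (zpow_mem (g_cube hS T) _) ha, ?_⟩
      show F.g ^ n * a = _
      rw [← mul_assoc, ← zpow_natCast F.g 3, ← zpow_natCast F.g (n % 3).toNat, ← zpow_mul,
        ← zpow_add, Int.toNat_of_nonneg (by omega)]
      congr 2
      push_cast
      omega
    · rintro ⟨j, a, ha, rfl⟩
      exact ⟨(⟨_, npow_mem_zpowers F.g j⟩, ⟨a, ha⟩), rfl⟩
  have hAW : T.A ≤ W := fun a ha => (hmemW a).2 ⟨0, a, ha, by simp⟩
  have hWcomm : ∀ y ∈ W, ∀ z ∈ W, Commute y z := by
    intro y hy z hz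
    obtain ⟨j, a, ha, rfl⟩ := (hmemW y).1 hy
    obtain ⟨l, c, hc, rfl⟩ := (hmemW z).1 hz
    exact ((Commute.pow_pow_self F.g _ _).mul_right ((g_comm_A hS T c hc).pow_left _)).mul_left
      ((((g_comm_A hS T a ha).symm).pow_right _).mul_right (commute_of_mem_cyclic T.A_cyclic ha hc))
  have hWcard : Nat.card W = 3 * T.α := by
    rw [← T.A_card, show (3 : ℕ) = Nat.card (Fin 3) by simp, ← Nat.card_prod]
    refine (Nat.card_eq_of_bijective (fun x : Fin 3 × T.A =>
      (⟨F.g ^ (x.1 : ℕ) * x.2, (hmemW _).2 ⟨x.1, x.2, x.2.2, rfl⟩⟩ : W)) ⟨?_, ?_⟩).symm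
    · rintro ⟨j, a⟩ ⟨l, c⟩ h
      have he : F.g ^ (j : ℕ) * (a : G) = F.g ^ (l : ℕ) * c := congrArg Subtype.val h
      wlog hjl : (j : ℕ) ≤ l generalizing j l a c
      · exact (this l c j a h.symm he.symm (le_of_not_ge hjl)).symm
      have h0 : (l : ℕ) - j = 0 := g_pow_t (by omega) (by
        have hz : F.g ^ ((l : ℕ) - j) * c = a := mul_left_cancel (a := F.g ^ (j : ℕ)) (by
          rw [← mul_assoc, ← pow_add, Nat.add_sub_cancel' hjl, he])
        rw [show F.g ^ ((l : ℕ) - j) = (a : G) * (c : G)⁻¹ by rw [← hz, mul_inv_cancel_right]]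
        exact (comm_t T.A_le a.2).mul_left (comm_t T.A_le c.2).inv_left)
      have hjl' : j = l := Fin.ext (by omega)
      subst hjl'
      exact Prod.ext rfl (Subtype.ext (mul_left_cancel he))
    · rintro ⟨y, hy⟩
      obtain ⟨j, a, ha, rfl⟩ := (hmemW y).1 hy
      exact ⟨(j, ⟨a, ha⟩), rfl⟩
  have hWodd : Odd (Nat.card W) := hWcard ▸ (by decide : Odd 3).mul T.α_odd
  have hWcyc : IsCyclic W := by
    letI : CommGroup W :=
      { (inferInstance : Group W) with
        mul_comm := fun y z => Subtype.ext (hWcomm y y.2 z z.2).eq }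
    haveI : IsZGroup W := hS.cyc.isZGroup hWodd
    infer_instance
  have hWA : ∀ y ∈ W, orderOf y ∣ T.α → y ∈ T.A := fun y hy h => by
    haveI := T.A_cyclic
    obtain ⟨a', ha'⟩ := IsCyclic.exists_generator (α := T.A)
    have ho : orderOf (a' : G) = T.α := by
      rw [Subgroup.orderOf_coe, orderOf_eq_card_of_forall_mem_zpowers ha', T.A_card]
    exact zpowers_le.2 a'.2 (mem_zpowers_cyclic hWcyc (hAW a'.2) hy (ho.symm ▸ h))
  have hWfix : ∀ y ∈ W, y ∉ T.A → ∀ c : G, Commute c y → c ∈ W := by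
    intro y hy hyA c hc
    have h3y : 3 ∣ orderOf y := by
      by_contra hn
      exact hyA (hWA y hy ((((Nat.prime_three.coprime_iff_not_dvd).2 hn).symm).dvd_of_dvd_mul_left
        (hWcard ▸ Subgroup.orderOf_dvd_natCard W hy)))
    obtain ⟨r, hr⟩ := mem_zpowers_iff.1 (mem_zpowers_cyclic hWcyc hy (hAW ha3) (h3.symm ▸ h3y))
    have hc3 : Commute c a₃ := hr ▸ hc.zpow_right r
    obtain ⟨j, b, hb, w, hw, rfl⟩ := cent_norm hS T ha3 ha31
      (cent_le_norm hS T ha3 ha31 ha3 h3 hc3) hc3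
    have hgb : F.g ^ (j : ℕ) * b ∈ W := (hmemW _).2 ⟨j, b, hb, rfl⟩
    have hwy : Commute w y := by
      have := (hWcomm _ hgb y hy).inv_left.mul_left hc
      rwa [inv_mul_cancel_left] at this
    obtain ⟨l, d, hd, rfl⟩ := (hmemW y).1 hy
    have hl : (l : ℕ) ≠ 0 := fun e => hyA (by rw [e, pow_zero, one_mul]; exact hd)
    have hwg : Commute (F.g ^ (l : ℕ)) w := by
      have := hwy.mul_right (A_four T (inv_mem hd) hw).symm
      rw [mul_inv_cancel_right] at this
      exact this.symm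
    rw [g_pow_four (by omega) hw hwg, mul_one]
    exact hgb
  have hNA' : ∀ x : G, ∀ y ∈ T.A, y ≠ 1 → x * y * x⁻¹ ∈ T.A → x ∈ normalizer (four F : Set G) := by
    intro x y hy hy1 hxy
    refine mem_normalizer_iff_of_finite fun w hw => ?_
    refine two_cent hS T hxy (fun e => hy1 (conj_eq_one_iff.1 e)) ha3 h3
      ((A_four T hy hw).symm.map (MulAut.conj x).toMonoidHom) ?_
    rw [conj_mul, four_sq hw]; group
  have hNWU : normalizer (W : Set G) ≤ normalizer (four F : Set G) := fun x hx => by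
    refine hNA' x a₃ ha3 ha31 (hWA _ ((mem_normalizer_iff.1 hx _).1 (hAW ha3)) ?_)
    rw [orderOf_conj', h3]; exact h3α
  have hNW : Nat.card (normalizer (W : Set G)) ≤ 6 * T.α := by
    have hch : ∀ x : normalizer (W : Set G), ∃ p : Fin 2 × W, ∃ w ∈ four F,
        (x : G) = (p.2 : G) * w * F.v ^ (p.1 : ℕ) := fun x => by
      obtain ⟨j, e, b, hb, w, hw, hx⟩ := norm_four hS T (hNWU x.2)
      exact ⟨(e, ⟨_, (hmemW _).2 ⟨j, b, hb, rfl⟩⟩), w, hw, hx⟩
    choose f fw hfw hf using hch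
    have hinj : Function.Injective f := by
      intro x x' he
      refine Subtype.ext ?_
      rw [hf x, hf x', he]
      congr 2
      set u := fw x * (fw x')⁻¹ with hu
      have huU : u ∈ four F := mul_mem (hfw x) (inv_mem (hfw x'))
      have huN : u ∈ normalizer (W : Set G) := by
        have e1 : u = ((f x').2 : G)⁻¹ * ((x : G) * (x' : G)⁻¹) * (f x').2 := by
          rw [hu, hf x, hf x', he]; group
        rw [e1]
        exact mul_mem (mul_mem (inv_mem (le_normalizer (f x').2.2))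
          (mul_mem x.2 (inv_mem x'.2))) (le_normalizer (f x').2.2)
      have hgW : F.g ∈ W := (hmemW _).2 ⟨1, 1, one_mem _, by simp⟩
      have h1 : u * F.g * u⁻¹ * F.g⁻¹ ∈ W :=
        mul_mem ((mem_normalizer_iff.1 huN _).1 hgW) (inv_mem hgW)
      have h2 : u * F.g * u⁻¹ * F.g⁻¹ ∈ four F := by
        rw [show u * F.g * u⁻¹ * F.g⁻¹ = u * (F.g * u⁻¹ * F.g⁻¹) by group]
        exact mul_mem huU ((mem_normalizer_iff.1 g_norm _).1 (inv_mem huU))
      have h3' : u * F.g * u⁻¹ * F.g⁻¹ = 1 :=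
        CfsgLib.Invol.eq_one_of_sq_of_odd (four_sq h2) (odd_orderOf hWodd h1)
      have h4 : u = 1 := g_pow_four (Or.inl rfl) huU (by
        rw [pow_one]
        exact (mul_inv_eq_iff_eq_mul.1 (mul_inv_eq_one.1 h3')).symm)
      exact mul_inv_eq_one.1 h4
    refine (Nat.card_le_card_of_injective f hinj).trans ?_
    rw [Nat.card_prod, hWcard, Nat.card_fin]; omega
  have hchNA : ∀ x : normalizer (four F : Set G), ∃ p : Fin 3 × Fin 2 × T.A × four F,
      (x : G) = F.g ^ (p.1 : ℕ) * p.2.2.1 * p.2.2.2 * F.v ^ (p.2.1 : ℕ) := fun x => by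
    obtain ⟨j, e, a, ha, w, hw, h⟩ := norm_four hS T x.2
    exact ⟨(j, e, ⟨a, ha⟩, ⟨w, hw⟩), h⟩
  choose fA hfA using hchNA
  have hNA : Nat.card (normalizer (four F : Set G)) ≤ 24 * T.α := by
    refine (Nat.card_le_card_of_injective fA fun x x' e => Subtype.ext (by
      rw [hfA x, hfA x', e])).trans ?_
    rw [Nat.card_prod, Nat.card_prod, Nat.card_prod, T.A_card, Nat.card_fin, Nat.card_fin]
    have := four_card_le (F := F)
    nlinarith
  have hNAt : Nat.card (normalizer (four F : Set G) ⊓ centralizer ({F.t} : Set G) : Subgroup G) ≤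
      8 * T.α := by
    let f' : (normalizer (four F : Set G) ⊓ centralizer ({F.t} : Set G) : Subgroup G) →
        Fin 2 × T.A × four F := fun x => (fA ⟨x, x.2.1⟩).2
    have hinj : Function.Injective f' := by
      have h0 : ∀ x : (normalizer (four F : Set G) ⊓ centralizer ({F.t} : Set G) : Subgroup G),
          ((fA ⟨x, x.2.1⟩).1 : ℕ) = 0 := fun x => by
        have hx := hfA ⟨x, x.2.1⟩
        set p := fA ⟨x, x.2.1⟩
        have hxt : Commute (x : G) F.t := mem_centralizer_singleton_iff.1 x.2.2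
        have h1 : Commute ((p.2.2.1 : G) * p.2.2.2 * F.v ^ (p.2.1 : ℕ)) F.t :=
          ((comm_t T.A_le p.2.2.1.2).mul_left
            (four_comm (Commute.refl F.t) (i_comm (F := F)).symm p.2.2.2.2).symm).mul_left
            ((v_comm (F := F)).pow_left _)
        refine g_pow_t (F := F) p.1.2 ?_
        have := hxt.mul_left h1.inv_left
        rwa [show (x : G) = F.g ^ (p.1 : ℕ) * ((p.2.2.1 : G) * p.2.2.2 * F.v ^ (p.2.1 : ℕ)) by
          rw [hx]; simp only [mul_assoc], mul_inv_cancel_right] at this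
      intro x x' e
      refine Subtype.ext ?_
      rw [hfA ⟨x, x.2.1⟩, hfA ⟨x', x'.2.1⟩, h0 x, h0 x',
        show (fA ⟨x, x.2.1⟩).2 = (fA ⟨x', x'.2.1⟩).2 from e]
    refine (Nat.card_le_card_of_injective f' hinj).trans ?_
    rw [Nat.card_prod, Nat.card_prod, T.A_card, Nat.card_fin]
    have := four_card_le (F := F)
    nlinarith
  have hcentT : ∀ y ∈ T.T, y ≠ 1 → y ≠ F.t → ∀ c : G, Commute c y → c ∈ T.T := by
    intro y hy hy1 hyt c hc
    have hct : Commute c F.t := by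
      rcases Nat.even_or_odd (orderOf y) with ⟨m, hm⟩ | ho
      · have hm0 : m ≠ 0 := fun e => by have := orderOf_pos y; omega
        have h2 : orderOf (y ^ m) = 2 := by
          rw [orderOf_pow_of_dvd hm0 ⟨2, by omega⟩, hm, ← two_mul,
            Nat.mul_div_cancel _ (Nat.pos_of_ne_zero hm0)]
        exact T_invol T (pow_mem hy m) h2 ▸ hc.pow_right m
      · exact cent_odd_T hS T hy hy1 ho c hc
    obtain ⟨o, ho, z, hz, rfl⟩ := T.cent_T y hy hy1 hyt c hct hc
    rw [hO o ho, one_mul]; exact hz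
  have hNTt : normalizer (T.T : Set G) ≤ centralizer ({F.t} : Set G) := fun x hx =>
    mem_centralizer_singleton_iff.2 (commute_of_conj (T_invol T
      ((mem_normalizer_iff.1 hx _).1 T.t_T) (by rw [orderOf_conj', F.t_two])))
  have hNT : Nat.card (normalizer (T.T : Set G)) ≤ 4 * T.β := by
    have hO1 : Nat.card T.O = 1 :=
      Subgroup.card_eq_one.2 ((eq_bot_iff_forall T.O).2 hO)
    have := T.norm_T
    rwa [hO1, mul_one, inf_of_le_left hNTt] at this
  have h3β : ¬ 3 ∣ T.β := fun h => by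
    have := Nat.eq_one_of_dvd_coprimes (cop_αβ T) h3α (h.mul_left 2); omega
  have hTord : ∀ y ∈ T.T, orderOf y ∣ 6 * T.α → y = 1 ∨ y = F.t := by
    intro y hy h
    have h1 : orderOf y ∣ 2 * Nat.gcd T.β (3 * T.α) := by
      rw [← Nat.gcd_mul_left]
      exact Nat.dvd_gcd (T.T_card ▸ Subgroup.orderOf_dvd_natCard _ hy)
        (by rwa [← mul_assoc, show 2 * 3 = 6 from rfl])
    rw [Nat.Coprime.mul_right ((Nat.prime_three.coprime_iff_not_dvd).2 h3β).symm
      ((cop_αβ T).coprime_dvd_right (dvd_mul_left T.β 2)).symm, mul_one] at h1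
    rcases (Nat.dvd_prime Nat.prime_two).1 h1 with h2 | h2
    · exact Or.inl (orderOf_eq_one_iff.1 h2)
    · exact Or.inr (T_invol T hy h2)
  have huniq : ∀ x y : G, orderOf x = T.q → orderOf y = T.q → Commute x y → y ∈ zpowers x := by
    intro x y hx hy hxy
    haveI := Fact.mk T.q_prime
    have hp : ∀ z : G, orderOf z = T.q → IsPGroup T.q (zpowers z) := fun z hz =>
      IsPGroup.of_card (n := 1) (by rw [Nat.card_zpowers, hz, pow_one])
    obtain ⟨P, hP⟩ := ((hp y hy).to_sup_of_normal_right' (hp x hx) (zpowers_le.2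
      (centralizer_le_normalizer _ (mem_centralizer_iff.2 fun z hz => by
        obtain ⟨r, rfl⟩ := mem_zpowers_iff.1 hz
        exact (hxy.zpow_left r).eq)))).exists_le_sylow
    exact mem_zpowers_cyclic (hS.cyc.odd T.q T.q_prime (by have := T.five_le; omega) P)
      (hP (mem_sup_right (mem_zpowers x))) (hP (mem_sup_left (mem_zpowers y)))
      (by rw [hx, hy])
  have hfus : ∀ (H : Subgroup G) (g y : G), (∀ z ∈ H, Commute z y) →
      (∀ c : G, Commute c (g * y * g⁻¹) → c ∈ H) → g ∈ normalizer (H : Set G) :=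
    fun H g y h1 h2 => mem_normalizer_iff_of_finite fun z hz =>
      h2 _ ((h1 z hz).map (MulAut.conj g).toMonoidHom)
  refine count_false T.q_prime T.five_le T.αβ T.α_odd T.q_dvd huniq F.t_two T.T
    (normalizer (T.T : Set G)) W T.A (normalizer (W : Set G)) (normalizer (four F : Set G))
    T.t_T T.T_card hTord ?_ hNT hWcard T.A_card hAW hWA ?_ hNW hNA' hNA
    (fun y hy => comm_t T.A_le hy) hNAt
  · intro g y hy hy1 hyt hgy
    refine hfus T.T g y (fun z hz => commute_of_mem_cyclic T.T_cyclic hz hy)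
      (hcentT _ hgy (fun e => hy1 (conj_eq_one_iff.1 e)) fun e => hyt ?_)
    exact T_invol T hy (by rw [← orderOf_conj' g y, e, F.t_two])
  · intro g y hy hyA hgy
    refine hfus W g y (fun z hz => hWcomm z hz y hy) (hWfix _ hgy fun e => hyA (hWA y hy ?_))
    rw [← orderOf_conj' g y, ← T.A_card]
    exact Subgroup.orderOf_dvd_natCard _ e

end Tori

end CfsgLib.S4069
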