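import Cfsg.Agent.Lib.S4069.Basic
import Cfsg.Agent.Lib.S4069.Count
import Cfsg.Agent.Lib.Invol.DihedralFusion
import Cfsg.Agent.Lib.Recog.ABProd.Basic
import Cfsg.Agent.Lib.Solvable.PCore
import Cfsg.Agent.Lib.Solvable.Fitting

/-!
# The semidihedral case: the four-group, the rotation and the odd elements of the torus `T`
-/

set_option autoImplicit false
set_option linter.unusedSectionVars false
set_option linter.style.haveILetI false

namespace CfsgLib.S4069

open Subgroup CfsgLib.Invol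
open scoped commutatorElement

universe u

theorem mem_zpowers_cyclic {G : Type u} [Group G] [Finite G] {H : Subgroup G} (hH : IsCyclic H)
    {x y : G} (hx : x ∈ H) (hy : y ∈ H) (h : orderOf y ∣ orderOf x) : y ∈ zpowers x := by
  classical
  haveI := hH
  have := Fintype.ofFinite H
  have hle := IsCyclic.card_pow_eq_one_le (α := H) (n := orderOf x) (orderOf_pos x)
  set s : Finset H := Finset.univ.filter fun z : H => z ^ orderOf x = 1
  set p : Finset H := Finset.univ.filter fun z : H => z ∈ zpowers (⟨x, hx⟩ : H)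
  have hp : p.card = orderOf x := by
    rw [← Subgroup.orderOf_mk x hx, ← Nat.card_zpowers, Nat.card_eq_fintype_card,
      Fintype.card_subtype]
  have hsub : p ⊆ s := fun z hz => by
    obtain ⟨i, rfl⟩ := mem_zpowers_iff.1 (Finset.mem_filter.1 hz).2
    refine Finset.mem_filter.2 ⟨Finset.mem_univ _, ?_⟩
    rw [← zpow_natCast, ← zpow_mul, mul_comm, zpow_mul, zpow_natCast,
      show (⟨x, hx⟩ : H) ^ orderOf x = 1 from Subtype.ext (pow_orderOf_eq_one x), one_zpow]
  have heq := Finset.eq_of_subset_of_card_le hsub (hle.trans hp.ge)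
  have hys : (⟨y, hy⟩ : H) ∈ p := heq ▸ Finset.mem_filter.2 ⟨Finset.mem_univ _,
    Subtype.ext (orderOf_dvd_iff_pow_eq_one.1 h)⟩
  obtain ⟨i, hi⟩ := mem_zpowers_iff.1 (Finset.mem_filter.1 hys).2
  exact ⟨i, congrArg Subtype.val hi⟩

/-- A conjugation normalising a cyclic group acts on it by a power. -/
theorem exists_zpow_of_cyclic {G : Type u} [Group G] {C : Subgroup G} (hC : IsCyclic C) {x : G}
    (hx : ∀ c ∈ C, x * c * x⁻¹ ∈ C) : ∃ n : ℤ, ∀ c ∈ C, x * c * x⁻¹ = c ^ n := by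
  obtain ⟨c₀, hc₀⟩ := (Subgroup.isCyclic_iff_exists_zpowers_eq_top C).1 hC
  have hc0 : c₀ ∈ C := hc₀ ▸ mem_zpowers c₀
  obtain ⟨n, hn⟩ := mem_zpowers_iff.1 (hc₀.symm ▸ hx c₀ hc0 : x * c₀ * x⁻¹ ∈ zpowers c₀)
  refine ⟨n, fun c hc => ?_⟩
  obtain ⟨m, rfl⟩ := mem_zpowers_iff.1 (hc₀.symm ▸ hc : c ∈ zpowers c₀)
  rw [← conj_zpow, ← hn, ← zpow_mul, ← zpow_mul, mul_comm]

theorem commute_of_mem_cyclic {G : Type u} [Group G] {C : Subgroup G} (hC : IsCyclic C) {x y : G}
    (hx : x ∈ C) (hy : y ∈ C) : Commute x y := by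
  obtain ⟨c₀, hc₀⟩ := (Subgroup.isCyclic_iff_exists_zpowers_eq_top C).1 hC
  rw [← hc₀] at hx hy
  obtain ⟨m, rfl⟩ := mem_zpowers_iff.1 hx
  obtain ⟨n, rfl⟩ := mem_zpowers_iff.1 hy
  exact (Commute.refl c₀).zpow_zpow m n

theorem odd_orderOf {G : Type u} [Group G] [Finite G] {K : Subgroup G} (hK : Odd (Nat.card K))
    {x : G} (hx : x ∈ K) : Odd (orderOf x) :=
  hK.of_dvd_nat (Subgroup.orderOf_dvd_natCard K hx)

theorem commute_of_conj {G : Type u} [Group G] {a b : G} (h : a * b * a⁻¹ = b) : Commute a b :=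
  mul_inv_eq_iff_eq_mul.1 h

namespace Tori

variable {G : Type u} [Group G] [Finite G] {F : Frame G} (hS : SDMin G) (T : Tori F)

theorem t_ne_one : F.t ≠ 1 := invol_ne_one F.t_two

theorem t_sq : F.t * F.t = 1 := invol_mul_self F.t_two

theorem i_sq : F.i * F.i = 1 := invol_mul_self F.i_two

theorem i_comm : Commute F.i F.t := F.t_comm _ F.i_mem

theorem v_comm : Commute F.v F.t := F.t_comm _ F.v_mem

include hS in
theorem cent_ne_top : centralizer ({F.t} : Set G) ≠ ⊤ := by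
  intro e
  haveI := hS.simple
  have hz : F.t ∈ center G :=
    mem_center_iff.2 fun x => (mem_centralizer_singleton_iff.1 (e ▸ mem_top x)).symm ▸ rfl
  rcases IsSimpleGroup.eq_bot_or_eq_top_of_normal (center G) inferInstance with h | h
  · rw [h, mem_bot] at hz
    exact t_ne_one hz
  · have hcomm : ∀ x y : G, Commute x y := fun x y =>
      (mem_center_iff.1 (h ▸ mem_top y : y ∈ center G) x)
    have hbot : ⁅(F.P : Subgroup G), (F.P : Subgroup G)⁆ ≤ ⊥ := commutator_le.2 fun x _ y _ =>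
      mem_bot.2 (commutatorElement_eq_one_iff_commute.2 (hcomm x y))
    exact t_ne_one (mem_bot.1 (hbot F.t_derived))

variable (F) in
/-- The four-group. -/
abbrev four : Subgroup G := closure ({F.t, F.i} : Set G)

theorem t_four : F.t ∈ four F := subset_closure (by simp)

theorem i_four : F.i ∈ four F := subset_closure (by simp)

theorem mem_four {w : G} (hw : w ∈ four F) : w = 1 ∨ w = F.t ∨ w = F.i ∨ w = F.t * F.i := by
  have hc := (i_comm (F := F)).eq
  have hL : ∀ z, F.t * (F.t * z) = z := fun z => by rw [← mul_assoc, t_sq, one_mul]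
  have hI : ∀ z, F.i * (F.i * z) = z := fun z => by rw [← mul_assoc, i_sq, one_mul]
  have hs : ∀ z, F.i * (F.t * z) = F.t * (F.i * z) := fun z => by rw [← mul_assoc, hc, mul_assoc]
  induction hw using closure_induction with
  | mem x hx => rcases hx with rfl | rfl <;> simp
  | one => simp
  | mul x y _ _ ihx ihy =>
    rcases ihx with rfl | rfl | rfl | rfl <;> rcases ihy with rfl | rfl | rfl | rfl <;>
      simp [hc, t_sq, i_sq, hL, hI, hs, mul_assoc]
  | inv x _ ih =>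
    rcases ih with rfl | rfl | rfl | rfl <;>
      simp [invol_inv F.t_two, invol_inv F.i_two, mul_inv_rev, hc]

theorem four_sq {w : G} (hw : w ∈ four F) : w * w = 1 := by
  rcases mem_four hw with rfl | rfl | rfl | rfl
  · exact one_mul 1
  · exact t_sq
  · exact i_sq
  · rw [mul_assoc, ← mul_assoc F.i, (i_comm (F := F)).eq, mul_assoc F.t F.i, i_sq, mul_one, t_sq]

theorem four_comm {x w : G} (hxt : Commute x F.t) (hxi : Commute x F.i) (hw : w ∈ four F) :
    Commute x w := by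
  rcases mem_four hw with rfl | rfl | rfl | rfl
  · exact Commute.one_right x
  · exact hxt
  · exact hxi
  · exact hxt.mul_right hxi

theorem comm_t {K : Subgroup G} (hK : K ≤ centralizer ({F.t} : Set G)) {x : G} (hx : x ∈ K) :
    Commute x F.t := mem_centralizer_singleton_iff.1 (hK hx)

theorem α_pos : 0 < T.α := T.α_odd.pos

theorem one_lt_α : 1 < T.α := by
  have := T.five_le
  rcases T.αβ with ⟨-, h⟩ | ⟨-, h⟩ <;> omega

theorem A_odd : Odd (Nat.card T.A) := T.A_card ▸ T.α_odd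

theorem α_dvd : T.α ∣ T.q * (T.q * T.q - 1) := by
  refine Dvd.dvd.mul_left ?_ _
  rcases T.αβ with ⟨-, h⟩ | ⟨-, h⟩
  · refine ⟨4 * T.α + 4, ?_⟩
    rw [← h, show (2 * T.α + 1) * (2 * T.α + 1) = T.α * (4 * T.α + 4) + 1 by ring,
      Nat.add_sub_cancel]
  · have hq : T.q = 2 * T.α - 1 := by omega
    obtain ⟨k, hk⟩ : ∃ k, T.α = k + 1 := ⟨T.α - 1, by have := T.one_lt_α; omega⟩
    refine ⟨4 * k, ?_⟩
    rw [hq, hk, show 2 * (k + 1) - 1 = 2 * k + 1 by omega,
      show (2 * k + 1) * (2 * k + 1) = (k + 1) * (4 * k) + 1 by ring, Nat.add_sub_cancel]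

theorem qq : T.q * T.q - 1 = 2 * T.α * T.β := by
  rcases T.αβ with ⟨hb, hq⟩ | ⟨hb, hq⟩
  · rw [hb, ← hq, show (2 * T.α + 1) * (2 * T.α + 1) = 2 * T.α * (2 * T.α + 1 + 1) + 1 by ring,
      Nat.add_sub_cancel]
  · have h : T.q * T.q = 2 * T.α * T.β + 1 := by nlinarith
    rw [h, Nat.add_sub_cancel]

theorem O_cop_T : (Nat.card T.O).Coprime (2 * T.β) := by
  refine T.O_coprime.coprime_dvd_right (Dvd.dvd.mul_left ?_ _)
  rw [qq T]; exact Nat.mul_dvd_mul_right (dvd_mul_right 2 T.α) _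

theorem O_T_inf {x : G} (hO : x ∈ T.O) (hT : x ∈ T.T) : x = 1 :=
  orderOf_eq_one_iff.1 (Nat.eq_one_of_dvd_coprimes T.O_cop_T
    (Subgroup.orderOf_dvd_natCard _ hO) (T.T_card ▸ Subgroup.orderOf_dvd_natCard _ hT))

theorem conj_mem_O {o z : G} (ho : o ∈ T.O) (hz : z ∈ T.T) : z * o * z⁻¹ ∈ T.O :=
  (mem_normalizer_iff.1 (T.O_norm (T.T_le hz)) o).1 ho

theorem OT_unique {o o' z z' : G} (ho : o ∈ T.O) (ho' : o' ∈ T.O) (hz : z ∈ T.T) (hz' : z' ∈ T.T)
    (h : o * z = o' * z') : z = z' := by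
  have e : o'⁻¹ * o = z' * z⁻¹ := by
    calc o'⁻¹ * o = o'⁻¹ * (o * z) * z⁻¹ := by group
      _ = z' * z⁻¹ := by rw [h]; group
  exact (mul_inv_eq_one.1 (T.O_T_inf (e ▸ mul_mem (inv_mem ho') ho)
    (mul_mem hz' (inv_mem hz)))).symm

theorem pow_eq_one_of_O {o z : G} (ho : o ∈ T.O) (hz : z ∈ T.T) {n : ℕ} (h : (o * z) ^ n = 1) :
    z ^ n = 1 := by
  have key : ∀ m : ℕ, ∃ o' ∈ T.O, (o * z) ^ m = o' * z ^ m := by
    intro m
    induction m with
    | zero => exact ⟨1, one_mem _, by simp⟩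
    | succ m ih =>
      obtain ⟨o', ho', e⟩ := ih
      refine ⟨o' * (z ^ m * o * (z ^ m)⁻¹), mul_mem ho' (T.conj_mem_O ho (pow_mem hz m)), ?_⟩
      rw [pow_succ, e, pow_succ]; group
  obtain ⟨o', ho', e⟩ := key n
  rw [h] at e
  exact (T.OT_unique (one_mem _) ho' (one_mem _) (pow_mem hz n) (by rw [one_mul]; exact e)).symm

theorem O_cop_α : (Nat.card T.O).Coprime T.α := T.O_coprime.coprime_dvd_right T.α_dvd

theorem eq_one_of_O {x : G} (hx : x ∈ T.O) {n : ℕ} (hn : (Nat.card T.O).Coprime n)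
    (h : x ^ n = 1) : x = 1 :=
  orderOf_eq_one_iff.1 (Nat.eq_one_of_dvd_coprimes hn (Subgroup.orderOf_dvd_natCard _ hx)
    (orderOf_dvd_of_pow_eq_one h))

theorem pow_card_O {x : G} (hx : x ∈ T.O) : x ^ Nat.card T.O = 1 :=
  orderOf_dvd_iff_pow_eq_one.1 (Subgroup.orderOf_dvd_natCard _ hx)

theorem pow_α {a : G} (ha : a ∈ T.A) : a ^ T.α = 1 :=
  orderOf_dvd_iff_pow_eq_one.1 (T.A_card ▸ Subgroup.orderOf_dvd_natCard _ ha)

theorem odd_mul {o a : G} (ho : o ∈ T.O) (ha : a ∈ T.A) : Odd (orderOf (o * a)) := by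
  refine (T.O_odd.mul T.A_odd).of_dvd_nat ?_
  refine (T.O_A o ho a ha).orderOf_mul_dvd_lcm.trans ((Nat.lcm_dvd_mul _ _).trans ?_)
  exact Nat.mul_dvd_mul (Subgroup.orderOf_dvd_natCard _ ho) (Subgroup.orderOf_dvd_natCard _ ha)

/-- An element of odd order which commutes with the four-group lies in `O A`. -/
theorem odd_cent {c : G} (ht : Commute c F.t) (hi : Commute c F.i) (ho : Odd (orderOf c)) :
    ∃ o ∈ T.O, Commute o F.i ∧ ∃ a ∈ T.A, c = o * a := by
  obtain ⟨o, hoO, hoi, a, ha, w, hw, rfl⟩ := T.cent_i c ht hi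
  refine ⟨o, hoO, hoi, a, ha, ?_⟩
  have hoa : Commute (o * a) w := four_comm ((comm_t T.O_le hoO).mul_left (comm_t T.A_le ha))
    (hoi.mul_left (T.A_i a ha)) hw
  have hw1 : w = 1 := by
    refine CfsgLib.Invol.eq_one_of_sq_of_odd (four_sq hw) ?_
    have h1 : Commute (o * a * w) (o * a)⁻¹ := ((Commute.refl (o * a)).mul_left hoa.symm).inv_right
    have h2 := h1.orderOf_mul_dvd_lcm
    rw [hoa.eq, mul_inv_cancel_right] at h2
    rw [hoa.eq] at ho
    refine ((ho.mul (T.odd_mul hoO ha))).of_dvd_nat (h2.trans ?_)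
    rw [orderOf_inv]
    exact Nat.lcm_dvd_mul _ _
  rw [hw1, mul_one]

include hS

/-- The fixed points of `i` on `O` are trivial. -/
theorem O_fixed : ∀ x ∈ T.O, Commute x F.i → x = 1 := by
  intro x hx hxi
  let K : Subgroup G := T.O ⊓ centralizer ({F.i} : Set G)
  have hgN : F.g ∈ normalizer (K : Set G) := by
    refine mem_normalizer_iff_of_finite fun y hy => ?_
    have hyt := comm_t T.O_le hy.1
    have hyi : Commute y F.i := mem_centralizer_singleton_iff.1 hy.2
    obtain ⟨z, hz⟩ : ∃ z, z = F.g * y * F.g⁻¹ := ⟨_, rfl⟩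
    have hzi : Commute z F.i := hz ▸ by
      rw [← F.g_t]; exact hyt.map (MulAut.conj F.g).toMonoidHom
    have hzti : Commute z (F.t * F.i) := hz ▸ by
      rw [← F.g_i]; exact hyi.map (MulAut.conj F.g).toMonoidHom
    have hzt : Commute z F.t := by
      have h := hzti.mul_right hzi
      rwa [mul_assoc, i_sq, mul_one] at h
    obtain ⟨o, ho, hoi, a, ha, e⟩ := T.odd_cent hzt hzi
      (by rw [hz, orderOf_conj']; exact odd_orderOf T.O_odd hy.1)
    have h1 : (o * a) ^ Nat.card T.O = 1 := by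
      rw [← e, hz, conj_pow, T.pow_card_O hy.1]; group
    rw [(T.O_A o ho a ha).mul_pow, T.pow_card_O ho, one_mul] at h1
    have ha1 : a = 1 := orderOf_eq_one_iff.1 (Nat.eq_one_of_dvd_coprimes T.O_cop_α
      (orderOf_dvd_of_pow_eq_one h1) (orderOf_dvd_of_pow_eq_one (T.pow_α ha)))
    show F.g * y * F.g⁻¹ ∈ K
    rw [← hz, e, ha1, mul_one]
    exact ⟨ho, mem_centralizer_singleton_iff.2 hoi⟩
  have hP : (F.P : Subgroup G) ≤ normalizer (K : Set G) := fun w hw =>
    mem_normalizer_iff_of_finite fun y hy => by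
      rw [show w * y * w⁻¹ = y by
        rw [← (T.O_fix y hy.1 (mem_centralizer_singleton_iff.1 hy.2) w hw).eq, mul_inv_cancel_right]]
      exact hy
  have hK := F.eq_bot K (T.O_odd.of_dvd_nat (card_dvd_of_le inf_le_left)) hP hgN
  exact mem_bot.1 (hK ▸ (⟨hx, mem_centralizer_singleton_iff.2 hxi⟩ : x ∈ K))

/-- The centralizer of the four-group. -/
theorem cent_four {c : G} (ht : Commute c F.t) (hi : Commute c F.i) :
    ∃ a ∈ T.A, ∃ w ∈ four F, c = a * w := by
  obtain ⟨o, ho, hoi, a, ha, w, hw, rfl⟩ := T.cent_i c ht hi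
  exact ⟨a, ha, w, hw, by rw [O_fixed hS T o ho hoi, one_mul]⟩

/-- The odd elements centralising the four-group lie in `A`. -/
theorem odd_cent_four {c : G} (ht : Commute c F.t) (hi : Commute c F.i) (ho : Odd (orderOf c)) :
    c ∈ T.A := by
  obtain ⟨o, hoO, hoi, a, ha, rfl⟩ := T.odd_cent ht hi ho
  rw [O_fixed hS T o hoO hoi, one_mul]; exact ha

/-- The rotation centralises `A`. -/
theorem g_comm_A : ∀ a ∈ T.A, Commute F.g a := by
  have hvt := (v_comm (F := F)).eq
  have hnA : ∀ x : G, Commute (x⁻¹ * F.t * x) F.t → (∀ y, Commute y F.t → Commute y F.i →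
      Commute (x * y * x⁻¹) F.t ∧ Commute (x * y * x⁻¹) F.i) →
      ∀ a ∈ T.A, x * a * x⁻¹ ∈ T.A := fun x _ hx a ha =>
    T.odd_cent_four hS (hx a (comm_t T.A_le ha) (T.A_i a ha)).1
      (hx a (comm_t T.A_le ha) (T.A_i a ha)).2 (by rw [orderOf_conj']; exact odd_orderOf T.A_odd ha)
  have hgi : Commute (F.g⁻¹ * F.t * F.g) F.t := by
    have h : F.g⁻¹ * F.t * F.g = F.t * F.i := by
      calc F.g⁻¹ * F.t * F.g = F.g⁻¹ * (F.t * (F.i * F.i)) * F.g := by rw [i_sq, mul_one]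
        _ = F.g⁻¹ * ((F.t * F.i) * F.i) * F.g := by rw [mul_assoc F.t F.i F.i]
        _ = F.g⁻¹ * (F.g * F.i * F.g⁻¹ * (F.g * F.t * F.g⁻¹)) * F.g := by rw [F.g_i, F.g_t]
        _ = F.i * F.t := by group
        _ = F.t * F.i := (i_comm (F := F)).eq
    rw [h]; exact (Commute.refl F.t).mul_left i_comm
  obtain ⟨m, hm⟩ := exists_zpow_of_cyclic T.A_cyclic (x := F.g) (hnA F.g hgi fun y hyt hyi => by
    have h1 : Commute (F.g * y * F.g⁻¹) F.i := by
      rw [← F.g_t]; exact hyt.map (MulAut.conj F.g).toMonoidHom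
    have h2 : Commute (F.g * y * F.g⁻¹) (F.t * F.i) := by
      rw [← F.g_i]; exact hyi.map (MulAut.conj F.g).toMonoidHom
    have h3 := h2.mul_right h1
    rw [mul_assoc F.t F.i F.i, i_sq, mul_one] at h3
    exact ⟨h3, h1⟩)
  obtain ⟨n, hn⟩ := exists_zpow_of_cyclic T.A_cyclic (x := F.v) (hnA F.v
    (by rw [mul_assoc, ← hvt, inv_mul_cancel_left]) fun y hyt hyi => by
      have h1 : Commute (F.v * y * F.v⁻¹) F.t := by
        have := hyt.map (MulAut.conj F.v).toMonoidHom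
        rwa [show (MulAut.conj F.v).toMonoidHom F.t = F.t from
          (show F.v * F.t * F.v⁻¹ = F.t by rw [hvt, mul_inv_cancel_right])] at this
      have h2 : Commute (F.v * y * F.v⁻¹) (F.t * F.i) := by
        rw [← F.v_i]; exact hyi.map (MulAut.conj F.v).toMonoidHom
      have h3 := h1.mul_right h2
      rw [← mul_assoc, t_sq, one_mul] at h3
      exact ⟨h1, h3⟩)
  have hdiv : ∀ a ∈ T.A, F.v * (F.g * a * F.g⁻¹) * F.v⁻¹ = F.g * (F.v * a * F.v⁻¹) * F.g⁻¹ :=
    fun a ha => by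
      rw [hm a ha, hn _ (zpow_mem ha m), hn a ha, hm _ (zpow_mem ha n), ← zpow_mul, ← zpow_mul,
        mul_comm]
  -- `g⁻¹ [v, g]` centralises the four-group
  obtain ⟨k, hk⟩ : ∃ k, k = F.g⁻¹ * (F.v * F.g * F.v⁻¹ * F.g⁻¹) := ⟨_, rfl⟩
  have hgit : F.g⁻¹ * F.i * F.g = F.t := by rw [← F.g_t]; group
  have hgti : F.g⁻¹ * (F.t * F.i) * F.g = F.i := by rw [← F.g_i]; group
  have hgt' : F.g⁻¹ * F.t * F.g = F.t * F.i := by
    calc F.g⁻¹ * F.t * F.g = F.g⁻¹ * (F.t * (F.i * F.i)) * F.g := by rw [i_sq, mul_one]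
      _ = (F.g⁻¹ * (F.t * F.i) * F.g) * (F.g⁻¹ * F.i * F.g) := by group
      _ = F.t * F.i := by rw [hgti, hgit, (i_comm (F := F)).eq]
  have hvt' : F.v * F.t * F.v⁻¹ = F.t := by rw [hvt, mul_inv_cancel_right]
  have hvi' : F.v⁻¹ * (F.t * F.i) * F.v = F.i := by rw [← F.v_i]; group
  have hvti : F.v⁻¹ * F.i * F.v = F.t * F.i := by
    calc F.v⁻¹ * F.i * F.v = F.v⁻¹ * (F.t * (F.t * F.i)) * F.v := by
          rw [← mul_assoc F.t F.t, t_sq, one_mul]
      _ = (F.v⁻¹ * F.t * F.v) * (F.v⁻¹ * (F.t * F.i) * F.v) := by group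
      _ = F.t * F.i := by rw [hvi', mul_assoc F.v⁻¹, ← hvt, inv_mul_cancel_left]
  have hvti' : F.v * (F.t * F.i) * F.v⁻¹ = F.i := by rw [← hvti]; group
  have hkt : Commute k F.t := by
    refine commute_of_conj ?_
    calc k * F.t * k⁻¹ = F.g⁻¹ * (F.v * (F.g * (F.v⁻¹ * (F.g⁻¹ * F.t * F.g) * F.v) * F.g⁻¹) * F.v⁻¹) * F.g := by
          rw [hk]; group
      _ = F.t := by rw [hgt', hvi', F.g_i, hvti', hgit]
  have hki : Commute k F.i := by
    refine commute_of_conj ?_
    calc k * F.i * k⁻¹ = F.g⁻¹ * (F.v * (F.g * (F.v⁻¹ * (F.g⁻¹ * F.i * F.g) * F.v) * F.g⁻¹) * F.v⁻¹) * F.g := by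
          rw [hk]; group
      _ = F.i := by rw [hgit, mul_assoc F.v⁻¹, ← hvt, inv_mul_cancel_left, F.g_t, F.v_i, hgti]
  obtain ⟨a', ha', w, hw, he⟩ := T.cent_four hS hkt hki
  intro a ha
  have hka : Commute k a := by
    rw [he]
    refine Commute.mul_left ?_ (four_comm (comm_t T.A_le ha) (T.A_i a ha) hw).symm
    exact commute_of_mem_cyclic T.A_cyclic ha' ha
  -- the commutator centralises `A`
  have hcomm : Commute (F.v * F.g * F.v⁻¹ * F.g⁻¹) a := by
    refine commute_of_conj ?_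
    have hz : F.v⁻¹ * (F.g⁻¹ * a * F.g) * F.v ∈ T.A := by
      have hg' : ∀ x : G, (∀ c ∈ T.A, x * c * x⁻¹ ∈ T.A) → ∀ c ∈ T.A, x⁻¹ * c * x ∈ T.A := by
        intro x hx c hc
        have hN : x ∈ normalizer (T.A : Set G) := mem_normalizer_iff_of_finite hx
        have := (mem_normalizer_iff.1 (inv_mem hN) c).1 hc
        rwa [inv_inv] at this
      exact hg' _ (fun c hc => hn c hc ▸ zpow_mem hc n) _
        (hg' _ (fun c hc => hm c hc ▸ zpow_mem hc m) a ha)
    calc F.v * F.g * F.v⁻¹ * F.g⁻¹ * a * (F.v * F.g * F.v⁻¹ * F.g⁻¹)⁻¹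
        = F.v * (F.g * (F.v⁻¹ * (F.g⁻¹ * a * F.g) * F.v) * F.g⁻¹) * F.v⁻¹ := by group
      _ = F.g * (F.v * (F.v⁻¹ * (F.g⁻¹ * a * F.g) * F.v) * F.v⁻¹) * F.g⁻¹ := hdiv _ hz
      _ = a := by group
  have hg : F.g = (F.v * F.g * F.v⁻¹ * F.g⁻¹) * k⁻¹ := by rw [hk]; group
  rw [hg]
  exact hcomm.mul_left hka.inv_left

/-- A subgroup of odd order normalised by a 2-group with `t` in its derived group lies in `C(t)`. -/
theorem comm_t_of_normalised {K D : Subgroup G} (hK : Odd (Nat.card K)) (ht : F.t ∈ ⁅D, D⁆)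
    (hn : D ≤ normalizer (K : Set G)) : ∀ k ∈ K, Commute k F.t := fun k hk =>
  (commute_of_zgroup (hS.cyc.isZGroup hK) hK hn ht F.t_two k hk).symm

/-- The odd elements of `T` have their centralizers in `C(t)`. -/
theorem cent_odd_T {b : G} (hb : b ∈ T.T) (hb1 : b ≠ 1) (hbo : Odd (orderOf b)) :
    ∀ c : G, Commute c b → Commute c F.t := by
  haveI : Fact (Nat.Prime 2) := ⟨Nat.prime_two⟩
  haveI := T.T_cyclic
  have hbt : b ≠ F.t := fun e => by
    rw [e, F.t_two] at hbo; exact absurd hbo (by decide)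
  set Cb := centralizer ({b} : Set G) with hCb
  have htCb : F.t ∈ Cb := mem_centralizer_singleton_iff.2
    (commute_of_mem_cyclic T.T_cyclic T.t_T hb).eq
  -- the elements of `C(b)` commuting with `t` lie in `O T`
  have hOT : ∀ s ∈ Cb, Commute s F.t → ∃ o ∈ T.O, ∃ z ∈ T.T, s = o * z := fun s hs hst =>
    T.cent_T b hb hb1 hbt s hst (mem_centralizer_singleton_iff.1 hs)
  -- a Sylow subgroup of `C(b)` is cyclic
  obtain ⟨S, hS'⟩ := (IsPGroup.of_card (n := 1)
    (show Nat.card (zpowers (⟨F.t, htCb⟩ : Cb)) = 2 ^ 1 by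
      rw [Nat.card_zpowers, orderOf_mk, F.t_two, pow_one])).exists_le_sylow
  have htS : (⟨F.t, htCb⟩ : Cb) ∈ (S : Subgroup Cb) := hS' (mem_zpowers _)
  have hpow : ∀ s ∈ (S : Subgroup Cb), ∃ k, (s : G) ^ 2 ^ k = 1 := fun s hs => by
    obtain ⟨k, hk⟩ := S.2 ⟨s, hs⟩
    exact ⟨k, congrArg (fun x : (S : Subgroup Cb) => ((x : Cb) : G)) hk⟩
  have hcomm : ∀ s ∈ (S : Subgroup Cb), Commute (s : G) F.t := by
    have hnt : Nontrivial (S : Subgroup Cb) := ⟨⟨⟨_, htS⟩, 1, fun e => t_ne_one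
      (congrArg (fun x : (S : Subgroup Cb) => ((x : Cb) : G)) e)⟩⟩
    have hZ := S.2.center_nontrivial
    obtain ⟨z, hz⟩ := exists_prime_orderOf_dvd_card' (G := center (S : Subgroup Cb)) 2 (by
      have hp : IsPGroup 2 (center (S : Subgroup Cb)) := S.2.to_subgroup _
      obtain ⟨n, hn⟩ := hp.exists_card_eq
      rcases n with _ | n
      · rw [pow_zero] at hn
        exact absurd hn (Finite.one_lt_card (α := center (S : Subgroup Cb))).ne'
      · rw [hn]; exact dvd_pow_self 2 (Nat.succ_ne_zero n))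
    set z' : G := (((z : (S : Subgroup Cb)) : Cb) : G) with hz'
    have hzo : orderOf z' = 2 := by
      rw [hz', Subgroup.orderOf_coe, Subgroup.orderOf_coe, Subgroup.orderOf_coe, hz]
    have hzt : Commute z' F.t := congrArg (fun x : (S : Subgroup Cb) => ((x : Cb) : G))
      (mem_center_iff.1 z.2 ⟨_, htS⟩).symm
    have hze : z' = F.t := by
      obtain ⟨o, ho, w, hw, e⟩ := hOT z' ((z : (S : Subgroup Cb)) : Cb).2 hzt
      have h2 : w ^ 2 = 1 := T.pow_eq_one_of_O ho hw (by rw [← e, ← hzo]; exact pow_orderOf_eq_one z')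
      rcases (Nat.dvd_prime Nat.prime_two).1 (orderOf_dvd_of_pow_eq_one h2) with h | h
      · rw [orderOf_eq_one_iff.1 h, mul_one] at e
        have := odd_orderOf T.O_odd ho
        rw [← e, hzo] at this
        exact absurd this (by decide)
      · obtain ⟨j, hj⟩ := mem_zpowers_iff.1 (mem_zpowers_cyclic T.T_cyclic T.t_T hw
          (by rw [h, F.t_two]))
        have hwt : w = F.t := by
          rcases Int.even_or_odd' j with ⟨l, rfl | rfl⟩
          · rw [zpow_mul, zpow_two, t_sq, one_zpow] at hj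
            rw [← hj, orderOf_one] at h; omega
          · rw [zpow_add, zpow_mul, zpow_two, t_sq, one_zpow, one_mul, zpow_one] at hj
            exact hj.symm
        have ho1 : o = 1 := by
          have h3 : (o * w) * (o * w) = 1 := by
            rw [← e, ← pow_two, ← hzo]; exact pow_orderOf_eq_one z'
          rw [hwt] at h3
          rw [show o * F.t * (o * F.t) = o * o * (F.t * F.t) by
            rw [mul_assoc, ← mul_assoc F.t o, ← (comm_t T.O_le ho).eq]; simp only [mul_assoc],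
            t_sq, mul_one] at h3
          exact CfsgLib.Invol.eq_one_of_sq_of_odd h3 (odd_orderOf T.O_odd ho)
        rw [e, ho1, one_mul, hwt]
    intro s hs
    rw [← hze]
    exact congrArg (fun x : (S : Subgroup Cb) => ((x : Cb) : G)) (mem_center_iff.1 z.2 ⟨s, hs⟩)
  choose fo hfo fz hfz hfe using fun s : (S : Subgroup Cb) =>
    hOT ((s : Cb) : G) (s : Cb).2 (hcomm s s.2)
  have hcyc : IsCyclic (S : Subgroup Cb) := by
    refine isCyclic_of_injective (MonoidHom.mk' (fun s => (⟨fz s, hfz s⟩ : T.T)) fun s r =>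
      Subtype.ext ?_) fun s r e => ?_
    · refine T.OT_unique (hfo (s * r)) (mul_mem (hfo s) (T.conj_mem_O (hfo r) (hfz s))) (hfz (s * r))
        (mul_mem (hfz s) (hfz r)) ?_
      rw [← hfe]
      push_cast
      rw [hfe s, hfe r]; group
    · have e' : fz s = fz r := congrArg Subtype.val e
      obtain ⟨k, hk⟩ := hpow _ (mul_mem s.2 (inv_mem r.2))
      have h1 : ((s : Cb) : G) * ((r : Cb) : G)⁻¹ ∈ T.O := by
        rw [hfe s, hfe r, e', show fo s * fz r * (fo r * fz r)⁻¹ = fo s * (fo r)⁻¹ by group]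
        exact mul_mem (hfo s) (inv_mem (hfo r))
      refine Subtype.ext (Subtype.ext (mul_inv_eq_one.1 (eq_one_of_O T h1
        ((Nat.coprime_two_right.2 T.O_odd).pow_right k) ?_)))
      exact hk
  obtain ⟨Q, N, hN, hcp⟩ := hasNormalPComplement_of_cyclic_focal S (S : Subgroup Cb) hcyc inf_le_right
  -- the complement is the set of odd elements
  haveI := hN
  have hNodd : Odd (Nat.card N) := by
    have h1 : ¬ 2 ∣ (Q : Subgroup Cb).index := Q.not_dvd_index
    have h2 := hcp.index_eq_card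
    rw [h2] at h1
    exact Nat.not_even_iff_odd.1 fun h => h1 (even_iff_two_dvd.1 h)
  have hmem : ∀ x : Cb, x ∈ N ↔ Odd (orderOf x) := by
    intro x
    refine ⟨fun hx => odd_orderOf hNodd hx, fun hx => ?_⟩
    rw [← QuotientGroup.eq_one_iff]
    obtain ⟨n, hn⟩ := Q.2.exists_card_eq
    refine orderOf_eq_one_iff.1 (Nat.eq_one_of_dvd_coprimes (a := orderOf x) (b := 2 ^ n)
      ((Nat.coprime_two_right.2 hx).pow_right n) (orderOf_map_dvd (QuotientGroup.mk' N) x) ?_)
    rw [← hn, ← hcp.symm.index_eq_card, Subgroup.index_eq_card]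
    exact orderOf_dvd_natCard _
  set K := N.map Cb.subtype with hK
  have hKmem : ∀ x, x ∈ K ↔ x ∈ Cb ∧ Odd (orderOf x) := by
    intro x
    constructor
    · rintro ⟨y, hy, rfl⟩
      exact ⟨y.2, by rw [Subgroup.coe_subtype, Subgroup.orderOf_coe]; exact (hmem y).1 hy⟩
    · rintro ⟨hx, ho⟩
      exact ⟨⟨x, hx⟩, (hmem _).2 (by rwa [orderOf_mk]), rfl⟩
  have hKodd : Odd (Nat.card K) := by
    rw [hK, card_map_of_injective Cb.subtype_injective]; exact hNodd
  have hPK : (F.P : Subgroup G) ≤ normalizer (K : Set G) := by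
    intro x hx
    refine mem_normalizer_iff_of_finite fun y hy => ?_
    rw [hKmem] at hy ⊢
    refine ⟨mem_centralizer_singleton_iff.2 ?_, by rw [orderOf_conj']; exact hy.2⟩
    obtain ⟨n, hn⟩ := exists_zpow_of_cyclic T.T_cyclic (x := x⁻¹) fun c hc =>
      (mem_normalizer_iff.1 (inv_mem (T.T_norm hx)) c).1 hc
    have h1 := hn b hb
    rw [inv_inv] at h1
    have h2 : Commute y (b ^ n) := (show Commute y b from mem_centralizer_singleton_iff.1 hy.1).zpow_right n
    rw [← h1] at h2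
    have h3 := h2.map (MulAut.conj x).toMonoidHom
    show x * y * x⁻¹ * b = b * (x * y * x⁻¹)
    simpa [mul_assoc] using h3.eq
  intro c hc
  have hKt := comm_t_of_normalised hS hKodd F.t_derived hPK
  -- decompose along the complement
  have hNS : N.IsComplement' (S : Subgroup Cb) := by
    refine isComplement'_of_coprime ?_ ?_
    · rw [S.card_eq_multiplicity, ← Q.card_eq_multiplicity]
      exact hcp.card_mul_card
    · obtain ⟨n, hn⟩ := S.2.exists_card_eq
      rw [hn]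
      exact (Nat.coprime_two_right.2 hNodd).pow_right n
  obtain ⟨y, hy, -⟩ := hNS.existsUnique ⟨c, mem_centralizer_singleton_iff.2 hc⟩
  have hy' : ((y.1 : Cb) : G) * ((y.2 : Cb) : G) = c := congrArg Subtype.val hy
  rw [← hy']
  exact (hKt _ ⟨_, y.1.2, rfl⟩).mul_left (hcomm _ y.2.2)

end Tori

end CfsgLib.S4069
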