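import Cfsg.Agent.Lib.S4069.Basic
import Cfsg.Agent.Lib.Invol.QWGroups
import Cfsg.Agent.Lib.Invol.Simple
import Cfsg.Agent.Lib.OddLocal.QuadPair
import Cfsg.Agent.Lib.Solvable.PCore
import Cfsg.Agent.Lib.Classical.SLTwoSubSylow
import Cfsg.Agent.Lib.Geom.PSLTwoSolvable
import Cfsg.Agent.Lib.ClassK.SmallSimple
import Cfsg.Agent.Lib.GW.ShapePGL
import Cfsg.Agent.Lib.Recog.ABProd.Ident

/-!
# The frame of the semidihedral configuration

The centralizer of the central involution is the only maximal subgroup over a Sylow 2-subgroup.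
-/

set_option autoImplicit false
set_option linter.unusedSectionVars false
set_option linter.style.haveILetI false

namespace CfsgLib.S4069

open Subgroup CfsgLib.Invol
open scoped MatrixGroups commutatorElement

universe u

section QD

variable {S : Type*} [Group S] (D : QDData S)

/-- A non-central involution does not commute with its conjugate under `x`. -/
theorem not_commute_conj (j : ℤ) :
    ¬ Commute (D.x ^ j * D.y) (D.x * (D.x ^ j * D.y) * D.x⁻¹) := by
  intro h
  have e : D.x * (D.x ^ j * D.y) * D.x⁻¹ = D.x ^ (j + 2 * (1 - (D.m : ℤ))) * D.y := by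
    have := D.conj_zpow_of_zpow 1 j
    rwa [zpow_one, mul_one] at this
  rw [e, Commute, SemiconjBy, D.mul_rule_yy, D.mul_rule_yy, D.zpow_eq_zpow_iff] at h
  obtain ⟨c, hc⟩ := h
  obtain ⟨e', he⟩ := D.even_m
  have he' : (D.m : ℤ) = e' + e' := by exact_mod_cast he
  have h1 : 4 * ((D.m : ℤ) * c - ((D.m : ℤ) - 1) * ((D.m : ℤ) - 1)) = 0 := by
    linear_combination -hc
  have h2 : ((D.m : ℤ) - 1) * ((D.m : ℤ) - 1) = (D.m : ℤ) * c := by linarith
  have h3 : Even ((D.m : ℤ) * c) := ⟨e' * c, by rw [he']; ring⟩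
  rw [← h2, Int.even_mul, or_self, Int.even_sub_one] at h3
  exact h3 ⟨e', he'⟩

/-- A normal subgroup of exponent two lies in the centre. -/
theorem eq_z_of_exponent_two {N : Subgroup S} [hN : N.Normal] (h2 : ∀ u ∈ N, u * u = 1) {u : S}
    (hu : u ∈ N) (hu1 : u ≠ 1) : u = D.z := by
  rcases D.eq_of_orderOf_two (orderOf_eq_prime (by rw [pow_two, h2 u hu]) hu1) with h | ⟨j, -, rfl⟩
  · exact h
  refine absurd ?_ (not_commute_conj D j)
  have hc := hN.conj_mem _ hu D.x
  set w := D.x * (D.x ^ j * D.y) * D.x⁻¹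
  set u := D.x ^ j * D.y
  have h := h2 _ (mul_mem hu hc)
  show u * w = w * u
  rw [eq_inv_of_mul_eq_one_left h, mul_inv_rev, inv_eq_of_mul_eq_one_right (h2 _ hu),
    inv_eq_of_mul_eq_one_right (h2 _ hc)]

theorem z_eq_sq : D.x ^ (D.m : ℤ) * D.x ^ (D.m : ℤ) = D.z := by
  rw [← zpow_add, QDData.z, two_mul]

theorem conj_y : D.x ^ (D.m : ℤ) * D.y * (D.x ^ (D.m : ℤ))⁻¹ = D.z * D.y := by
  have h := D.conj_zpow_of_zpow (D.m : ℤ) 0
  rw [zpow_zero, one_mul] at h
  rw [h, QDData.z, D.zpow_mul_y_eq_iff]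
  obtain ⟨e, he⟩ := D.even_m
  have he' : (D.m : ℤ) = e + e := by exact_mod_cast he
  exact ⟨(D.m : ℤ) * e ^ 0 - (D.m : ℤ) + e, by rw [he']; ring⟩

include D in
/-- A semidihedral group does not embed in `PGL(2, q)`. -/
theorem not_embed_pgl {F : Type} [Field F] [Fintype F] (hodd : Odd (Fintype.card F))
    (ψ : S →* PGL(2, F)) (hψ : Function.Injective ψ) : False := by
  have hz : orderOf (ψ D.z) = 2 := by rw [orderOf_injective ψ hψ, D.orderOf_z]
  obtain ⟨T, hT, -, -, -, hall, -⟩ := CfsgLib.GW.PGL.exists_torus hodd hz (Commute.refl _)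
    (invol_ne_one hz)
  have hin : ∀ s : S, s * s ≠ 1 → ψ s ∈ T := fun s hs =>
    (hall (ψ s) ((D.commute_z s).symm.map ψ)).resolve_right fun h =>
      hs (hψ (by rw [map_mul, h, map_one]))
  have h1 : D.x * D.x ≠ 1 := fun h => by
    have h' : D.x ^ (2 : ℤ) = 1 := by rw [zpow_two, h]
    rw [D.zpow_eq_one_iff] at h'
    have := Int.le_of_dvd two_pos h'
    have := D.two_le
    omega
  have h2 : D.x ^ (1 : ℤ) * D.y * (D.x ^ (1 : ℤ) * D.y) ≠ 1 := by
    rw [D.sq_odd_y odd_one]; exact invol_ne_one D.orderOf_z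
  haveI := hT
  have hc : Commute (ψ (D.x ^ (1 : ℤ))) (ψ (D.x ^ (1 : ℤ) * D.y)) :=
    congrArg Subtype.val ((inferInstance : IsMulCommutative T).is_comm.comm
      ⟨_, hin _ (by rwa [zpow_one])⟩ ⟨_, hin _ h2⟩)
  have hc' : Commute (D.x ^ (1 : ℤ)) (D.x ^ (1 : ℤ) * D.y) := hψ (by rw [map_mul ψ (D.x ^ (1 : ℤ)) _, map_mul ψ _ (D.x ^ (1 : ℤ))]; exact hc.eq)
  have := Int.le_of_dvd one_pos (D.commute_y_iff.1 hc')
  have := D.two_le
  omega

end QD

variable {G : Type u} [Group G] [Finite G]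

theorem eq_one_of_odd_sq {K : Type*} [Group K] [Finite K] {N : Subgroup K}
    (hN : Odd (Nat.card N)) {x : K} (hx : x ∈ N) (h : x * x = 1) : x = 1 :=
  orderOf_eq_one_iff.1 (Nat.eq_one_of_dvd_coprimes (Nat.coprime_two_left.2 hN)
    (orderOf_dvd_of_pow_eq_one (by rw [pow_two, h])) (Subgroup.orderOf_dvd_natCard N hx))

variable (hS : SDMin G) (P : Sylow 2 G) (D : QDData (P : Subgroup G))

include hS in
/-- `t` is central in every proper solvable subgroup over `P`. -/
theorem commute_solvable {H : Subgroup G} (hle : (P : Subgroup G) ≤ H) [Group.IsSolvable H]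
    (ht : qz P D ∈ ⁅(P : Subgroup G), (P : Subgroup G)⁆) :
    ∀ h ∈ H, Commute h (qz P D) := by
  haveI : Fact (Nat.Prime 2) := ⟨Nat.prime_two⟩
  set O := Cfsg.oddCore H with hO
  haveI hOn : O.Normal := CfsgLib.Solvable.pPrimeCore_normal 2 H
  set K := H ⧸ O
  let π : H →* K := QuotientGroup.mk' O
  let ι : (P : Subgroup G) →* H := inclusion hle
  let f : (P : Subgroup G) →* K := π.comp ι
  have hf : Function.Injective f := (injective_iff_map_eq_one f).2 fun s hs => by
    have h1 : ι s ∈ O := (QuotientGroup.eq_one_iff _).1 hs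
    obtain ⟨k, hk⟩ := P.2 s
    refine orderOf_eq_one_iff.1 (Nat.eq_one_of_dvd_coprimes
      (Nat.Coprime.pow_left k (Nat.coprime_two_left.2 (odd_card_oddCore H)))
      (orderOf_dvd_of_pow_eq_one hk) ?_)
    rw [← orderOf_injective ι (inclusion_injective hle)]
    exact Subgroup.orderOf_dvd_natCard O h1
  haveI : Nontrivial K := ⟨f D.z, 1, fun h => invol_ne_one D.orderOf_z (hf (h.trans (map_one f).symm))⟩
  haveI : Group.IsSolvable K := solvable_of_surjective (QuotientGroup.mk'_surjective O)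
  obtain ⟨A, hAn, hA0, hAc⟩ := CfsgLib.OddLocal.exists_abelian_normal K
  haveI := hAc
  have hcomm : ∀ {a b : K}, a ∈ A → b ∈ A → Commute a b := fun ha hb =>
    congrArg Subtype.val (hAc.is_comm.comm ⟨_, ha⟩ ⟨_, hb⟩)
  -- the involutions of `A`
  let N : Subgroup K :=
    { carrier := {a | a ∈ A ∧ a * a = 1}
      one_mem' := ⟨A.one_mem, one_mul 1⟩
      mul_mem' := fun {a b} ha hb => ⟨mul_mem ha.1 hb.1, by
        rw [(hcomm hb.1 ha.1).mul_mul_mul_comm, ha.2, hb.2, one_mul]⟩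
      inv_mem' := fun {a} ha => ⟨inv_mem ha.1, by rw [← mul_inv_rev, ha.2, inv_one]⟩ }
  haveI hNn : N.Normal := ⟨fun a ha g => ⟨hAn.conj_mem _ ha.1 g, by rw [conj_mul, ha.2, mul_one, mul_inv_cancel]⟩⟩
  have hN0 : N ≠ ⊥ := by
    intro h0
    have hodd : Odd (Nat.card A) := by
      rw [← Nat.not_even_iff_odd, even_iff_two_dvd]
      intro h2
      obtain ⟨a, ha⟩ := exists_prime_orderOf_dvd_card' (G := A) 2 h2
      have h1 : (a : K) ∈ N := ⟨a.2, invol_mul_self ((Subgroup.orderOf_coe a).trans ha)⟩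
      rw [h0, mem_bot] at h1
      exact invol_ne_one ha (Subtype.ext h1)
    exact hA0 (le_bot_iff.1 ((le_oddCore hAn hodd).trans_eq
      (CfsgLib.Solvable.pPrimeCore_quotient_eq_bot (G := H) 2)))
  have hN2 : IsPGroup 2 N := fun a => ⟨1, Subtype.ext (by
    show ((a : K)) ^ 2 ^ 1 = 1
    rw [pow_one, pow_two]; exact a.2.2)⟩
  let T : Sylow 2 H := P.subtype hle
  have hNle : ∀ u ∈ N, ∃ s, f s = u := fun u hu => by
    have h1 := CfsgLib.Solvable.normal_pgroup_le_sylow hN2
      (T.mapSurjective (QuotientGroup.mk'_surjective O)) hu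
    rw [Sylow.coe_mapSurjective] at h1
    obtain ⟨w, hw, rfl⟩ := h1
    exact ⟨⟨(w : G), hw⟩, rfl⟩
  -- the only element is the image of `t`
  have hN1 : ∀ u ∈ N, u ≠ 1 → u = f D.z := fun u hu hu1 => by
    obtain ⟨s, rfl⟩ := hNle u hu
    haveI : (N.comap f).Normal := hNn.comap f
    rw [eq_z_of_exponent_two D (N := N.comap f)
      (fun w hw => hf (by rw [map_mul, map_one]; exact hw.2)) hu
      (fun h => hu1 (by rw [h, map_one]))]
  obtain ⟨u, hu, hu1⟩ := N.bot_or_exists_ne_one.resolve_left hN0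
  have hzN : f D.z ∈ N := hN1 u hu hu1 ▸ hu
  have hzcen : ∀ k : K, k * f D.z * k⁻¹ = f D.z := fun k =>
    hN1 _ (hNn.conj_mem _ hzN k) fun h => invol_ne_one D.orderOf_z (hf (by
      rw [map_one]; exact conj_eq_one_iff.1 h))
  -- lift
  intro h hh
  let τ : H := ι D.z
  have hτ2 : τ * τ = 1 := by rw [← map_mul, invol_mul_self D.orderOf_z, map_one]
  set c : H := ⟨h, hh⟩ * τ * (⟨h, hh⟩ : H)⁻¹ * τ with hc
  have hcO : c ∈ O := by
    refine (QuotientGroup.eq_one_iff c).1 ?_
    show π (⟨h, hh⟩ * τ * (⟨h, hh⟩ : H)⁻¹ * τ) = 1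
    rw [map_mul, map_mul, map_mul, map_inv,
      show π τ = f D.z from rfl, hzcen, ← map_mul, invol_mul_self D.orderOf_z, map_one]
  have hodd : Odd (Nat.card (O.map H.subtype)) := by
    rw [← Nat.card_congr (O.equivMapOfInjective _ H.subtype_injective).toEquiv]
    exact odd_card_oddCore H
  have hnor : (P : Subgroup G) ≤ normalizer ((O.map H.subtype : Subgroup G) : Set G) :=
    hle.trans (le_normalizer_map H.subtype |>.trans' (by
      rw [normalizer_eq_top, ← MonoidHom.range_eq_map, range_subtype]))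
  have hct : Commute (qz P D) (c : G) := commute_of_zgroup (hS.cyc.isZGroup hodd) hodd hnor ht
    ((Subgroup.orderOf_coe _).trans D.orderOf_z) _ ⟨c, hcO, rfl⟩
  have hct' : Commute τ c := Subtype.ext hct
  have h1 : c * c = 1 := by
    have e : ⟨h, hh⟩ * τ * (⟨h, hh⟩ : H)⁻¹ = c * τ := by rw [hc, mul_assoc _ τ τ, hτ2, mul_one]
    have e2 := congrArg (fun w => w * w) e
    simp only [conj_mul, hτ2, mul_one, mul_inv_cancel] at e2
    rw [hct'.mul_mul_mul_comm, hτ2, mul_one] at e2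
    exact e2.symm
  have h3 := eq_one_of_odd_sq (odd_card_oddCore H) hcO h1
  rw [hc, mul_eq_one_iff_eq_inv, inv_eq_of_mul_eq_one_right hτ2] at h3
  exact mul_inv_eq_iff_eq_mul.1 (congrArg Subtype.val h3)

set_option maxHeartbeats 800000 in
/-- `t` is central in every proper nonsolvable subgroup over `P`. -/
theorem commute_shape {H : Subgroup G} (hle : (P : Subgroup G) ≤ H) (hH : Shape H) :
    ∀ h ∈ H, Commute h (qz P D) := by
  obtain ⟨X, L, hX, hL, hXL, hidx, hodd, -, p, hp, h5, hiso⟩ := hH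
  let ι : (P : Subgroup G) →* H := inclusion hle
  have hdis : Disjoint X L := disjoint_iff.2 hXL
  have hcom : ∀ {a b : H}, a ∈ X → b ∈ L → Commute a b := fun ha hb =>
    Subgroup.commute_of_normal_of_disjoint X L hX hL hdis _ _ ha hb
  have hsq : ∀ s : (P : Subgroup G), ι (s * s) ∈ L := fun s => by
    have h1 : ι s * ι s ∈ X ⊔ L := by
      rcases (Nat.dvd_prime Nat.prime_two).1 hidx with h | h
      · rw [index_eq_one.1 h]; exact mem_top _
      · exact mul_self_mem_of_index_two h _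
    rw [← map_mul] at h1
    haveI := hL
    rw [← SetLike.mem_coe, Subgroup.mul_normal X L] at h1
    obtain ⟨a, (ha : a ∈ X), b, (hb : b ∈ L), e⟩ := h1
    obtain ⟨k, hk⟩ := P.2 (s * s)
    have h2 : (a * b) ^ 2 ^ k = 1 := by
      rw [show a * b = ι (s * s) from e, ← map_pow, hk, map_one]
    rw [(hcom ha hb).mul_pow] at h2
    have h3 : a ^ 2 ^ k ∈ X ⊓ L :=
      mem_inf.2 ⟨pow_mem ha _, by rw [eq_inv_of_mul_eq_one_left h2]; exact inv_mem (pow_mem hb _)⟩
    rw [hXL, mem_bot] at h3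
    have h4 : a = 1 := orderOf_eq_one_iff.1 (Nat.eq_one_of_dvd_coprimes
      (Nat.Coprime.pow_left k (Nat.coprime_two_left.2 hodd)) (orderOf_dvd_of_pow_eq_one h3)
      (Subgroup.orderOf_dvd_natCard X ha))
    rw [← show a * b = ι (s * s) from e, h4, one_mul]; exact hb
  have hzL : ι D.z ∈ L := z_eq_sq D ▸ hsq _
  rcases hiso with ⟨⟨e⟩⟩ | ⟨⟨e⟩⟩
  · -- `P` would embed in `PGL(2, p)`
    exfalso
    haveI := hp
    have hcard : Fintype.card (ZMod p) = p := ZMod.card p
    obtain ⟨θ⟩ := CfsgLib.Recog.ABProd.mulAut_psl_equiv (F := ZMod p) (by rw [hcard]; exact hp.out)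
    haveI := hL
    let φ : (P : Subgroup G) →* MulAut L :=
      (MulAut.conjNormal (H := L)).comp ι
    let ψ : (P : Subgroup G) →* PGL(2, ZMod p) :=
      θ.symm.toMonoidHom.comp ((MulAut.congr e).toMonoidHom.comp φ)
    have hpodd : Odd (Fintype.card (ZMod p)) := by rw [hcard]; exact hp.out.odd_of_ne_two (by omega)
    have hi1 : Function.Injective (θ.symm.toMonoidHom.comp (MulAut.congr e).toMonoidHom) :=
      θ.symm.injective.comp (MulAut.congr e).injective
    suffices hφ : φ.ker = ⊥ from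
      not_embed_pgl D hpodd ψ (hi1.comp ((MonoidHom.ker_eq_bot_iff φ).1 hφ))
    haveI : IsSimpleGroup (Matrix.ProjectiveSpecialLinearGroup (Fin 2) (ZMod p)) :=
      CfsgLib.ClassK.isSimpleGroup_psl_two (by rw [hcard]; omega)
    have hex : ∀ s ∈ φ.ker, s * s = 1 := fun s hs => by
      set w : L := ⟨ι (s * s), hsq s⟩
      have hw : ∀ l : L, Commute (w : H) l := fun l => by
        have h := congrArg (fun α : MulAut L => ((α l : L) : H))
          (show φ (s * s) = 1 by rw [map_mul, MonoidHom.mem_ker.1 hs, one_mul])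
        exact mul_inv_eq_iff_eq_mul.1 h
      have hcen : e w ∈ center (Matrix.ProjectiveSpecialLinearGroup (Fin 2) (ZMod p)) :=
        mem_center_iff.2 fun y => by
          obtain ⟨l, rfl⟩ := e.surjective y
          rw [← map_mul, ← map_mul, show l * w = w * l from Subtype.ext (hw l).symm]
      rcases (inferInstance : (center (Matrix.ProjectiveSpecialLinearGroup (Fin 2)
        (ZMod p))).Normal).eq_bot_or_eq_top with h | h
      · rw [h, mem_bot, map_eq_one_iff e e.injective] at hcen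
        exact inclusion_injective hle (by rw [map_one]; exact congrArg Subtype.val hcen)
      · exact absurd (fun a b => (mem_center_iff.1 (h ▸ mem_top a) b).symm)
          (CfsgLib.Geom.Moebius.psl_not_comm (by rw [hcard]; omega))
    by_contra hne
    obtain ⟨s, hs, hs1⟩ := φ.ker.bot_or_exists_ne_one.resolve_left hne
    have h1 := MonoidHom.mem_ker.1 (eq_z_of_exponent_two D hex hs hs1 ▸ hs : D.z ∈ φ.ker)
    have hzc : ∀ l : L, Commute ((ι D.z : H)) l := fun l =>
      mul_inv_eq_iff_eq_mul.1 (congrArg (fun α : MulAut L => ((α l : L) : H)) h1)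
    have hcen : e ⟨ι D.z, hzL⟩ ∈ center (Matrix.ProjectiveSpecialLinearGroup (Fin 2) (ZMod p)) :=
      mem_center_iff.2 fun y => by
        obtain ⟨l, rfl⟩ := e.surjective y
        rw [← map_mul, ← map_mul]
        exact congrArg e (Subtype.ext (hzc l).symm)
    rcases (inferInstance : (center (Matrix.ProjectiveSpecialLinearGroup (Fin 2)
      (ZMod p))).Normal).eq_bot_or_eq_top with h | h
    · rw [h, mem_bot, map_eq_one_iff e e.injective] at hcen
      exact invol_ne_one D.orderOf_z (inclusion_injective hle (by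
        rw [map_one]; exact congrArg Subtype.val hcen))
    · exact CfsgLib.Geom.Moebius.psl_not_comm (by rw [hcard]; omega)
        fun a b => (mem_center_iff.1 (h ▸ mem_top a) b).symm
  · -- the unique involution of `SL(2, p)`
    haveI := hp
    have h2 : (2 : ZMod p) ≠ 0 := by
      intro h0
      have := (ZMod.natCast_eq_zero_iff 2 p).1 (by exact_mod_cast h0)
      have := Nat.le_of_dvd two_pos this
      omega
    intro h hh
    set τ : H := ι D.z
    have ho : orderOf τ = 2 := (orderOf_injective ι (inclusion_injective hle) _).trans D.orderOf_z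
    have hm : ⟨h, hh⟩ * τ * (⟨h, hh⟩ : H)⁻¹ ∈ L := hL.conj_mem _ hzL _
    have e1 := CfsgLib.Classical.eq_neg_one_of_orderOf_two h2 (g := e ⟨τ, hzL⟩)
      (by rw [MulEquiv.orderOf_eq, Subgroup.orderOf_mk, ho])
    have e2 := CfsgLib.Classical.eq_neg_one_of_orderOf_two h2 (g := e ⟨_, hm⟩)
      (by rw [MulEquiv.orderOf_eq, Subgroup.orderOf_mk, orderOf_conj_eq, ho])
    have e3 := e.injective (Subtype.ext (e2.trans e1.symm))
    exact mul_inv_eq_iff_eq_mul.1 (congrArg (fun w : L => ((w : H) : G)) e3)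

include hS in
/-- The semidihedral configuration has a frame. -/
theorem exists_frame : Nonempty (Frame G) := by
  haveI := hS.simple
  haveI : Fact (Nat.Prime 2) := ⟨Nat.prime_two⟩
  haveI : Fact (Nat.Prime 3) := ⟨Nat.prime_three⟩
  have P : Sylow 2 G := Classical.choice inferInstance
  obtain ⟨D, n, -, hm, -⟩ := exists_qdData (hS.sd P)
  set t := qz P D
  set i := qy P D
  set v := qa P D
  have ht : orderOf t = 2 := qd_orderOf_qz P D
  have hi : orderOf i = 2 := qd_orderOf_qy P D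
  have hvt : Commute v t := (qz_commute P D (qa_mem P D)).symm
  have hit : Commute i t := (qz_commute P D (qy_mem P D)).symm
  have hne : i ≠ t := fun h => D.zpow_mul_y_ne 0 (2 * (D.m : ℤ)) (by
    rw [zpow_zero, one_mul]; exact Subtype.ext h)
  have hvi : v * i * v⁻¹ = t * i := congrArg Subtype.val (conj_y D)
  have hder : t ∈ ⁅(P : Subgroup G), (P : Subgroup G)⁆ := by
    have : ⁅v, i⁆ = t := by
      rw [commutatorElement_def, hvi, inv_eq_of_mul_eq_one_right (invol_mul_self hi), mul_assoc,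
        invol_mul_self hi, mul_one]
    exact this ▸ commutator_mem_commutator (qa_mem P D) (qy_mem P D)
  have hna : ¬ IsMulCommutative G := fun h => by
    have : Commute v i := h.is_comm.comm _ _
    rw [this.eq, mul_inv_cancel_right] at hvi
    exact invol_ne_one ht (mul_eq_right.1 hvi.symm)
  have hfuse := qd_fuse P D hm (fun H => index_ne_two_of_simple hna H)
  have hclass : ∀ s : G, orderOf s = 2 → IsConj t s := fun s hs => by
    obtain ⟨g, hg⟩ := exists_conj_invol_mem_sylow P hs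
    refine IsConj.trans ?_ (isConj_iff.2 ⟨g, rfl⟩ : IsConj s (g * s * g⁻¹)).symm
    rcases qd_invol_cases P D (s := ⟨_, hg⟩) ((orderOf_conj_eq g s).trans hs) with e | e
    · exact e.symm
    · exact hfuse.1.trans e.symm
  have hle : ∀ H : Subgroup G, H ≠ ⊤ → (P : Subgroup G) ≤ H → H ≤ centralizer ({t} : Set G) := by
    intro H hH hPH h hh
    refine mem_centralizer_singleton_iff.2 ?_
    by_cases hsol : Group.IsSolvable H
    · exact (commute_solvable hS P D hPH hder h hh).eq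
    · exact (commute_shape P D hPH (hS.known H hH hsol) h hh).eq
  -- the transposition of `t` and `i`
  obtain ⟨w, hwt, hwi⟩ : ∃ w, w * t * w⁻¹ = i ∧ w * i * w⁻¹ = t := by
    obtain ⟨a, ha⟩ := isConj_iff.1 (hclass i hi).symm
    have hs : orderOf (a * t * a⁻¹) = 2 := (orderOf_conj_eq a t).trans ht
    have hsC : a * t * a⁻¹ ∈ centralizer ({t} : Set G) := mem_centralizer_singleton_iff.2 (by
      have h : a * t * a⁻¹ * (a * i * a⁻¹) = a * i * a⁻¹ * (a * t * a⁻¹) := by
        rw [conj_mul, conj_mul, hit.eq]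
      rwa [ha] at h)
    have hPC : (P : Subgroup G) ≤ centralizer ({t} : Set G) := fun s hs =>
      mem_centralizer_singleton_iff.2 (qz_commute P D hs).eq.symm
    obtain ⟨c, hc⟩ := exists_conj_invol_mem_sylow (P.subtype hPC)
      (x := ⟨_, hsC⟩) ((Subgroup.orderOf_mk _ _).trans hs)
    have hct : (c : G) * t * (c : G)⁻¹ = t :=
      mul_inv_eq_iff_eq_mul.2 (mem_centralizer_singleton_iff.1 c.2)
    let s' : (P : Subgroup G) := ⟨(c : G) * (a * t * a⁻¹) * (c : G)⁻¹, hc⟩
    have hs' : orderOf s' = 2 := by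
      rw [← Subgroup.orderOf_coe]; exact (orderOf_conj_eq _ _).trans hs
    rcases D.eq_of_orderOf_two hs' with e | ⟨j, hj, e⟩
    · exfalso
      have e' : (c : G) * (a * t * a⁻¹) * (c : G)⁻¹ = t := congrArg Subtype.val e
      have h1 := mul_left_cancel (mul_right_cancel (e'.trans hct.symm))
      have h2 : a * t * a⁻¹ = a * i * a⁻¹ := h1.trans ha.symm
      exact hne (mul_left_cancel (mul_right_cancel h2)).symm
    · obtain ⟨b, hb⟩ := D.exists_conj_shift (i := j) (j := 0) (by rw [zero_sub]; exact hj.neg)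
      rw [← e, zpow_zero, one_mul] at hb
      set r : G := ((D.x ^ b : (P : Subgroup G)) : G)
      have hb' : r * ((c : G) * (a * t * a⁻¹) * (c : G)⁻¹) * r⁻¹ = i := congrArg Subtype.val hb
      have hr : r * t * r⁻¹ = t := mul_inv_eq_iff_eq_mul.2 (qz_commute P D (D.x ^ b).2).symm.eq
      refine ⟨r * c * a, ?_, ?_⟩
      · rw [← hb']; group
      · calc r * c * a * i * (r * c * a)⁻¹ = r * ((c : G) * (a * i * a⁻¹) * (c : G)⁻¹) * r⁻¹ := by group
          _ = t := by rw [ha, hct, hr]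
  -- the rotation
  set g₀ := w * v with hg₀
  have hwti : w * (t * i) * w⁻¹ = t * i := by
    rw [← conj_mul, hwt, hwi, hit.eq]
  have hg0t : g₀ * t * g₀⁻¹ = i := by
    rw [hg₀, mul_inv_rev, show w * v * t * (v⁻¹ * w⁻¹) = w * (v * t * v⁻¹) * w⁻¹ by group,
      mul_inv_eq_iff_eq_mul.2 hvt.eq, hwt]
  have hg0i : g₀ * i * g₀⁻¹ = t * i := by
    rw [hg₀, mul_inv_rev, show w * v * i * (v⁻¹ * w⁻¹) = w * (v * i * v⁻¹) * w⁻¹ by group, hvi,
      hwti]
  have hg3 : Commute (g₀ ^ 3) t ∧ Commute (g₀ ^ 3) i := by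
    have hcub : ∀ y z u, g₀ * y * g₀⁻¹ = z → g₀ * z * g₀⁻¹ = u → g₀ * u * g₀⁻¹ = y →
        Commute (g₀ ^ 3) y := fun y z u h1 h2 h3 => mul_inv_eq_iff_eq_mul.1 (by
      rw [← h1] at h2
      rw [← h2] at h3
      calc g₀ ^ 3 * y * (g₀ ^ 3)⁻¹ = g₀ * (g₀ * (g₀ * y * g₀⁻¹) * g₀⁻¹) * g₀⁻¹ := by
            simp only [pow_three]; group
        _ = y := h3)
    have hg0ti : g₀ * (t * i) * g₀⁻¹ = t := by
      rw [← conj_mul, hg0t, hg0i, ← mul_assoc, hit.eq, mul_assoc, invol_mul_self hi, mul_one]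
    exact ⟨hcub _ _ _ hg0t hg0i hg0ti, hcub _ _ _ hg0i hg0ti hg0t⟩
  obtain ⟨k, m, hm3, hkm⟩ := Nat.exists_eq_pow_mul_and_not_dvd (orderOf_pos g₀).ne' 3 (by norm_num)
  obtain ⟨e, he1, he2⟩ : ∃ e, m ∣ e ∧ e % 3 = 1 := by
    rcases (show m % 3 = 1 ∨ m % 3 = 2 by omega) with h | h
    · exact ⟨m, dvd_rfl, h⟩
    · exact ⟨2 * m, dvd_mul_left m 2, by omega⟩
  obtain ⟨j, hj⟩ : ∃ j, e = 3 * j + 1 := ⟨e / 3, by omega⟩
  have hge : ∀ y, Commute (g₀ ^ 3) y → g₀ ^ e * y * (g₀ ^ e)⁻¹ = g₀ * y * g₀⁻¹ := fun y hy => by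
    rw [hj, pow_succ', pow_mul, mul_inv_rev,
      show g₀ * (g₀ ^ 3) ^ j * y * (((g₀ ^ 3) ^ j)⁻¹ * g₀⁻¹) =
        g₀ * ((g₀ ^ 3) ^ j * y * ((g₀ ^ 3) ^ j)⁻¹) * g₀⁻¹ by group,
      mul_inv_eq_iff_eq_mul.2 (hy.pow_left j).eq]
  refine ⟨{
    P := P, t := t, i := i, v := v, g := g₀ ^ e
    t_two := ht, i_two := hi, i_ne := hne
    t_comm := fun x hx => (qz_commute P D hx).symm
    t_derived := hder
    i_mem := qy_mem P D, v_mem := qa_mem P D, v_i := hvi
    g_pow := ⟨k, by
      obtain ⟨c, rfl⟩ := he1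
      rw [← pow_mul, show m * c * 3 ^ k = orderOf g₀ * c by rw [hkm]; ring, pow_mul,
        pow_orderOf_eq_one, one_pow]⟩
    g_t := (hge _ hg3.1).trans hg0t
    g_i := (hge _ hg3.2).trans hg0i
    one_class := hclass
    le_cent := hle
    eq_bot := fun K hK hPK hgK => ?_ }⟩
  by_contra hK0
  have hne' : normalizer (K : Set G) ≠ ⊤ := fun h => by
    rcases (normalizer_eq_top_iff.1 h).eq_bot_or_eq_top with h' | h'
    · exact hK0 h'
    · rw [h', card_top] at hK
      exact Nat.not_even_iff_odd.2 hK (even_iff_two_dvd.2 (ht ▸ orderOf_dvd_natCard t))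
  have h1 := mem_centralizer_singleton_iff.1 (hle _ hne' hPK hgK)
  exact hne (((hge _ hg3.1).trans hg0t).symm.trans (mul_inv_eq_iff_eq_mul.2 h1))

end CfsgLib.S4069
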