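import Cfsg.Agent.Lib.S4069.MainModel
import Cfsg.Agent.Lib.Invol.MetacyclicTwoSolvable
import Cfsg.Agent.Lib.Invol.Dihedral
import Cfsg.Agent.Lib.Transfer.Thompson
import Cfsg.Agent.Lib.Recog.GW.RankOne
import Cfsg.Agent.S0646
import Cfsg.Agent.S3178

/-!
# Perfect groups with almost cyclic Sylow subgroups, given the semidihedral kill
-/

set_option autoImplicit false
set_option linter.unusedSectionVars false
set_option linter.style.haveILetI false

namespace CfsgLib.S4069

open Subgroup
open scoped MatrixGroups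

universe u

set_option maxHeartbeats 800000

/-- An abelian Sylow 2-subgroup of order at least eight with a cyclic subgroup of index two. -/
theorem solvable_of_abelian {G : Type u} [Group G] [Finite G] (T : Sylow 2 G) {n : ℕ}
    (hn : Nat.card (T : Subgroup G) = 2 ^ n) (hn3 : 2 < n) (g : (T : Subgroup G))
    (hidx : (zpowers g).index = 2) (hnc : ¬ IsCyclic (T : Subgroup G))
    (hab : ∀ x y : (T : Subgroup G), x * y = y * x) : Group.IsSolvable G := by
  classical
  haveI : Fact (Nat.Prime 2) := ⟨Nat.prime_two⟩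
  have htop : ∀ H : Subgroup (T : Subgroup G), zpowers g ≤ H → ∀ x ∈ H, x ∉ zpowers g → H = ⊤ := by
    intro H hle x hxH hx
    refine eq_top_iff.2 fun y _ => ?_
    by_cases hy : y ∈ zpowers g
    · exact hle hy
    · have h1 := mul_mem (hle ((mul_mem_iff_of_index_two hidx).2 (iff_of_false hy
        (fun hm => hx (by simpa using inv_mem hm) : x⁻¹ ∉ zpowers g)))) hxH
      rwa [inv_mul_cancel_right] at h1
  obtain ⟨x, hx⟩ : ∃ x, x ∉ zpowers g := by
    by_contra hall
    push Not at hall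
    rw [show zpowers g = ⊤ from eq_top_iff.2 fun x _ => hall x, index_top] at hidx
    omega
  obtain ⟨i, hi⟩ := mem_zpowers_iff.1 (mul_self_mem_of_index_two hidx x : x * x ∈ zpowers g)
  rcases Int.even_or_odd i with ⟨j, rfl⟩ | hodd
  swap
  · exfalso
    obtain ⟨m, hm⟩ := IsPGroup.iff_orderOf.1 T.2 g
    obtain ⟨j, rfl⟩ := hodd
    obtain ⟨s, t, hst⟩ : IsCoprime ((2 : ℤ) ^ m) (2 * j + 1) :=
      IsCoprime.pow_left ⟨-j, 1, by ring⟩
    have hgx : g ∈ zpowers x := by
      have h1 : (g : (T : Subgroup G)) ^ ((2 : ℤ) ^ m) = 1 := by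
        rw [show ((2 : ℤ) ^ m) = ((2 ^ m : ℕ) : ℤ) by push_cast; rfl, zpow_natCast, ← hm,
          pow_orderOf_eq_one]
      have h2 : g = (g ^ (2 * j + 1)) ^ t := by
        conv_lhs => rw [← zpow_one g, ← hst, zpow_add, mul_comm s, zpow_mul, h1, one_zpow, one_mul,
          mul_comm t, zpow_mul]
      rw [h2, hi]
      exact zpow_mem (mul_mem (mem_zpowers x) (mem_zpowers x)) t
    exact hnc (isCyclic_iff_exists_zpowers_eq_top.2
      ⟨x, htop _ (zpowers_le.2 hgx) x (mem_zpowers x) hx⟩)
  set u := x * g ^ (-j) with hu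
  have hu2 : u * u = 1 := by
    rw [hu, (show Commute (g ^ (-j)) x from hab _ _).mul_mul_mul_comm, ← hi, ← zpow_add, ← zpow_add]
    simp
  have huC : u ∉ zpowers g := fun hm => hx (by
    have h1 := mul_mem hm (zpow_mem (mem_zpowers g) j)
    rwa [hu, mul_assoc, ← zpow_add, neg_add_cancel, zpow_zero, mul_one] at h1)
  have ho : orderOf u = 2 :=
    orderOf_eq_prime (by rw [pow_two, hu2]) fun e => huC (e ▸ one_mem _)
  set N := zpowers u
  haveI : N.Normal := ⟨fun a ha w => by rw [hab w a, mul_inv_cancel_right]; exact ha⟩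
  have hQc : IsCyclic (↥(T : Subgroup G) ⧸ N) := by
    refine ⟨⟨(g : ↥(T : Subgroup G) ⧸ N), fun y => ?_⟩⟩
    obtain ⟨w, rfl⟩ := QuotientGroup.mk'_surjective N y
    have hle : (zpowers g).map (QuotientGroup.mk' N) ≤ zpowers (g : ↥(T : Subgroup G) ⧸ N) := by
      rw [MonoidHom.map_zpowers]; rfl
    have h1 : (zpowers (g : ↥(T : Subgroup G) ⧸ N)).comap (QuotientGroup.mk' N) = ⊤ :=
      htop _ (map_le_iff_le_comap.1 hle) u (by
        rw [mem_comap, QuotientGroup.mk'_apply, (QuotientGroup.eq_one_iff u).2 (mem_zpowers u)]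
        exact one_mem _) huC
    exact h1.ge (mem_top w)
  refine CfsgLib.Invol.MetacyclicTwo.isSolvable T N inferInstance hQc ?_
    fun H _ _ hH => CfsgLib.FT.odd_order_solvable hH
  have h1 := N.card_mul_index
  rw [Nat.card_zpowers, ho, hn, index_eq_card] at h1
  have h2 : (2 : ℕ) ^ 3 ≤ 2 ^ n := Nat.pow_le_pow_right two_pos hn3
  omega

/-- The four types of Sylow 2-subgroups of a perfect group. -/
theorem perfect_types {G : Type u} [Group G] [Finite G] [Nontrivial G] (h : AlmostCyclic G)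
    (hP : commutator G = ⊤) (T : Sylow 2 G) :
    (∃ n : ℕ, 2 ≤ n ∧ Nonempty ((T : Subgroup G) ≃* DihedralGroup n)) ∨
      (∀ E : Subgroup G, ¬ IsKleinFour E) ∨
      (∃ n : ℕ, 4 ≤ n ∧ Nat.card (T : Subgroup G) = 2 ^ n ∧ ∃ a b : (T : Subgroup G),
        orderOf a = 2 ^ (n - 1) ∧ b ∉ zpowers a ∧ b ^ 2 = 1 ∧
          b * a * b⁻¹ = a ^ (2 ^ (n - 2) - 1)) := by
  classical
  haveI : Fact (Nat.Prime 2) := ⟨Nat.prime_two⟩
  have hns := not_solvable_of_perfect hP
  have hnc : ¬ IsCyclic (T : Subgroup G) := fun hc =>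
    hns (solvable_of_complement (CfsgLib.Invol.MetacyclicTwo.complement_of_cyclic T hc))
  obtain ⟨n, hn⟩ := T.2.exists_card_eq
  have hn2 : 2 ≤ n := by
    by_contra hlt
    obtain rfl | rfl : n = 0 ∨ n = 1 := by omega
    · haveI : Subsingleton (T : Subgroup G) := (Nat.card_eq_one_iff_unique.1 hn).1
      exact hnc inferInstance
    · exact hnc (isCyclic_of_prime_card (p := 2) (by rw [hn, pow_one]))
  obtain ⟨C, hC, hi⟩ := h.two T
  have hC2 : C.index = 2 := by
    rcases (Nat.dvd_prime Nat.prime_two).1 hi with h1 | h1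
    · refine absurd ?_ hnc
      rw [index_eq_one] at h1
      subst h1
      exact isCyclic_of_surjective topEquiv (MulEquiv.surjective _)
    · exact h1
  rcases hn2.eq_or_lt with rfl | hn3
  · left
    refine ⟨2, le_rfl, ?_⟩
    haveI : IsKleinFour (T : Subgroup G) := ⟨by rw [hn]; rfl, by
      refine (Nat.dvd_prime Nat.prime_two).1 (Monoid.exponent_dvd_of_forall_pow_eq_one fun x => ?_)
        |>.resolve_left ?_
      · have hd := orderOf_dvd_natCard x
        rw [hn] at hd
        obtain ⟨k, hk, hk'⟩ := (Nat.dvd_prime_pow Nat.prime_two).1 hd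
        rw [← orderOf_dvd_iff_pow_eq_one, hk']
        interval_cases k
        · exact one_dvd _
        · exact dvd_of_eq (pow_one 2)
        · exact absurd (isCyclic_of_orderOf_eq_card x (by rw [hk', hn])) hnc
      · intro e
        haveI := Monoid.exp_eq_one_iff.1 e
        exact hnc inferInstance⟩
    haveI : IsKleinFour (DihedralGroup 2) := inferInstance
    exact IsKleinFour.nonempty_mulEquiv
  by_cases hab : ∀ x y : (T : Subgroup G), x * y = y * x
  · exfalso
    obtain ⟨g, hg⟩ := (Subgroup.isCyclic_iff_exists_zpowers_eq_top C).1 hC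
    exact hns (solvable_of_abelian T hn hn3 g (hg ▸ hC2) hnc hab)
  push Not at hab
  obtain ⟨a, b, ha, hb, hcases⟩ := Cfsg.Agent.S0646.result n hn3 hn C hC hC2 hab
  have hidx : (zpowers a).index = 2 := by
    have h1 := (zpowers a).card_mul_index
    rw [Nat.card_zpowers, ha, hn] at h1
    have h2 : (2 : ℕ) ^ n = 2 ^ (n - 1) * 2 := by rw [← pow_succ]; congr 1; omega
    rw [h2] at h1
    exact Nat.eq_of_mul_eq_mul_left (by positivity) h1
  have hgen : closure ({a, b} : Set ↥(T : Subgroup G)) = ⊤ := by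
    refine eq_top_iff.2 fun x _ => ?_
    have ha' : zpowers a ≤ closure ({a, b} : Set ↥(T : Subgroup G)) :=
      zpowers_le.2 (subset_closure (Or.inl rfl))
    have hb' : b ∈ closure ({a, b} : Set ↥(T : Subgroup G)) := subset_closure (Or.inr rfl)
    by_cases hx : x ∈ zpowers a
    · exact ha' hx
    · have h1 := mul_mem (ha' ((mul_mem_iff_of_index_two hidx).2 (iff_of_false hx hb))) (inv_mem hb')
      rwa [mul_inv_cancel_right] at h1
  rcases hcases with ⟨hb2, hba⟩ | ⟨hb2, hba⟩ | ⟨hn4, hb2, hba⟩ | ⟨hn4, hb2, hba⟩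
  · left
    haveI : NeZero (2 ^ (n - 1)) := ⟨by positivity⟩
    have hob : orderOf b = 2 := orderOf_eq_prime hb2 fun e => hb (e ▸ one_mem _)
    obtain ⟨e⟩ := CfsgLib.Invol.exists_mulEquiv_dihedral ha hob hba hb
    refine ⟨2 ^ (n - 1), Nat.le_self_pow (by omega) 2, ⟨?_⟩⟩
    exact ((topEquiv.symm.trans (MulEquiv.subgroupCongr hgen.symm)).trans e)
  · right; left
    intro E hE
    have hEp : IsPGroup 2 E := IsPGroup.of_card (n := 2) (by rw [hE.card_four]; rfl)
    obtain ⟨Q, hQ⟩ := hEp.exists_le_sylow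
    let f : E →* (T : Subgroup G) := (Q.equiv T).toMonoidHom.comp (inclusion hQ)
    have hf : Function.Injective f := (Q.equiv T).injective.comp (inclusion_injective hQ)
    -- the only involution
    have key : ∀ w : (T : Subgroup G), w ^ 2 = 1 → w ∈ zpowers a := by
      intro w hw
      by_contra hwa
      obtain ⟨i, hi2⟩ := mem_zpowers_iff.1 ((mul_mem_iff_of_index_two hidx).2 (iff_of_false hwa
        (fun hm => hb (by simpa using inv_mem hm) : b⁻¹ ∉ zpowers a)))
      have hw' : w = a ^ i * b := by rw [hi2, inv_mul_cancel_right]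
      have hconj : b * a ^ i * b⁻¹ = (a ^ i)⁻¹ := by rw [← conj_zpow, hba, inv_zpow]
      have h3 : w ^ 2 = b ^ 2 := by
        rw [hw', pow_two, pow_two]
        calc a ^ i * b * (a ^ i * b) = a ^ i * (b * a ^ i * b⁻¹) * (b * b) := by group
          _ = b * b := by rw [hconj, mul_inv_cancel, one_mul]
      rw [hw, hb2] at h3
      have h4 := orderOf_dvd_of_pow_eq_one h3.symm
      rw [ha, Nat.pow_dvd_pow_iff_le_right (by norm_num)] at h4
      omega
    let f' : E →* zpowers a := f.codRestrict _ fun x => key _ (by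
      rw [← map_pow]
      have := Monoid.pow_exponent_eq_one x
      rw [hE.exponent_two] at this
      rw [this, map_one])
    have hc : IsCyclic E := isCyclic_of_injective f' fun x y e => hf (congrArg Subtype.val e :)
    have h5 := IsCyclic.exponent_eq_card (α := E)
    rw [hE.exponent_two, hE.card_four] at h5
    omega
  · exfalso
    refine hns (solvable_of_complement (Cfsg.Agent.S3178.result T (n - 1) (by omega)
      (by rw [hn, show n - 1 + 1 = n by omega]) (a : G) (b : G) a.2 b.2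
      ((Subgroup.orderOf_coe a).trans ha)
      ((Subgroup.orderOf_coe b).trans (orderOf_eq_prime hb2 fun e => hb (e ▸ one_mem _))) ?_))
    rw [show n - 1 - 1 = n - 2 by omega, add_comm]
    exact congrArg Subtype.val hba
  · exact Or.inr (Or.inr ⟨n, hn4, hn, a, b, ha, hb, hb2, hba⟩)

/-- The semidihedral case is simple. -/
theorem sd_simple {G : Type u} [Group G] [Finite G] [Nontrivial G] (hP : commutator G = ⊤)
    (hO : Cfsg.oddCore G = ⊥) (T : Sylow 2 G) {n : ℕ} (hn : 4 ≤ n)
    (hcard : Nat.card (T : Subgroup G) = 2 ^ n) (a b : (T : Subgroup G))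
    (ha : orderOf a = 2 ^ (n - 1)) (hb : b ∉ zpowers a) (hb2 : b ^ 2 = 1)
    (hba : b * a * b⁻¹ = a ^ (2 ^ (n - 2) - 1)) : IsSimpleGroup G := by
  classical
  haveI : Fact (Nat.Prime 2) := ⟨Nat.prime_two⟩
  have hns := not_solvable_of_perfect hP
  set z : G := ((a ^ 2 ^ (n - 2) : (T : Subgroup G)) : G) with hz
  have hz2 : orderOf z = 2 := by
    rw [hz, Subgroup.orderOf_coe, orderOf_pow' a (by positivity), ha,
      Nat.gcd_eq_right (pow_dvd_pow 2 (by omega)), Nat.pow_div (by omega) two_pos,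
      show n - 1 - (n - 2) = 1 by omega, pow_one]
  set A : Subgroup G := (zpowers a).map (T : Subgroup G).subtype with hA
  have hidx : (zpowers a).index = 2 := by
    have h2 := (zpowers a).card_mul_index
    rw [Nat.card_zpowers, ha, hcard, show (2 : ℕ) ^ n = 2 ^ (n - 1) * 2 by
      rw [← pow_succ]; congr 1; omega] at h2
    exact Nat.eq_of_mul_eq_mul_left (by positivity) h2
  have hAi : A.relIndex (T : Subgroup G) = 2 := by
    have h1 : A.subgroupOf (T : Subgroup G) = zpowers a :=
      comap_map_eq_self_of_injective (T : Subgroup G).subtype_injective _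
    rw [relIndex, h1, hidx]
  have hA' : A = zpowers (a : G) := by rw [hA, MonoidHom.map_zpowers]; rfl
  have honly : ∀ v ∈ A, orderOf v = 2 → v = z := by
    intro v hv hv2
    have hzA : z ∈ A := ⟨_, pow_mem (mem_zpowers a) _, rfl⟩
    rw [hA'] at hv hzA
    have he := CfsgLib.Invol.zpowers_eq_of_orderOf_eq hv hzA (hv2.trans hz2.symm)
    obtain ⟨k, hk⟩ := mem_zpowers_iff.1 (he ▸ mem_zpowers v : v ∈ zpowers z)
    have hsq : z * z = 1 := by rw [← pow_two, ← hz2, pow_orderOf_eq_one]
    rcases Int.even_or_odd k with ⟨j, rfl⟩ | ⟨j, rfl⟩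
    · rw [← two_mul, zpow_mul, zpow_two, hsq, one_zpow] at hk
      rw [← hk, orderOf_one] at hv2
      omega
    · rw [zpow_add, zpow_mul, zpow_two, hsq, one_zpow, one_mul, zpow_one] at hk
      exact hk.symm
  have hclass : ∀ v : G, orderOf v = 2 → ∃ g : G, g * v * g⁻¹ = z := by
    intro v hv
    obtain ⟨Q, hQ⟩ := (IsPGroup.of_card (G := zpowers v) (p := 2) (n := 1)
      (by rw [Nat.card_zpowers, hv, pow_one])).exists_le_sylow
    obtain ⟨g, hg⟩ := MulAction.exists_smul_eq G Q T
    have hvT : g * v * g⁻¹ ∈ (T : Subgroup G) := by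
      rw [← hg, Sylow.coe_subgroup_smul, Subgroup.mem_pointwise_smul_iff_inv_smul_mem, ← map_inv,
        MulAut.smul_def, MulAut.conj_apply]
      convert hQ (mem_zpowers v) using 1
      group
    have hv2 : orderOf (g * v * g⁻¹) = 2 := (MulEquiv.orderOf_eq (MulAut.conj g) v).trans hv
    rcases CfsgLib.Transfer.thompson_transfer_involution T (map_subtype_le _) hAi
      (hv2 ▸ pow_orderOf_eq_one (g * v * g⁻¹)) hvT with ⟨M, hM, hMi, -⟩ | ⟨g', hg'⟩
    · exfalso
      haveI := hM
      have : (⊤ : Subgroup G) ≤ M := by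
        haveI : IsCyclic (G ⧸ M) := isCyclic_of_prime_card (p := 2) (by rw [← index_eq_card, hMi])
        letI : CommGroup (G ⧸ M) := IsCyclic.commGroup
        intro x _
        exact (QuotientGroup.eq_one_iff x).1 (hom_eq_one_of_perfect hP (QuotientGroup.mk' M) x)
      rw [top_le_iff.1 this, index_top] at hMi
      omega
    · refine ⟨g' * g, ?_⟩
      rw [← honly _ hg' ((MulEquiv.orderOf_eq (MulAut.conj g') _).trans hv2)]
      group
  refine ⟨fun N hN => ?_⟩
  by_contra hcon
  push Not at hcon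
  haveI := hN
  rcases Nat.even_or_odd (Nat.card N) with hev | hodd
  swap
  · exact hcon.1 (le_bot_iff.1 (hO ▸ CfsgLib.Invol.le_oddCore hN hodd))
  obtain ⟨⟨v, hvN⟩, hv⟩ := exists_prime_orderOf_dvd_card' (G := N) 2 (even_iff_two_dvd.1 hev)
  rw [← Subgroup.orderOf_coe] at hv
  obtain ⟨g, hg⟩ := hclass v hv
  have hzN : z ∈ N := hg ▸ hN.conj_mem v hvN g
  have hbN : (b : G) ∈ N := by
    obtain ⟨g, hg⟩ := hclass b ((Subgroup.orderOf_coe b).trans
      (orderOf_eq_prime hb2 fun e => hb (e ▸ one_mem _)))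
    have := hN.conj_mem z hzN g⁻¹
    rw [← hg] at this
    simpa [mul_assoc] using this
  have haN : ((a : G)) ^ 2 ∈ N := by
    have h1 : a * b * a⁻¹ * b⁻¹ * a ^ 2 ^ (n - 2) = a ^ 2 := by
      have e1 : b * a⁻¹ * b⁻¹ = (a ^ (2 ^ (n - 2) - 1))⁻¹ := by rw [← hba]; group
      have hp : a ^ 2 ^ (n - 2) = a ^ (2 ^ (n - 2) - 1) * a := by
        rw [← pow_succ]; congr 1
        have := Nat.one_le_two_pow (n := n - 2)
        omega
      rw [show a * b * a⁻¹ * b⁻¹ = a * (b * a⁻¹ * b⁻¹) by group, e1, hp]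
      group
    have h2 := congrArg Subtype.val h1
    simp only [Subgroup.coe_mul, InvMemClass.coe_inv, SubgroupClass.coe_pow] at h2
    rw [← h2]
    refine mul_mem (mul_mem (hN.conj_mem _ hbN _) (inv_mem hbN)) ?_
    rwa [← SubgroupClass.coe_pow]
  -- the quotient has cyclic Sylow 2-subgroups
  let π := QuotientGroup.mk' N
  let S' : Sylow 2 (G ⧸ N) := T.mapSurjective (QuotientGroup.mk'_surjective N)
  have hgen : ∀ x : (T : Subgroup G), π (x : G) ∈ zpowers (π (a : G)) := by
    intro x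
    by_cases hx : x ∈ zpowers a
    · obtain ⟨k, rfl⟩ := hx
      exact ⟨k, by simp⟩
    · obtain ⟨k, hk⟩ := mem_zpowers_iff.1 ((mul_mem_iff_of_index_two hidx).2 (iff_of_false hx hb))
      have h1 : π ((x : G) * (b : G)) = π (x : G) := by
        rw [map_mul, show π (b : G) = 1 from (QuotientGroup.eq_one_iff _).2 hbN, mul_one]
      refine ⟨k, ?_⟩
      show π (a : G) ^ k = π (x : G)
      rw [← h1, ← Subgroup.coe_mul, ← hk]
      simp
  haveI : IsCyclic (S' : Subgroup (G ⧸ N)) := by
    rw [Sylow.coe_mapSurjective]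
    have hle : (T : Subgroup G).map π ≤ zpowers (π (a : G)) := by
      rintro _ ⟨x, hx, rfl⟩
      exact hgen ⟨x, hx⟩
    exact isCyclic_of_injective (inclusion hle) (inclusion_injective hle)
  haveI : Nontrivial (G ⧸ N) := by
    by_contra hsub
    rw [not_nontrivial_iff_subsingleton] at hsub
    exact hcon.2 (QuotientGroup.subsingleton_iff.1 hsub)
  have hPQ : commutator (G ⧸ N) = ⊤ := CfsgLib.Recog.GW.commutator_eq_top_of_surjective π
    (QuotientGroup.mk'_surjective N) hP
  exact not_solvable_of_perfect hPQ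
    (solvable_of_complement (CfsgLib.Invol.MetacyclicTwo.complement_of_cyclic S' inferInstance))

/-- Perfect groups with almost cyclic Sylow subgroups. -/
theorem model_of_perfect {G : Type u} [Group G] [Finite G] [Nontrivial G]
    (hGW : CfsgLib.Recog.GW.PerfectDihedral.{u})
    (hSD : ∀ (H : Type u) [Group H] [Finite H], SDMin H → False) (h : AlmostCyclic G)
    (hP : commutator G = ⊤) (ih : ∀ H : Subgroup G, H ≠ ⊤ → ¬ Group.IsSolvable H → Shape H) :
    Model G := by
  classical
  have hO := oddCore_eq_bot_of_perfect h hP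
  obtain ⟨T⟩ := (inferInstance : Nonempty (Sylow 2 G))
  rcases perfect_types h hP T with ⟨n, hn, hT⟩ | hK | ⟨n, hn, hcard, a, b, ha, hb, hb2, hba⟩
  · haveI : Group.IsPerfect G := ⟨hP⟩
    let q0 : G ⧸ Cfsg.oddCore G ≃* G :=
      (QuotientGroup.quotientMulEquivOfEq hO).trans QuotientGroup.quotientBot
    rcases hGW G T n hn hT with ⟨F, i1, i2, hodd, h3, ⟨e⟩⟩ | he
    · exact model_psl hodd h3 h (q0.symm.trans e)
    · obtain ⟨e⟩ := he
      exact (false_of_alt_seven h (q0.symm.trans e).toMonoidHom (q0.symm.trans e).surjective).elim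
  · have heven : Even (Nat.card G) := by
      by_contra hodd
      exact not_solvable_of_perfect hP
        (CfsgLib.FT.odd_order_solvable (Nat.not_even_iff_odd.1 hodd))
    rcases CfsgLib.Recog.GW.rank_one_core hGW hP hK heven hO with
      ⟨F, i1, i2, hodd, h3, ⟨e⟩⟩ | ⟨-, ⟨e⟩, -⟩
    · exact model_sl hodd h3 h e
    · exact (false_of_alt_seven h (e.toMonoidHom.comp (QuotientGroup.mk' _))
        (e.surjective.comp (QuotientGroup.mk'_surjective _))).elim
  · exfalso
    haveI := sd_simple hP hO T hn hcard a b ha hb hb2 hba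
    refine hSD G ⟨inferInstance, h, ih, fun S => ?_⟩
    obtain ⟨e⟩ : Nonempty ((T : Subgroup G) ≃* (S : Subgroup G)) := ⟨T.equiv S⟩
    refine ⟨n - 1, by omega, ?_, e a, e b, ?_, ?_, ?_⟩
    · rw [← Nat.card_congr e.toEquiv, hcard, show n - 1 + 1 = n by omega]
    · rw [e.orderOf_eq, ha]
    · rw [e.orderOf_eq, orderOf_eq_prime hb2 fun w => hb (w ▸ one_mem _)]
    · rw [← map_inv, ← map_mul, ← map_mul, hba, map_pow, show n - 1 - 1 = n - 2 by omega]

end CfsgLib.S4069
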