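import Cfsg.Agent.Lib.S4069.MainShape
import Cfsg.Agent.Lib.S4069.MainPerfect

/-!
# Nonsolvable groups with almost cyclic Sylow subgroups, given the semidihedral kill
-/

set_option autoImplicit false
set_option linter.unusedSectionVars false
set_option linter.style.haveILetI false

namespace CfsgLib.S4069

open Subgroup
open scoped MatrixGroups

universe u

/-- Every nonsolvable group with almost cyclic Sylow subgroups has the shape. -/
theorem shape_of (hGW : CfsgLib.Recog.GW.PerfectDihedral.{u})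
    (hSD : ∀ (H : Type u) [Group H] [Finite H], SDMin H → False) (G : Type u) [Group G] [Finite G]
    (h : AlmostCyclic G) (hns : ¬ Group.IsSolvable G) : Shape G := by
  suffices key : ∀ (n : ℕ) (G : Type u) [Group G] [Finite G], Nat.card G ≤ n → AlmostCyclic G →
      ¬ Group.IsSolvable G → Shape G from key _ G le_rfl h hns
  intro n
  induction n using Nat.strong_induction_on with
  | _ n ih =>
    intro G _ _ hn h hns
    obtain ⟨L, hL, hP, hne⟩ := exists_perfect_normal hns
    haveI := hL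
    haveI := hne
    have hL' : AlmostCyclic L := h.subgroup L
    have hM : Model L := model_of_perfect hGW hSD hL' hP fun H hH hHns => by
      have hlt : Nat.card H < Nat.card L := by
        refine lt_of_le_of_ne (Nat.le_of_dvd Nat.card_pos (card_subgroup_dvd_card H)) fun e => hH ?_
        exact (card_eq_iff_eq_top H).1 e
      exact ih (Nat.card H) (hlt.trans_le ((Nat.le_of_dvd Nat.card_pos
        (card_subgroup_dvd_card L)).trans hn)) H le_rfl (hL'.subgroup H) hHns
    exact shape_of_model h L hP (oddCore_eq_bot_of_perfect hL' hP) hM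

/-- **Nonsolvable groups with almost cyclic Sylow subgroups**, given the two external inputs. -/
theorem structure_of (hGW : CfsgLib.Recog.GW.PerfectDihedral.{u})
    (hSD : ∀ (H : Type u) [Group H] [Finite H], SDMin H → False) (G : Type u) [Group G] [Finite G]
    (hns : ¬ Group.IsSolvable G)
    (hodd : ∀ p : ℕ, p.Prime → p ≠ 2 → ∀ P : Sylow p G, IsCyclic P)
    (h2 : ∀ S : Sylow 2 G, ∃ C : Subgroup ↥(S : Subgroup G), IsCyclic C ∧ C.index ∣ 2) :
    ∃ G₀ : Subgroup G, G₀.Normal ∧ G₀.index ∣ 2 ∧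
      ∃ X L : Subgroup ↥G₀, X.Normal ∧ L.Normal ∧ X ⊓ L = ⊥ ∧ X ⊔ L = ⊤ ∧
        (Nat.card X).Coprime (Nat.card L) ∧
        Odd (Nat.card X) ∧ (∃ (C : Subgroup ↥X) (_ : C.Normal), IsCyclic C ∧ IsCyclic (↥X ⧸ C)) ∧
        ∃ (p : ℕ) (_ : Fact p.Prime), 5 ≤ p ∧
          (Nonempty (↥L ≃* Matrix.ProjectiveSpecialLinearGroup (Fin 2) (ZMod p)) ∨
           Nonempty (↥L ≃* Matrix.SpecialLinearGroup (Fin 2) (ZMod p))) := by
  have h : AlmostCyclic G := ⟨hodd, h2⟩
  obtain ⟨X, L, hX, hL, hXL, hidx, hXodd, hco, p, hp, h5, hiso⟩ := shape_of hGW hSD G h hns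
  haveI := hX
  haveI := hL
  refine ⟨X ⊔ L, inferInstance, hidx, X.subgroupOf (X ⊔ L), L.subgroupOf (X ⊔ L), inferInstance,
    inferInstance, ?_, ?_, ?_, ?_, ?_, p, hp, h5, ?_⟩
  · refine (eq_bot_iff_forall _).2 fun x hx => Subtype.ext ?_
    have h1 : (x : G) ∈ X ⊓ L := ⟨mem_subgroupOf.1 hx.1, mem_subgroupOf.1 hx.2⟩
    rw [hXL, mem_bot] at h1
    exact h1
  · rw [← subgroupOf_sup le_sup_left le_sup_right, subgroupOf_self]
  · rwa [Nat.card_congr (subgroupOfEquivOfLe le_sup_left).toEquiv,
      Nat.card_congr (subgroupOfEquivOfLe le_sup_right).toEquiv]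
  · rwa [Nat.card_congr (subgroupOfEquivOfLe le_sup_left).toEquiv]
  · let e := subgroupOfEquivOfLe (le_sup_left : X ≤ X ⊔ L)
    haveI : IsZGroup X := h.isZGroup hXodd
    haveI : IsZGroup (X.subgroupOf (X ⊔ L)) := IsZGroup.of_injective (f := e.toMonoidHom) e.injective
    exact ⟨commutator _, inferInstance, IsZGroup.isCyclic_commutator _,
      IsZGroup.isCyclic_abelianization⟩
  · exact hiso.imp (Nonempty.map (subgroupOfEquivOfLe le_sup_right).trans)
      (Nonempty.map (subgroupOfEquivOfLe le_sup_right).trans)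

end CfsgLib.S4069
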