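import Cfsg.Agent.Lib.S4069.MainBasic
import Cfsg.Agent.Lib.Recog.ABProd.Ident
import Cfsg.Agent.Lib.Geom.DicksonPSL
import Cfsg.Agent.Lib.ClassK.PushPSL
import Cfsg.Agent.Lib.ClassK.SmallSimple
import Cfsg.Agent.S0204
import Cfsg.Prelude.Def_SporadicB

/-!
# The linear models of a group with almost cyclic Sylow subgroups
-/

set_option autoImplicit false
set_option linter.unusedSectionVars false
set_option linter.style.haveILetI false

namespace CfsgLib.S4069

open Subgroup
open scoped MatrixGroups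

universe u

variable {G : Type u} [Group G]

/-- `PSL₂(p)` or `SL₂(p)`, `p ≥ 5`. -/
def Model (L : Type*) [Group L] : Prop :=
  ∃ (p : ℕ) (_ : Fact p.Prime), 5 ≤ p ∧
    (Nonempty (L ≃* Matrix.ProjectiveSpecialLinearGroup (Fin 2) (ZMod p)) ∨
      Nonempty (L ≃* Matrix.SpecialLinearGroup (Fin 2) (ZMod p)))

theorem Model.congr {L M : Type*} [Group L] [Group M] (e : L ≃* M) : Model M → Model L :=
  fun ⟨p, hp, h5, h⟩ => ⟨p, hp, h5, h.imp (Nonempty.map e.trans) (Nonempty.map e.trans)⟩

section Field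

variable {F : Type} [Field F] [Fintype F]

/-- The field is a prime field. -/
theorem prime_of_psl (hodd : Odd (Fintype.card F))
    (h : AlmostCyclic (Matrix.ProjectiveSpecialLinearGroup (Fin 2) F)) :
    (Fintype.card F).Prime := by
  classical
  obtain ⟨p, hc⟩ := CharP.exists F
  obtain ⟨f, hp, hF⟩ := FiniteField.card F p
  haveI := Fact.mk hp
  haveI := hc
  have hp2 : p ≠ 2 := by
    rintro rfl
    rw [hF] at hodd
    exact Nat.not_even_iff_odd.2 hodd ((Nat.even_pow' f.ne_zero).2 even_two)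
  obtain ⟨P, -, hcard⟩ := CfsgLib.ClassK.Push.exists_sylow_psl (F := F) hF
  haveI := h.odd p hp hp2 P
  obtain ⟨x, hx⟩ := IsCyclic.exists_generator (α := (P : Subgroup
    (Matrix.ProjectiveSpecialLinearGroup (Fin 2) F)))
  have ho : orderOf (x : Matrix.ProjectiveSpecialLinearGroup (Fin 2) F) = p ^ (f : ℕ) := by
    rw [Subgroup.orderOf_coe, orderOf_eq_card_of_forall_mem_zpowers hx, hcard]
  have hf := CfsgLib.Recog.ABProd.psl_orderOf_pPart p hp2 ho
  rw [hF, le_antisymm hf f.pos, pow_one]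
  exact hp

theorem five_le_of_prime (hodd : Odd (Fintype.card F)) (h3 : 3 < Fintype.card F) :
    5 ≤ Fintype.card F := by
  obtain ⟨k, hk⟩ := hodd
  omega

theorem model_psl (hodd : Odd (Fintype.card F)) (h3 : 3 < Fintype.card F) {L : Type*} [Group L]
    [Finite L] (h : AlmostCyclic L) (e : L ≃* Matrix.ProjectiveSpecialLinearGroup (Fin 2) F) :
    Model L := by
  have hp := prime_of_psl hodd (h.of_surjective e.toMonoidHom e.surjective)
  haveI := Fact.mk hp
  exact ⟨_, ⟨hp⟩, five_le_of_prime hodd h3,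
    Or.inl ⟨e.trans (CfsgLib.Geom.Moebius.pslCongr (ZMod.ringEquivOfPrime F hp rfl).symm)⟩⟩

theorem model_sl (hodd : Odd (Fintype.card F)) (h3 : 3 < Fintype.card F) {L : Type*} [Group L]
    [Finite L] (h : AlmostCyclic L) (e : L ≃* Matrix.SpecialLinearGroup (Fin 2) F) :
    Model L := by
  have hp := prime_of_psl hodd (h.of_surjective
    ((QuotientGroup.mk' (center SL(2, F))).comp e.toMonoidHom)
    ((QuotientGroup.mk'_surjective _).comp e.surjective))
  haveI := Fact.mk hp
  let σ := ZMod.ringEquivOfPrime F hp rfl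
  let φ : SL(2, F) ≃* SL(2, ZMod (Fintype.card F)) :=
    MulEquiv.ofBijective (Matrix.SpecialLinearGroup.map σ.symm.toRingHom)
      ⟨fun a b h => Subtype.ext (Matrix.map_injective σ.symm.injective (congrArg Subtype.val h)),
        fun b => ⟨Matrix.SpecialLinearGroup.map σ.toRingHom b, Subtype.ext (by ext i j; simp)⟩⟩
  exact ⟨_, ⟨hp⟩, five_le_of_prime hodd h3, Or.inr ⟨e.trans φ⟩⟩

end Field

/-- The alternating group of degree seven has a noncyclic Sylow 3-subgroup. -/
theorem false_of_alt_seven [Finite G] (h : AlmostCyclic G) (f : G →* alternatingGroup (Fin 7))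
    (hf : Function.Surjective f) : False := by
  have h7 := h.of_surjective f hf
  haveI : Fact (Nat.Prime 3) := ⟨Nat.prime_three⟩
  obtain ⟨Q, hQ⟩ := Sylow.exists_subgroup_card_pow_prime 3 (G := alternatingGroup (Fin 7)) (n := 2)
    (by
      rw [nat_card_alternatingGroup, Nat.card_eq_fintype_card, Fintype.card_fin]
      decide)
  haveI := h7.isCyclic_of_isPGroup Nat.prime_three (by norm_num) (IsPGroup.of_card hQ)
  obtain ⟨x, hx⟩ := IsCyclic.exists_generator (α := Q)
  have h9 : orderOf ((x : alternatingGroup (Fin 7)) : Equiv.Perm (Fin 7)) = 9 := by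
    rw [Subgroup.orderOf_coe, Subgroup.orderOf_coe, orderOf_eq_card_of_forall_mem_zpowers hx, hQ]
    rfl
  rcases CfsgLib.Recog.ABProd.perm_seven_pow ((x : alternatingGroup (Fin 7)) : Equiv.Perm (Fin 7))
    with e | e | e <;>
    · have := orderOf_dvd_of_pow_eq_one e
      rw [h9] at this
      omega

/-- `PSL₂(p)` is simple and contains a four-group. -/
theorem exists_four_psl (p : ℕ) [Fact p.Prime] (h5 : 5 ≤ p) :
    ∃ E : Subgroup (Matrix.ProjectiveSpecialLinearGroup (Fin 2) (ZMod p)), IsKleinFour E := by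
  haveI : IsSimpleGroup (Matrix.ProjectiveSpecialLinearGroup (Fin 2) (ZMod p)) :=
    CfsgLib.ClassK.isSimpleGroup_psl_two (by rw [ZMod.card]; omega)
  obtain ⟨P, -, hP⟩ := CfsgLib.ClassK.Push.exists_sylow_psl (F := ZMod p) (p := p) (n := 1)
    (by rw [ZMod.card, pow_one])
  have hd : Nat.card (P : Subgroup (Matrix.ProjectiveSpecialLinearGroup (Fin 2) (ZMod p))) ∣
      Nat.card (Matrix.ProjectiveSpecialLinearGroup (Fin 2) (ZMod p)) :=
    Subgroup.card_subgroup_dvd_card _
  refine Cfsg.Agent.S0204.result fun hc => ?_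
  haveI := hc
  letI : CommGroup (Matrix.ProjectiveSpecialLinearGroup (Fin 2) (ZMod p)) := IsCyclic.commGroup
  have h1 : (Nat.card (Matrix.ProjectiveSpecialLinearGroup (Fin 2) (ZMod p))).Prime :=
    IsSimpleGroup.prime_card
  rw [hP, pow_one, Nat.prime_dvd_prime_iff_eq Fact.out h1] at hd
  exact CfsgLib.ClassK.Push.not_isPGroup_psl (F := ZMod p) (p := p) (n := 1)
    (by rw [ZMod.card, pow_one]) (IsPGroup.of_card (n := 1) (by rw [← hd, pow_one]))

end CfsgLib.S4069
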