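import Cfsg.Agent.Lib.S4069.MainModel

/-!
# The structure of a group with a normal linear model
-/

set_option autoImplicit false
set_option linter.unusedSectionVars false
set_option linter.style.haveILetI false

namespace CfsgLib.S4069

open Subgroup
open scoped MatrixGroups

universe u

variable {G : Type u} [Group G] [Finite G]

/-- A normal `PSL₂(p)` has centraliser of odd order and at most one outer class. -/
theorem psl_part (h : AlmostCyclic G) (L : Subgroup G) [L.Normal] (p : ℕ) [Fact p.Prime]
    (h5 : 5 ≤ p) (e : L ≃* Matrix.ProjectiveSpecialLinearGroup (Fin 2) (ZMod p)) :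
    Odd (Nat.card (centralizer (L : Set G))) ∧ (centralizer (L : Set G) ⊔ L).index ∣ 2 := by
  classical
  haveI : IsSimpleGroup (Matrix.ProjectiveSpecialLinearGroup (Fin 2) (ZMod p)) :=
    CfsgLib.ClassK.isSimpleGroup_psl_two (by rw [ZMod.card]; omega)
  set C := centralizer (L : Set G) with hC
  obtain ⟨E₀, hE₀⟩ := exists_four_psl p h5
  let E : Subgroup G := (E₀.map e.symm.toMonoidHom).map L.subtype
  have hEL : E ≤ L := map_subtype_le _
  have hE4 : Nat.card E = 4 := by
    rw [card_map_of_injective L.subtype_injective, card_map_of_injective e.symm.injective]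
    exact hE₀.card_four
  have hE2 : ∀ x ∈ E, x * x = 1 := by
    rintro _ ⟨_, ⟨a, ha, rfl⟩, rfl⟩
    have := congrArg Subtype.val (Monoid.pow_exponent_eq_one (⟨a, ha⟩ : E₀))
    rw [hE₀.exponent_two, pow_two] at this
    rw [← map_mul, ← map_mul, show a * a = 1 from this, map_one, map_one]
  have hna : ¬ IsMulCommutative (Matrix.ProjectiveSpecialLinearGroup (Fin 2) (ZMod p)) := by
    intro hcomm
    obtain ⟨P, -, hP⟩ := CfsgLib.ClassK.Push.exists_sylow_psl (F := ZMod p) (p := p) (n := 1)
      (by rw [ZMod.card, pow_one])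
    rcases ((P : Subgroup (Matrix.ProjectiveSpecialLinearGroup (Fin 2) (ZMod p))).normal_of_isMulCommutative
      ).eq_bot_or_eq_top with hb | hb
    · rw [hb, card_bot, pow_one] at hP
      exact (Fact.out : p.Prime).ne_one hP.symm
    · exact CfsgLib.ClassK.Push.not_isPGroup_psl (F := ZMod p) (p := p) (n := 1)
        (by rw [ZMod.card, pow_one]) (by
          intro x
          obtain ⟨k, hk⟩ := P.2 ⟨x, hb ▸ mem_top x⟩
          exact ⟨k, congrArg Subtype.val hk⟩)
  have hcb := CfsgLib.Invol.center_eq_bot_of_simple hna
  have hLC : L ⊓ C = ⊥ := by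
    rw [eq_bot_iff]
    rintro x ⟨hxL, hxC⟩
    have hz : e ⟨x, hxL⟩ = 1 := by
      refine mem_bot.1 (hcb.le (mem_center_iff.2 fun y => ?_))
      obtain ⟨w, rfl⟩ := e.surjective y
      rw [← map_mul, ← map_mul]
      exact congrArg e (Subtype.ext (mem_centralizer_iff.1 hxC w w.2))
    exact mem_bot.2 (congrArg Subtype.val ((map_eq_one_iff e e.injective).1 hz))
  constructor
  · by_contra hev
    obtain ⟨⟨c, hcC⟩, hc⟩ := exists_prime_orderOf_dvd_card' (G := C) 2
      (even_iff_two_dvd.1 (Nat.not_odd_iff_even.1 hev))
    rw [← Subgroup.orderOf_coe] at hc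
    have hcomm : ∀ (x : E) (y : zpowers c), Commute (x : G) (y : G) := fun x y =>
      mem_centralizer_iff.1 (zpowers_le.2 hcC y.2) x (hEL x.2)
    let f : E × zpowers c →* G := MonoidHom.noncommCoprod E.subtype (zpowers c).subtype hcomm
    have hf : Function.Injective f := by
      refine (injective_iff_map_eq_one f).2 fun ⟨x, y⟩ hxy => ?_
      change (x : G) * (y : G) = 1 at hxy
      have h1 : (x : G) ∈ L ⊓ C := ⟨hEL x.2, by
        show (x : G) ∈ C
        rw [eq_inv_of_mul_eq_one_left hxy]
        exact inv_mem (zpowers_le.2 hcC y.2)⟩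
      rw [hLC, mem_bot] at h1
      rw [h1, one_mul] at hxy
      exact Prod.ext (Subtype.ext h1) (Subtype.ext hxy)
    refine h.false_of_eight (Q := f.range) ?_ ?_
    · rw [← Nat.card_congr (MonoidHom.ofInjective hf).toEquiv, Nat.card_prod, hE4,
        Nat.card_zpowers, hc]
    · rintro _ ⟨⟨x, y⟩, rfl⟩
      have hy : (y : G) * y = 1 := by
        obtain ⟨k, hk⟩ := y.2
        rw [← hk, ← zpow_add, show k + k = (2 : ℕ) * k by push_cast; ring, zpow_mul, zpow_natCast,
          ← hc, pow_orderOf_eq_one, one_zpow]
      rw [← map_mul, Prod.mk_mul_mk, show y * y = 1 from Subtype.ext hy,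
        show x * x = 1 from Subtype.ext (hE2 x x.2), Prod.mk_one_one, map_one]
  · let φ : G →* MulAut L := MulAut.conjNormal
    have hker : φ.ker ≤ C := fun x hx => mem_centralizer_iff.2 fun l hl => by
      have h1 := congrArg Subtype.val (DFunLike.congr_fun (MonoidHom.mem_ker.1 hx) (⟨l, hl⟩ : L))
      simp only [φ, MulAut.conjNormal_apply, MulAut.one_apply] at h1
      exact (mul_inv_eq_iff_eq_mul.1 h1).symm
    have hker' : C ≤ φ.ker := fun x hx => MonoidHom.mem_ker.2 (MulEquiv.ext fun l => Subtype.ext (by
      simp only [φ, MulAut.conjNormal_apply, MulAut.one_apply]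
      exact mul_inv_eq_iff_eq_mul.2 (mem_centralizer_iff.1 hx l l.2).symm))
    have hLcard : Nat.card (L.map φ) = Nat.card (Matrix.ProjectiveSpecialLinearGroup (Fin 2) (ZMod p)) := by
      rw [← Nat.card_congr e.toEquiv]
      refine (Nat.card_congr (Equiv.ofBijective (φ.subgroupMap L) ⟨?_, φ.subgroupMap_surjective L⟩)).symm
      refine (injective_iff_map_eq_one _).2 fun x hx => Subtype.ext ?_
      exact mem_bot.1 (hLC ▸ ⟨x.2, hker (MonoidHom.mem_ker.2 (congrArg Subtype.val hx))⟩)
    obtain ⟨ψ⟩ := CfsgLib.Recog.ABProd.mulAut_psl_equiv (F := ZMod p) (by rw [ZMod.card]; exact Fact.out)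
    have hidx : (L.map φ).index = 2 := by
      have h1 := (L.map φ).card_mul_index
      rw [hLcard, Nat.card_congr (MulAut.congr e).toEquiv, ← Nat.card_congr ψ.toEquiv,
        CfsgLib.Recog.GenDihedral.card_pgl_eq_two_mul (F := ZMod p) (by
          rw [ZMod.card]; exact (Fact.out : p.Prime).odd_of_ne_two (by omega)), mul_comm 2] at h1
      exact Nat.eq_of_mul_eq_mul_left Nat.card_pos h1
    haveI := normal_of_index_eq_two hidx
    have he : C ⊔ L = (L.map φ).comap φ := by
      rw [comap_map_eq, sup_comm, le_antisymm hker hker']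
    rw [he, index_comap]
    exact hidx ▸ relIndex_dvd_index_of_normal _ _

/-- A normal perfect linear model without odd core gives the structure. -/
theorem shape_of_model (h : AlmostCyclic G) (L : Subgroup G) [L.Normal] (hP : commutator L = ⊤)
    (hO : Cfsg.oddCore L = ⊥) (hM : Model L) : Shape G := by
  classical
  obtain ⟨p, hp, h5, hiso⟩ := hM
  haveI := CfsgLib.Solvable.pPrimeCore_normal 2 G
  set X := Cfsg.oddCore G with hX
  have hXodd : Odd (Nat.card X) := CfsgLib.Invol.odd_card_oddCore G
  have hXL : X ⊓ L = ⊥ := by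
    have h1 : X.subgroupOf L ≤ Cfsg.oddCore L := by
      refine CfsgLib.Invol.le_oddCore inferInstance (hXodd.of_dvd_nat ?_)
      rw [← card_map_of_injective (K := X.subgroupOf L) L.subtype_injective, subgroupOf_map_subtype]
      exact card_dvd_of_le inf_le_left
    rw [hO, le_bot_iff, subgroupOf_eq_bot, disjoint_iff] at h1
    exact h1
  refine ⟨X, L, inferInstance, inferInstance, hXL, ?_, hXodd, ?_, p, hp, h5, hiso⟩
  · rcases hiso with ⟨⟨e⟩⟩ | ⟨⟨e⟩⟩
    · obtain ⟨h1, h2⟩ := psl_part h L p h5 e
      refine (index_dvd_of_le (sup_le_sup_right ?_ L)).trans h2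
      exact CfsgLib.Invol.le_oddCore inferInstance h1
    · -- pass to the quotient by the centre of `L`
      let Z : Subgroup G := (center L).map L.subtype
      haveI : Z.Normal := ConjAct.normal_of_characteristic_of_normal
      have hZL : Z ≤ L := map_subtype_le _
      have hZ2 : Nat.card Z = 2 := by
        rw [card_map_of_injective L.subtype_injective, Nat.card_congr (centerCongr e).toEquiv,
          CfsgLib.Classical.card_center_sl, Fintype.card_fin, ZMod.card]
        obtain ⟨k, hk⟩ := (Fact.out : p.Prime).odd_of_ne_two (by omega)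
        exact Nat.gcd_eq_left ⟨k, by omega⟩
      have hZc : ∀ z ∈ Z, ∀ g : G, g * z = z * g := by
        intro z hz g
        haveI : Fact (Nat.Prime 2) := ⟨Nat.prime_two⟩
        haveI : IsCyclic Z := isCyclic_of_prime_card (p := 2) hZ2
        have hsub : Subsingleton (MulAut Z) := by
          refine ⟨fun f g => MulEquiv.ext fun w => ?_⟩
          have h2 : ∀ a b : Z, a ≠ 1 → b ≠ 1 → a = b := fun a b ha hb => by
            by_contra hab
            haveI := Fintype.ofFinite Z
            have := Finset.card_le_univ ({1, a, b} : Finset Z)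
            rw [Finset.card_insert_of_notMem (by simp [Ne.symm ha, Ne.symm hb]),
              Finset.card_pair hab, ← Nat.card_eq_fintype_card, hZ2] at this
            omega
          rcases eq_or_ne w 1 with rfl | hw
          · rw [map_one, map_one]
          · exact h2 _ _ (by simpa using hw) (by simpa using hw)
        have h1 := congrArg Subtype.val (DFunLike.congr_fun
          (Subsingleton.elim (MulAut.conjNormal g : MulAut Z) 1) ⟨z, hz⟩)
        simp only [MulAut.conjNormal_apply, MulAut.one_apply] at h1
        exact mul_inv_eq_iff_eq_mul.1 h1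
      let π := QuotientGroup.mk' Z
      have hπ : Function.Surjective π := QuotientGroup.mk'_surjective Z
      haveI : (L.map π).Normal := Subgroup.Normal.map inferInstance π hπ
      have hk : (π.subgroupMap L).ker = center L := by
        ext x
        rw [MonoidHom.mem_ker, Subtype.ext_iff]
        show π (x : G) = 1 ↔ _
        rw [QuotientGroup.mk'_apply, QuotientGroup.eq_one_iff]
        exact ⟨fun ⟨y, hy, hxy⟩ => L.subtype_injective hxy ▸ hy, fun hx => ⟨x, hx, rfl⟩⟩
      let e' : L.map π ≃* Matrix.ProjectiveSpecialLinearGroup (Fin 2) (ZMod p) :=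
        ((QuotientGroup.quotientKerEquivOfSurjective _ (π.subgroupMap_surjective L)).symm.trans
          (QuotientGroup.quotientMulEquivOfEq hk)).trans
          (QuotientGroup.congr _ _ e (by
            ext y
            rw [mem_map, mem_center_iff]
            constructor
            · rintro ⟨x, hx, rfl⟩ w
              obtain ⟨w, rfl⟩ := e.surjective w
              show e w * e x = e x * e w
              rw [← map_mul, ← map_mul, mem_center_iff.1 hx w]
            · intro hy
              refine ⟨e.symm y, mem_center_iff.2 fun w => e.injective ?_, e.apply_symm_apply y⟩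
              rw [map_mul, map_mul, e.apply_symm_apply, hy]))
      obtain ⟨h1, h2⟩ := psl_part (h.of_surjective π hπ) (L.map π) p h5 e'
      set C := centralizer (L : Set G) with hC
      -- the centraliser modulo the centre
      have hCmem : ∀ g : G, π g ∈ centralizer ((L.map π : Subgroup (G ⧸ Z)) : Set (G ⧸ Z)) → g ∈ C := by
        intro g hg
        let d : L →* Z := MonoidHom.mk' (fun l => ⟨g * l * g⁻¹ * (l : G)⁻¹, by
            rw [← QuotientGroup.eq_one_iff]
            have := mem_centralizer_iff.1 hg (π l) ⟨l, l.2, rfl⟩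
            simp only [π, QuotientGroup.mk'_apply] at this
            rw [QuotientGroup.mk_mul, QuotientGroup.mk_mul, QuotientGroup.mk_mul,
              QuotientGroup.mk_inv, QuotientGroup.mk_inv, ← this, mul_inv_cancel_right,
              mul_inv_cancel]⟩) fun a b => Subtype.ext (by
            have hz : g * b * g⁻¹ * (b : G)⁻¹ ∈ Z := by
              rw [← QuotientGroup.eq_one_iff]
              have := mem_centralizer_iff.1 hg (π b) ⟨b, b.2, rfl⟩
              simp only [π, QuotientGroup.mk'_apply] at this
              rw [QuotientGroup.mk_mul, QuotientGroup.mk_mul, QuotientGroup.mk_mul,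
                QuotientGroup.mk_inv, QuotientGroup.mk_inv, ← this, mul_inv_cancel_right,
                mul_inv_cancel]
            simp only [Subgroup.coe_mul]
            rw [mul_assoc (g * a * g⁻¹) _ (g * b * g⁻¹ * (b : G)⁻¹),
              hZc _ hz ((a : G)⁻¹)]
            group)
        haveI : Fact (Nat.Prime 2) := ⟨Nat.prime_two⟩
        haveI : IsCyclic Z := isCyclic_of_prime_card (p := 2) hZ2
        letI : CommGroup Z := IsCyclic.commGroup
        refine mem_centralizer_iff.2 fun l hl => ?_
        have h3 := congrArg Subtype.val (hom_eq_one_of_perfect hP d ⟨l, hl⟩)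
        simp only [d, MonoidHom.mk'_apply, OneMemClass.coe_one] at h3
        exact (mul_inv_eq_iff_eq_mul.1 (mul_inv_eq_one.1 h3)).symm
      have hCmap : C.map π = centralizer ((L.map π : Subgroup (G ⧸ Z)) : Set (G ⧸ Z)) := by
        refine le_antisymm ?_ fun y hy => ?_
        · rintro _ ⟨g, hg, rfl⟩
          rw [mem_centralizer_iff]
          rintro _ ⟨l, hl, rfl⟩
          rw [← map_mul, ← map_mul, mem_centralizer_iff.1 hg l hl]
        · obtain ⟨g, rfl⟩ := hπ y
          exact ⟨g, hCmem g hy, rfl⟩
      have hidx : (C ⊔ L).index ∣ 2 := by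
        rw [← index_map_eq (C ⊔ L) hπ (by rw [QuotientGroup.ker_mk']; exact hZL.trans le_sup_right),
          Subgroup.map_sup, hCmap]
        exact h2
      -- the odd part of the centraliser
      have hZC : Z ≤ C := fun z hz => mem_centralizer_iff.2 fun l _ => hZc z hz l
      haveI : C.Normal := Subgroup.normal_centralizer
      have hrel : Odd (Z.relIndex C) := by
        have hmc : Nat.card Z * Z.relIndex C = Nat.card C := by
          rw [← relIndex_bot_left, ← relIndex_bot_left, relIndex_mul_relIndex ⊥ Z C bot_le hZC]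
        have hcm : Nat.card C = Nat.card Z * Nat.card (C.map π) := by
          have h3 : Nat.card (C.map π) = Z.relIndex C := by
            rw [← relIndex_ker, QuotientGroup.ker_mk']
          rw [h3, hmc]
        rw [hcm] at hmc
        rw [Nat.eq_of_mul_eq_mul_left Nat.card_pos hmc, hCmap]
        exact h1
      have hcop : Nat.Coprime (Nat.card (Z.subgroupOf C)) (Z.subgroupOf C).index := by
        rw [Nat.card_congr (subgroupOfEquivOfLe hZC).toEquiv, hZ2]
        exact Nat.coprime_two_left.2 hrel
      obtain ⟨K, hK⟩ := exists_right_complement'_of_coprime hcop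
      have hKodd : Odd (Nat.card K) := by
        rw [← hK.symm.index_eq_card]
        exact hrel
      have hsplit : ∀ c ∈ C, ∃ z ∈ Z, ∃ k ∈ K.map C.subtype, c = z * k := by
        intro c hc
        obtain ⟨⟨⟨z, hz⟩, k⟩, hzk⟩ := hK.2 ⟨c, hc⟩
        exact ⟨z, mem_subgroupOf.1 hz, k, mem_map_of_mem _ k.2, (congrArg Subtype.val hzk).symm⟩
      have hKn : (K.map C.subtype).Normal := by
        refine ⟨fun k hk g => ?_⟩
        obtain ⟨z, hz, k', hk', e1⟩ := hsplit (g * k * g⁻¹)
          (Subgroup.Normal.conj_mem inferInstance k (map_subtype_le _ hk) g)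
        have hoK : Odd (Nat.card (K.map C.subtype)) := by
          rwa [card_map_of_injective C.subtype_injective]
        have ho : orderOf (g * k * g⁻¹) ∣ Nat.card (K.map C.subtype) := by
          rw [show g * k * g⁻¹ = MulAut.conj g k from rfl, MulEquiv.orderOf_eq]
          exact orderOf_dvd_natCard _ hk
        have hz1 : z = 1 := by
          have e2 : (g * k * g⁻¹) ^ Nat.card (K.map C.subtype) = 1 := orderOf_dvd_iff_pow_eq_one.1 ho
          rw [e1, (show Commute z k' from (hZc z hz k').symm).mul_pow,
            show k' ^ Nat.card (K.map C.subtype) = 1 from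
              congrArg Subtype.val (pow_card_eq_one' (x := (⟨k', hk'⟩ : K.map C.subtype))),
            mul_one] at e2
          have h3 : orderOf z ∣ 2 := hZ2 ▸ orderOf_dvd_natCard Z hz
          exact orderOf_eq_one_iff.1 (Nat.eq_one_of_dvd_coprimes (Nat.coprime_two_left.2 hoK) h3
            (orderOf_dvd_of_pow_eq_one e2))
        rw [e1, hz1, one_mul]
        exact hk'
      haveI := hKn
      have hCle : C ≤ X ⊔ L := by
        intro c hc
        obtain ⟨z, hz, k, hk, rfl⟩ := hsplit c hc
        refine mul_mem (mem_sup_right (hZL hz)) (mem_sup_left ?_)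
        exact CfsgLib.Invol.le_oddCore inferInstance
          (by rwa [card_map_of_injective C.subtype_injective]) hk
      exact (index_dvd_of_le (sup_le hCle le_sup_right)).trans hidx
  · -- coprime orders
    by_contra hcop
    obtain ⟨r, hr, hrX, hrL⟩ := Nat.Prime.not_coprime_iff_dvd.1 hcop
    haveI := Fact.mk hr
    have hr2 : r ≠ 2 := fun e => Nat.not_even_iff_odd.2 hXodd (even_iff_two_dvd.2 (e ▸ hrX))
    obtain ⟨x, hx⟩ := exists_prime_orderOf_dvd_card' (G := X) r hrX
    obtain ⟨y, hy⟩ := exists_prime_orderOf_dvd_card' (G := L) r hrL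
    rw [← Subgroup.orderOf_coe] at hx hy
    have hxy := h.zpowers_eq hr hr2 hx hy
      (commute_of_normal_of_disjoint X L inferInstance inferInstance (disjoint_iff.2 hXL) x y x.2 y.2)
    have hxL : (x : G) ∈ X ⊓ L := ⟨x.2, zpowers_le.2 y.2 (hxy ▸ mem_zpowers (x : G))⟩
    rw [hXL, mem_bot] at hxL
    rw [hxL, orderOf_one] at hx
    exact hr.ne_one hx.symm

end CfsgLib.S4069
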