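import Cfsg.Agent.Lib.S4069.Basic
import Cfsg.Agent.Lib.GLTwoThreeO.Kernel
import Cfsg.Agent.Lib.Recog.GenDihedral.Pair
import Cfsg.Agent.Lib.Coprime.Sylow
import Cfsg.Agent.Lib.GW.Component.ScalarTools
import Cfsg.Agent.S0197
import Mathlib.GroupTheory.Transfer

/-!
# The centralizer of `t` is not an odd extension by `GL(2, 3)`

The kernel is inverted by `i`, hence trivial; then the order is `5616` or `7920` and an element of
order three of the centralizer would be a cube of an element of the centralizer.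
-/

set_option autoImplicit false
set_option linter.unusedSectionVars false
set_option linter.style.haveILetI false

namespace CfsgLib.S4069

set_option synthInstance.maxSize 8000

open Subgroup CfsgLib.GLTwoThree

universe u

theorem cent_refl_sq : ∀ p ∈ invols, p ≠ tQ → ∀ r ∈ elems,
    mulQ r p = mulQ p r → mulQ r r = oneQ := by decide +kernel

theorem refl_conj : ∀ p ∈ invols, p ≠ tQ → ∀ q ∈ invols, q ≠ tQ →
    ∃ g ∈ elems, mulQ g p = mulQ q g := by decide +kernel

theorem three_cent_pow : ∀ p ∈ elems, powQ p 3 = oneQ → p ≠ oneQ → ∀ r ∈ elems,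
    mulQ r p = mulQ p r → powQ r 6 = oneQ := by decide +kernel

theorem three_cent_invol : ∀ p ∈ elems, powQ p 3 = oneQ → p ≠ oneQ → ∀ r ∈ invols,
    mulQ r p = mulQ p r → r = tQ := by decide +kernel

variable {G : Type u} [Group G] [Finite G]

/-- An element of odd order with trivial square is trivial. -/
theorem eq_one_of_sq_odd {x : G} (ho : Odd (orderOf x)) (h : x * x = 1) : x = 1 :=
  orderOf_eq_one_iff.1 (Nat.eq_one_of_dvd_coprimes (Nat.coprime_two_left.2 ho)
    (orderOf_dvd_of_pow_eq_one (by rw [pow_two, h])) dvd_rfl)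

/-- A commutator of a 2-group normalising a Z-group of odd order centralises it. -/
theorem commute_of_zgroup_derived {K D : Subgroup G} (hK : IsZGroup K) (hodd : Odd (Nat.card K))
    (hn : D ≤ normalizer (K : Set G)) (hD : IsPGroup 2 D) {t : G} (ht : t ∈ ⁅D, D⁆) :
    ∀ k ∈ K, Commute t k := by
  have := hK
  rw [← map_subtype_commutator] at ht
  obtain ⟨d, hd, rfl⟩ := mem_map.1 ht
  let φ : D →* MulAut K := (normalizerMonoidHom K).comp (inclusion hn)
  have hφ : ∀ (x : D) (k : K), ((φ x k : K) : G) = (x : G) * k * (x : G)⁻¹ := fun _ _ => rfl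
  have hchar : ∀ f : MulAut K, ∀ x ∈ commutator K, f x ∈ commutator K := fun f x hx => by
    rw [← Subgroup.characteristic_iff_map_eq.1 (inferInstance : (commutator K).Characteristic) f]
    exact ⟨x, hx, rfl⟩
  let ψ : D →* MulAut (commutator K) :=
    { toFun := fun x =>
        { toFun := fun c => ⟨φ x (c : K), hchar (φ x) _ c.2⟩
          invFun := fun c => ⟨(φ x).symm (c : K), hchar (φ x).symm _ c.2⟩
          left_inv := fun c => Subtype.ext ((φ x).symm_apply_apply _)
          right_inv := fun c => Subtype.ext ((φ x).apply_symm_apply _)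
          map_mul' := fun a b => Subtype.ext (map_mul (φ x) (a : K) (b : K)) }
      map_one' := MulEquiv.ext fun c => Subtype.ext (by simp)
      map_mul' := fun a b => MulEquiv.ext fun c => Subtype.ext (by
        show φ (a * b) (c : K) = φ a (φ b (c : K))
        rw [map_mul]; rfl) }
  have : IsCyclic (commutator K) := IsZGroup.isCyclic_commutator K
  have h1 : ∀ c : commutator K, φ d c = c := fun c =>
    congrArg Subtype.val (DFunLike.congr_fun (hom_eq_one_of_mem_commutator ψ hd) c)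
  have : IsCyclic (Abelianization K) := IsZGroup.isCyclic_abelianization
  let χ : D →* MulAut (Abelianization K) :=
    { toFun := fun x => (φ x).abelianizationCongr
      map_one' := by
        refine MulEquiv.ext fun c => ?_
        obtain ⟨k, rfl⟩ := Quotient.exists_rep c
        show Abelianization.of ((φ 1) k) = Abelianization.of k
        rw [map_one]; rfl
      map_mul' := fun a b => by
        refine MulEquiv.ext fun c => ?_
        obtain ⟨k, rfl⟩ := Quotient.exists_rep c
        show Abelianization.of (φ (a * b) k) = Abelianization.of (φ a (φ b k))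
        rw [map_mul]; rfl }
  have h2 : ∀ k : K, φ d k * k⁻¹ ∈ commutator K := fun k => by
    have e : Abelianization.of (φ d k) = Abelianization.of k :=
      DFunLike.congr_fun (hom_eq_one_of_mem_commutator χ hd) (Abelianization.of k)
    rw [← Abelianization.ker_of, MonoidHom.mem_ker, map_mul, map_inv, e, mul_inv_cancel]
  intro k hk
  set z : K := φ d ⟨k, hk⟩ * (⟨k, hk⟩ : K)⁻¹ with hz
  have hzc : φ d z = z := h1 ⟨z, h2 ⟨k, hk⟩⟩
  have hpow : ∀ n : ℕ, φ (d ^ n) ⟨k, hk⟩ = z ^ n * ⟨k, hk⟩ := by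
    intro n
    induction n with
    | zero => simp
    | succ n ih =>
      rw [pow_succ' d, map_mul, MulAut.mul_apply, ih, map_mul, map_pow, hzc,
        show φ d ⟨k, hk⟩ = z * ⟨k, hk⟩ by rw [hz, inv_mul_cancel_right], ← mul_assoc, ← pow_succ]
  obtain ⟨m, hm⟩ := hD d
  have hzm : z ^ 2 ^ m = 1 := by
    have h3 := hpow (2 ^ m)
    rw [hm, map_one, MulAut.one_apply] at h3
    exact mul_eq_right.1 h3.symm
  have hz1 : z = 1 := orderOf_eq_one_iff.1 (Nat.eq_one_of_dvd_coprimes
    (((Nat.coprime_two_left.2 hodd).pow_left m)) (orderOf_dvd_of_pow_eq_one hzm)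
    (orderOf_dvd_natCard z))
  have e : ((φ d ⟨k, hk⟩ : K) : G) = k := congrArg Subtype.val (mul_inv_eq_one.1 hz1)
  rw [hφ] at e
  exact mul_inv_eq_iff_eq_mul.1 e

/-- The centralizer of `t` is not an odd extension by `GL(2, 3)`. -/
theorem three_false (hS : SDMin G) (F : Frame G) (h : Three F) : False := by
  classical
  haveI := hS.simple
  haveI : Fact (Nat.Prime 2) := ⟨Nat.prime_two⟩
  haveI : Fact (Nat.Prime 3) := ⟨Nat.prime_three⟩
  obtain ⟨Kc⟩ := exists_coord (MulEquiv.refl (GL (Fin 2) (ZMod 3)))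
  set C := centralizer ({F.t} : Set G) with hC
  obtain ⟨π, hsurj, hodd⟩ : ∃ π : C →* GL (Fin 2) (ZMod 3),
    Function.Surjective π ∧ Odd (Nat.card π.ker) := h
  have hmC : ∀ {x : G}, Commute x F.t → x ∈ C := fun hx => mem_centralizer_singleton_iff.2 hx.eq
  have hCm : ∀ {x : G}, x ∈ C → Commute x F.t := fun hx => mem_centralizer_singleton_iff.1 hx
  have hPC : (F.P : Subgroup G) ≤ C := fun x hx => hmC (F.t_comm x hx)
  set tC : C := ⟨F.t, hmC (Commute.refl F.t)⟩ with htC
  set iC : C := ⟨F.i, hPC F.i_mem⟩ with hiC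
  -- the kernel as a subgroup of `G`
  set O : Subgroup G := π.ker.map C.subtype with hOdef
  have hOc : Nat.card O = Nat.card π.ker := card_map_of_injective C.subtype_injective
  have hOodd : Odd (Nat.card O) := hOc ▸ hodd
  have hoO : ∀ {x : G}, x ∈ O → Odd (orderOf x) := fun hx =>
    hOodd.of_dvd_nat (Subgroup.orderOf_dvd_natCard O hx)
  have hOC : O ≤ C := map_subtype_le _
  have hCO : C ≤ normalizer (O : Set G) := CfsgLib.Comp.le_normalizer_map_subtype _
  have hPO : (F.P : Subgroup G) ≤ normalizer (O : Set G) := hPC.trans hCO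
  have hZ := hS.cyc.isZGroup hOodd
  -- the derived subgroup of `P` centralises the kernel
  have hder : ∀ d ∈ ⁅(F.P : Subgroup G), (F.P : Subgroup G)⁆, ∀ k ∈ O, Commute d k := fun d hd =>
    commute_of_zgroup_derived hZ hOodd hPO F.P.isPGroup' hd
  -- involutions stay involutions modulo the kernel
  have hπo : ∀ {x : C}, orderOf x = 2 → orderOf (π x) = 2 := by
    intro x hx
    refine orderOf_eq_prime ?_ fun e => ?_
    · rw [← map_pow, show x ^ 2 = 1 from hx ▸ pow_orderOf_eq_one x, map_one]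
    · have h1 := Nat.eq_one_of_dvd_coprimes (Nat.coprime_two_left.2 hodd)
        (dvd_of_eq hx) (by
          have := orderOf_dvd_natCard (⟨x, MonoidHom.mem_ker.2 e⟩ : π.ker)
          rwa [Subgroup.orderOf_mk] at this)
      omega
  have htC2 : orderOf tC = 2 := by rw [htC, Subgroup.orderOf_mk]; exact F.t_two
  have hiC2 : orderOf iC = 2 := by rw [hiC, Subgroup.orderOf_mk]; exact F.i_two
  have htQ : Kc.c (π tC) = tQ := by
    refine tQ_unique _ (Kc.mem_invols (hπo htC2)) fun r hr => ?_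
    obtain ⟨w, rfl⟩ := Kc.surj r hr
    obtain ⟨w, rfl⟩ := hsurj w
    rw [← Kc.map_mul, ← Kc.map_mul, ← map_mul, ← map_mul]
    exact congrArg (fun y => Kc.c (π y)) (Subtype.ext (hCm w.2).symm.eq)
  have hit : Commute F.i F.t := F.t_comm _ F.i_mem
  have hiQ : Kc.c (π iC) ≠ tQ := by
    intro e
    have e' : π iC = π tC := Kc.inj (e.trans htQ.symm)
    have hmem : iC * tC ∈ π.ker := by
      rw [MonoidHom.mem_ker, map_mul, e', ← map_mul, ← pow_two,
        show tC ^ 2 = 1 from htC2 ▸ pow_orderOf_eq_one tC, map_one]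
    have hsq : F.i * F.t * (F.i * F.t) = 1 := by
      rw [hit.symm.mul_mul_mul_comm, ← pow_two, ← pow_two,
        show F.i ^ 2 = 1 from F.i_two ▸ pow_orderOf_eq_one F.i,
        show F.t ^ 2 = 1 from F.t_two ▸ pow_orderOf_eq_one F.t, one_mul]
    have h1 := eq_one_of_sq_odd (hoO ⟨_, hmem, rfl⟩) hsq
    apply F.i_ne
    rw [← inv_inv F.t, ← mul_eq_one_iff_eq_inv.1 (h1 : F.i * F.t = 1)]
    exact (inv_eq_of_mul_eq_one_right (by rw [← pow_two, ← F.i_two, pow_orderOf_eq_one])).symm
  -- the fixed points of `i`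
  set Ki : Subgroup G := O ⊓ centralizer ({F.i} : Set G)
  have hKodd : Odd (Nat.card Ki) := hOodd.of_dvd_nat (card_dvd_of_le inf_le_left)
  have hKP : (F.P : Subgroup G) ≤ normalizer (Ki : Set G) := fun y hy =>
    CfsgLib.Invol.mem_normalizer_iff_of_finite fun x hx => by
      have hxO : x ∈ O := hx.1
      refine ⟨(mem_normalizer_iff.1 (hPO hy) x).1 hxO, mem_centralizer_singleton_iff.2 ?_⟩
      set j := y⁻¹ * F.i * y with hj
      have hd : y⁻¹ * F.i * y * F.i⁻¹ ∈ ⁅(F.P : Subgroup G), (F.P : Subgroup G)⁆ := by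
        have := commutator_mem_commutator (H₁ := (F.P : Subgroup G)) (H₂ := (F.P : Subgroup G))
          (inv_mem hy) F.i_mem
        rw [commutatorElement_def, inv_inv] at this
        exact this
      have hjx : Commute j x := by
        have h1 := (hder _ hd x hxO).mul_left
          (show Commute F.i x from (mem_centralizer_singleton_iff.1 hx.2).symm)
        rwa [inv_mul_cancel_right] at h1
      have := hjx.map (MulAut.conj y).toMonoidHom
      simp only [MulEquiv.coe_toMonoidHom, MulAut.conj_apply, hj] at this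
      rw [show y * (y⁻¹ * F.i * y) * y⁻¹ = F.i by group] at this
      exact this.symm.eq
  have hKchar : ∀ {x : G}, Commute x F.t → Commute x F.i → Odd (orderOf x) → x ∈ O := by
    intro x hxt hxi hxo
    set xC : C := ⟨x, hmC hxt⟩
    have hsq : π (xC * xC) = 1 := by
      refine Kc.inj ?_
      rw [map_mul, Kc.map_mul, Kc.map_one]
      refine cent_refl_sq _ (Kc.mem_invols (hπo hiC2)) hiQ _ (Kc.mem _) ?_
      rw [← Kc.map_mul, ← Kc.map_mul, ← map_mul, ← map_mul]
      exact congrArg (fun y => Kc.c (π y)) (Subtype.ext hxi.eq)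
    refine ⟨xC, MonoidHom.mem_ker.2 ?_, rfl⟩
    refine orderOf_eq_one_iff.1 (Nat.eq_one_of_dvd_coprimes (Nat.coprime_two_left.2 hxo)
      (orderOf_dvd_of_pow_eq_one (by rw [pow_two, ← map_mul]; exact hsq)) ?_)
    exact (orderOf_map_dvd π xC).trans (dvd_of_eq (Subgroup.orderOf_mk x _))
  have hKg : F.g ∈ normalizer (Ki : Set G) := CfsgLib.Invol.mem_normalizer_iff_of_finite fun x hx => by
    have hxt : Commute x F.t := hCm (hOC hx.1)
    have hxi : Commute x F.i := mem_centralizer_singleton_iff.1 hx.2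
    have hni : Commute (F.g * x * F.g⁻¹) F.i := by
      have := hxt.map (MulAut.conj F.g).toMonoidHom
      simpa [MulAut.conj_apply, F.g_t] using this
    have hnti : Commute (F.g * x * F.g⁻¹) (F.t * F.i) := by
      have := hxi.map (MulAut.conj F.g).toMonoidHom
      simpa [MulAut.conj_apply, F.g_i] using this
    have hnt : Commute (F.g * x * F.g⁻¹) F.t := by
      have := hnti.mul_right hni.inv_right
      rwa [mul_inv_cancel_right] at this
    refine ⟨hKchar hnt hni ?_, mem_centralizer_singleton_iff.2 hni.eq⟩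
    rw [show F.g * x * F.g⁻¹ = MulAut.conj F.g x from rfl, MulEquiv.orderOf_eq]
    exact hoO hx.1
  have hK1 : Ki = ⊥ := F.eq_bot Ki hKodd hKP hKg
  -- so `i` inverts the kernel
  have hiO : ∀ x ∈ O, F.i * x * F.i⁻¹ ∈ O := fun x hx =>
    (mem_normalizer_iff.1 (hPO F.i_mem) x).1 hx
  have hinv : ∀ x ∈ O, F.i * x * F.i⁻¹ = x⁻¹ := fun x hx =>
    CfsgLib.Recog.GenDih.inv_of_fpf F.i_two hiO (fun y hy hyi =>
      mem_bot.1 (hK1 ▸ (⟨hy, mem_centralizer_singleton_iff.2 hyi.eq⟩ : y ∈ Ki))) hx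
  have hrefl : ∀ x : C, Kc.c (π x) ∈ invols → Kc.c (π x) ≠ tQ → x * x = 1 := by
    intro x hx hxt
    obtain ⟨g, hg, e⟩ := refl_conj _ (Kc.mem_invols (hπo hiC2)) hiQ _ hx hxt
    obtain ⟨g, rfl⟩ := Kc.surj g hg
    obtain ⟨g, rfl⟩ := hsurj g
    rw [← Kc.map_mul, ← Kc.map_mul, ← map_mul, ← map_mul] at e
    have hfeq : π (g * iC * g⁻¹) = π x := by
      rw [map_mul, map_inv, Kc.inj e, map_mul, mul_inv_cancel_right]
    obtain ⟨k, hk⟩ : ∃ k, k = x * (g * iC * g⁻¹)⁻¹ := ⟨_, rfl⟩
    have hkO : k ∈ π.ker := by rw [MonoidHom.mem_ker, hk, map_mul, map_inv, hfeq, mul_inv_cancel]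
    have hk' : iC * (g⁻¹ * k * g) * iC⁻¹ = (g⁻¹ * k * g)⁻¹ := by
      refine Subtype.ext (hinv _ ⟨g⁻¹ * k * g, ?_, rfl⟩)
      simpa using (inferInstance : π.ker.Normal).conj_mem k hkO g⁻¹
    obtain ⟨w, hw⟩ : ∃ w, w = g * iC * g⁻¹ := ⟨_, rfl⟩
    have hw2 : w * w = 1 := by
      rw [hw, show g * iC * g⁻¹ * (g * iC * g⁻¹) = g * (iC * iC) * g⁻¹ by group, ← pow_two, ← hiC2,
        pow_orderOf_eq_one, mul_one, mul_inv_cancel]
    have hwk : w * k * w⁻¹ = k⁻¹ := by
      rw [hw, show g * iC * g⁻¹ * k * (g * iC * g⁻¹)⁻¹ = g * (iC * (g⁻¹ * k * g) * iC⁻¹) * g⁻¹ by group,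
        hk']
      group
    rw [show x = k * w by rw [hk, hw, inv_mul_cancel_right]]
    calc k * w * (k * w) = k * (w * k * w⁻¹) * (w * w) := by group
      _ = 1 := by rw [hwk, hw2, mul_inv_cancel, mul_one]
  let E : CfsgLib.GLTwoThreeO.Over F.t (GL (Fin 2) (ZMod 3)) := ⟨π, Kc, hsurj, hodd, hrefl⟩
  have hker : π.ker = ⊥ := E.ker_eq_bot F.t_two F.one_class
  have hinj : Function.Injective π := (MonoidHom.ker_eq_bot_iff π).1 hker
  let eC := MulEquiv.ofBijective π ⟨hinj, hsurj⟩
  have h48 : Nat.card C = 48 := by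
    rw [Nat.card_congr eC.toEquiv]
    exact Kc.natCard
  have h9 : 9 ∣ Nat.card G := by
    rcases Cfsg.Agent.S0197.result F.t F.t_two eC with h | h <;> rw [h] <;> norm_num
  -- an element of order three of the centralizer in a cyclic Sylow subgroup
  obtain ⟨x₀, hx₀⟩ := exists_prime_orderOf_dvd_card' (G := C) 3 (by rw [h48]; norm_num)
  set x : G := x₀.1
  have hx3 : orderOf x = 3 := (Subgroup.orderOf_coe x₀).trans hx₀
  obtain ⟨R, hR⟩ := (IsPGroup.of_card (n := 1)
    (by rw [Nat.card_zpowers, hx3, pow_one]) : IsPGroup 3 (zpowers x)).exists_le_sylow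
  have hRc : IsCyclic (R : Subgroup G) := hS.cyc.odd 3 Nat.prime_three (by norm_num) R
  have hR9 : 9 ∣ Nat.card (R : Subgroup G) := by
    rw [R.card_eq_multiplicity]
    exact (Nat.prime_three.pow_dvd_iff_dvd_ordProj (Nat.card_pos (α := G)).ne').1 (show 3 ^ 2 ∣ Nat.card G from h9)
  set H : Subgroup G := centralizer ({x} : Set G) with hH
  have hRH : (R : Subgroup G) ≤ H := fun y hy => by
    obtain ⟨⟨r, hr⟩, hgen⟩ := IsCyclic.exists_generator (α := (R : Subgroup G))
    obtain ⟨a, ha⟩ := hgen ⟨y, hy⟩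
    obtain ⟨b, hb⟩ := hgen ⟨x, hR (mem_zpowers x)⟩
    have ey : r ^ a = y := congrArg Subtype.val ha
    have ex : r ^ b = x := congrArg Subtype.val hb
    rw [mem_centralizer_singleton_iff, ← ey, ← ex]
    exact ((Commute.refl r).zpow_zpow a b).eq
  set pQ := Kc.c (π x₀)
  have hp3 : powQ pQ 3 = oneQ := by
    rw [← Kc.map_pow, ← map_pow, show x₀ ^ 3 = 1 from hx₀ ▸ pow_orderOf_eq_one x₀, map_one, Kc.map_one]
  have hp1 : pQ ≠ oneQ := fun e => by
    have : x₀ = 1 := hinj (by rw [map_one]; exact Kc.inj (e.trans Kc.map_one.symm))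
    rw [this, orderOf_one] at hx₀
    omega
  have hcomm : ∀ (w : C), Commute (w : G) x → mulQ (Kc.c (π w)) pQ = mulQ pQ (Kc.c (π w)) := by
    intro w hw
    rw [← Kc.map_mul, ← Kc.map_mul, ← map_mul, ← map_mul]
    exact congrArg (fun y => Kc.c (π y)) (Subtype.ext hw.eq)
  have htx : Commute F.t x := (hCm x₀.2).symm
  set tH : H := ⟨F.t, mem_centralizer_singleton_iff.2 htx.eq⟩
  have htH2 : orderOf tH = 2 := by rw [Subgroup.orderOf_mk]; exact F.t_two
  -- a Sylow two-subgroup through `t` has order two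
  obtain ⟨T, hT⟩ := (IsPGroup.of_card (n := 1)
    (by rw [Nat.card_zpowers, htH2, pow_one]) : IsPGroup 2 (zpowers tH)).exists_le_sylow
  have htT : tH ∈ (T : Subgroup H) := hT (mem_zpowers tH)
  have hcase : ∀ w : H, w ∈ (T : Subgroup H) → Commute (w : G) F.t → orderOf w = 2 → w = tH := by
    intro w _ hwt hw2
    set wC : C := ⟨w, hmC hwt⟩
    have hwC : orderOf wC = 2 := by rw [Subgroup.orderOf_mk, Subgroup.orderOf_coe, hw2]
    have := three_cent_invol pQ (Kc.mem _) hp3 hp1 _ (Kc.mem_invols (hπo hwC))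
      (hcomm wC (mem_centralizer_singleton_iff.1 w.2))
    have e : wC = tC := hinj (Kc.inj (this.trans htQ.symm))
    exact Subtype.ext (congrArg Subtype.val e : (w : G) = F.t)
  haveI : Nontrivial (T : Subgroup H) := ⟨⟨⟨tH, htT⟩, 1, fun e => by
    have : tH = 1 := congrArg Subtype.val e
    rw [this, orderOf_one] at htH2
    omega⟩⟩
  haveI := T.isPGroup'.center_nontrivial
  obtain ⟨n, hn⟩ := IsPGroup.iff_card.1 (T.isPGroup'.to_subgroup (center (T : Subgroup H)))
  obtain ⟨zc, hzc⟩ := exists_prime_orderOf_dvd_card' (G := center (T : Subgroup H)) 2 (by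
    rw [hn]
    refine dvd_pow_self 2 fun e => ?_
    have := Finite.one_lt_card (α := center (T : Subgroup H))
    rw [hn, e, pow_zero] at this
    omega)
  have hzz : ((zc : (T : Subgroup H)) : H) = tH := by
    refine hcase _ (SetLike.coe_mem _) ?_ (by rw [Subgroup.orderOf_coe, Subgroup.orderOf_coe, hzc])
    have := mem_center_iff.1 zc.2 ⟨tH, htT⟩
    exact (congrArg (fun y : (T : Subgroup H) => ((y : H) : G)) this).symm
  have hTcard : Nat.card (T : Subgroup H) = 2 := by
    have hall : ∀ w ∈ (T : Subgroup H), w = 1 ∨ w = tH := by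
      intro w hw
      have hwt : Commute (w : G) F.t := by
        have := mem_center_iff.1 zc.2 ⟨w, hw⟩
        have h2 := congrArg (fun y : (T : Subgroup H) => ((y : H) : G)) this
        simp only [Subgroup.coe_mul, hzz] at h2
        exact h2
      set wC : C := ⟨w, hmC hwt⟩
      have h6 : wC ^ 6 = 1 := hinj (Kc.inj (by
        rw [map_pow, Kc.map_pow, map_one, Kc.map_one]
        exact three_cent_pow pQ (Kc.mem _) hp3 hp1 _ (Kc.mem _)
          (hcomm wC (mem_centralizer_singleton_iff.1 w.2))))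
      obtain ⟨k, hk⟩ := T.isPGroup' ⟨w, hw⟩
      have h6' : orderOf w ∣ 6 :=
        orderOf_dvd_of_pow_eq_one (Subtype.ext (congrArg Subtype.val h6 :))
      have hk' : orderOf w ∣ 2 ^ k := orderOf_dvd_of_pow_eq_one (congrArg Subtype.val hk :)
      have h2 : orderOf w ∣ 2 := by
        have hcp : (orderOf w).Coprime 3 :=
          Nat.Coprime.coprime_dvd_left hk' ((show Nat.Coprime 2 3 by norm_num).pow_left k)
        exact hcp.dvd_of_dvd_mul_right (show orderOf w ∣ 2 * 3 from h6')
      rcases (Nat.dvd_prime Nat.prime_two).1 h2 with h1 | h1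
      · exact Or.inl (orderOf_eq_one_iff.1 h1)
      · exact Or.inr (hcase w hw hwt h1)
    refine le_antisymm ?_ ?_
    · refine (card_le_of_le (fun w hw => ?_ : (T : Subgroup H) ≤ zpowers tH)).trans
        (by rw [Nat.card_zpowers, htH2])
      rcases hall w hw with rfl | rfl
      · exact one_mem _
      · exact mem_zpowers tH
    · exact Finite.one_lt_card
  -- the normal complement
  have hTc : IsCyclic (T : Subgroup H) := isCyclic_of_prime_card hTcard
  have hmin : (Nat.card H).minFac = 2 := (Nat.minFac_eq_two_iff _).2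
    (hTcard ▸ Subgroup.card_subgroup_dvd_card (T : Subgroup H))
  obtain ⟨N, hNn, hN⟩ : ∃ N : Subgroup H, N.Normal ∧ N.IsComplement' (T : Subgroup H) :=
    ⟨_, MonoidHom.normal_ker _, hTc.isComplement' hmin⟩
  have hHN : Nat.card N * 2 = Nat.card H := hTcard ▸ hN.card_mul_card
  have hNodd : Odd (Nat.card N) := by
    rw [← Nat.not_even_iff_odd, even_iff_two_dvd]
    intro h2
    have h4 : 2 ^ 2 ∣ Nat.card H := by
      rw [← hHN, pow_two]; exact Nat.mul_dvd_mul_right h2 2
    have := (Nat.prime_two.pow_dvd_iff_dvd_ordProj (Nat.card_pos (α := H)).ne').1 h4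
    rw [← T.card_eq_multiplicity, hTcard] at this
    norm_num at this
  set N' : Subgroup G := N.map H.subtype
  have hN'c : Nat.card N' = Nat.card N := card_map_of_injective H.subtype_injective
  have hN'odd : Odd (Nat.card N') := hN'c ▸ hNodd
  have hN9 : 9 ∣ Nat.card N := by
    have := hR9.trans (card_dvd_of_le hRH)
    rw [← hHN] at this
    exact (show Nat.Coprime 9 2 by norm_num).dvd_of_dvd_mul_right this
  haveI := hNn
  have hHN' : H ≤ normalizer (N' : Set G) := CfsgLib.Comp.le_normalizer_map_subtype _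
  have htN' : zpowers F.t ≤ normalizer (N' : Set G) := zpowers_le.2 (hHN' tH.2)
  obtain ⟨P₃, hP₃⟩ := CfsgLib.Coprime.exists_invariant_sylow htN'
    (by rw [Nat.card_zpowers, F.t_two]; exact Nat.coprime_two_left.2 hN'odd)
    (Or.inr (CfsgLib.FT.odd_order_solvable hN'odd)) 3
  set R₀ : Subgroup G := (P₃ : Subgroup N').map N'.subtype
  have hR₀H : R₀ ≤ H := (map_subtype_le _).trans (map_subtype_le _)
  have hR₀c : Nat.card R₀ = Nat.card (P₃ : Subgroup N') := card_map_of_injective N'.subtype_injective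
  have hR₀9 : 9 ∣ Nat.card R₀ := by
    rw [hR₀c, P₃.card_eq_multiplicity]
    exact (Nat.prime_three.pow_dvd_iff_dvd_ordProj (Nat.card_pos (α := N')).ne').1
      (show 3 ^ 2 ∣ Nat.card N' by rw [hN'c]; exact hN9)
  have hR₀p : IsPGroup 3 R₀ := P₃.isPGroup'.map _
  obtain ⟨Q, hQ⟩ := hR₀p.exists_le_sylow
  have hQc : IsCyclic (Q : Subgroup G) := hS.cyc.odd 3 Nat.prime_three (by norm_num) Q
  have hR₀cyc : IsCyclic R₀ := isCyclic_of_injective (inclusion hQ) (inclusion_injective hQ)
  -- `R₀` centralises `t`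
  have hR₀C : R₀ ≤ C := by
    intro y hy
    obtain ⟨r, hr, v, hv, rfl, hrt, hvt⟩ :
        ∃ r ∈ R₀, ∃ v ∈ R₀, y = r * v ∧ Commute r F.t ∧ F.t * v * F.t⁻¹ = v⁻¹ := by
      obtain ⟨n, hn⟩ : ∃ n : ℕ, (y⁻¹ * (F.t * y * F.t⁻¹)) ^ n *
          (y⁻¹ * (F.t * y * F.t⁻¹)) ^ n = y⁻¹ * (F.t * y * F.t⁻¹) := by
        have hyt : y⁻¹ * (F.t * y * F.t⁻¹) ∈ R₀ :=
          mul_mem (inv_mem hy) ((mem_normalizer_iff.1 (hP₃ (mem_zpowers F.t)) y).1 hy)
        obtain ⟨m, hm⟩ := (hN'odd.of_dvd_nat (card_dvd_of_le (map_subtype_le _))).of_dvd_nat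
          (Subgroup.orderOf_dvd_natCard R₀ hyt)
        exact ⟨m + 1, by rw [← pow_add, show m + 1 + (m + 1) = orderOf (y⁻¹ * (F.t * y * F.t⁻¹)) + 1 by omega,
          pow_succ, pow_orderOf_eq_one, one_mul]⟩
      set c := y⁻¹ * (F.t * y * F.t⁻¹) with hc
      have hcR : c ∈ R₀ :=
        mul_mem (inv_mem hy) ((mem_normalizer_iff.1 (hP₃ (mem_zpowers F.t)) y).1 hy)
      have htt : F.t⁻¹ = F.t :=
        inv_eq_of_mul_eq_one_right (by rw [← pow_two, ← F.t_two, pow_orderOf_eq_one])
      have hci : F.t * c * F.t⁻¹ = c⁻¹ := by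
        rw [hc]; simp only [mul_inv_rev, inv_inv, htt, mul_assoc]
        rw [show F.t * F.t = 1 by rw [← pow_two, ← F.t_two, pow_orderOf_eq_one], mul_one]
      refine ⟨y * c ^ n, mul_mem hy (pow_mem hcR n), (c ^ n)⁻¹, inv_mem (pow_mem hcR n),
        (mul_inv_cancel_right _ _).symm, ?_, ?_⟩
      · refine (mul_inv_eq_iff_eq_mul.1 ?_ : Commute F.t (y * c ^ n)).symm
        calc F.t * (y * c ^ n) * F.t⁻¹ = y * (y⁻¹ * (F.t * y * F.t⁻¹)) * (F.t * c * F.t⁻¹) ^ n := by
              rw [conj_pow]; group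
          _ = y * (c ^ n * c ^ n) * (c ^ n)⁻¹ := by rw [← hc, hci, inv_pow, hn]
          _ = _ := by group
      · rw [show F.t * (c ^ n)⁻¹ * F.t⁻¹ = ((F.t * c * F.t⁻¹) ^ n)⁻¹ by rw [conj_pow]; group, hci,
          inv_pow]
    have hv1 : v = 1 := by
      by_contra hv1
      haveI := hR₀cyc
      -- `x` is a power of `v`
      have hxR : x ∈ R₀ := by
        have hxN : x ∈ N' := by
          have hxH : x ∈ H := mem_centralizer_singleton_iff.2 rfl
          refine ⟨⟨x, hxH⟩, ?_, rfl⟩
          refine (QuotientGroup.eq_one_iff _).1 (orderOf_eq_one_iff.1 (Nat.eq_one_of_dvd_coprimes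
            (show Nat.Coprime 3 2 by norm_num)
            ((orderOf_map_dvd (QuotientGroup.mk' N) (⟨x, hxH⟩ : H)).trans
              (dvd_of_eq ((Subgroup.orderOf_mk x hxH).trans hx3)))
            ?_))
          have hcq : Nat.card (H ⧸ N) = 2 := by
            have := N.card_mul_index
            rw [← hHN] at this
            exact Nat.eq_of_mul_eq_mul_left Nat.card_pos this
          rw [← hcq]
          exact orderOf_dvd_natCard _
        have hxc : (⟨x, hxN⟩ : N') ∈ center N' := mem_center_iff.2 fun w => Subtype.ext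
          (mem_centralizer_singleton_iff.1 (map_subtype_le _ w.2))
        have hX : IsPGroup 3 (zpowers (⟨x, hxN⟩ : N')) := IsPGroup.of_card (n := 1)
          (by rw [Nat.card_zpowers, Subgroup.orderOf_mk, hx3, pow_one])
        have hsup : IsPGroup 3 ((P₃ : Subgroup N') ⊔ zpowers (⟨x, hxN⟩ : N') : Subgroup N') :=
          P₃.isPGroup'.to_sup_of_normal_right' hX fun w _ => mem_normalizer_iff.2 fun y => by
            constructor
            · rintro ⟨k, rfl⟩
              refine ⟨k, ?_⟩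
              show (⟨x, hxN⟩ : N') ^ k = w * (⟨x, hxN⟩ : N') ^ k * w⁻¹
              rw [mem_center_iff.1 (zpow_mem hxc k) w, mul_inv_cancel_right]
            · rintro ⟨k, hk⟩
              refine ⟨k, ?_⟩
              show (⟨x, hxN⟩ : N') ^ k = y
              replace hk : (⟨x, hxN⟩ : N') ^ k = w * y * w⁻¹ := hk
              rw [show y = w⁻¹ * (⟨x, hxN⟩ : N') ^ k * w by rw [hk]; group, mul_assoc,
                ← mem_center_iff.1 (zpow_mem hxc k) w, inv_mul_cancel_left]
        have : ((P₃ : Subgroup N') ⊔ zpowers (⟨x, hxN⟩ : N') : Subgroup N') = P₃ :=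
          P₃.3 hsup le_sup_left
        exact ⟨⟨x, hxN⟩, this ▸ mem_sup_right (mem_zpowers _), rfl⟩
      obtain ⟨k, hk⟩ := hR₀p ⟨v, hv⟩
      obtain ⟨i, -, hi⟩ := (Nat.dvd_prime_pow Nat.prime_three).1
        (orderOf_dvd_of_pow_eq_one (congrArg Subtype.val hk :) : orderOf v ∣ 3 ^ k)
      rcases i with _ | i
      · exact hv1 (orderOf_eq_one_iff.1 (by rw [hi, pow_zero]))
      set u := v ^ 3 ^ i
      have hu : orderOf u = 3 := by
        rw [orderOf_pow_of_dvd (by positivity) (hi ▸ pow_dvd_pow 3 i.le_succ), hi, pow_succ',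
          Nat.mul_div_cancel _ (pow_pos (by norm_num) i)]
      have hxu : x ∈ zpowers u := by
        obtain ⟨⟨r', hr'⟩, hgen⟩ := IsCyclic.exists_generator (α := R₀)
        have hmem : ∀ w ∈ R₀, w ∈ zpowers r' := fun w hw => by
          obtain ⟨i, hi⟩ := hgen ⟨w, hw⟩
          exact ⟨i, congrArg Subtype.val hi⟩
        exact CfsgLib.GW.Component.mem_zpowers_of_dvd_in_cyclic (hmem u (pow_mem hv _)) (hmem x hxR)
          (by rw [hx3, hu])
      obtain ⟨m, hm⟩ := hxu
      replace hm : u ^ m = x := hm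
      have hxi : F.t * x * F.t⁻¹ = x⁻¹ := by
        rw [← hm, ← conj_zpow, show F.t * u * F.t⁻¹ = u⁻¹ by
          simp only [u]; rw [← conj_pow, hvt, inv_pow], inv_zpow]
      rw [htx.eq, mul_inv_cancel_right] at hxi
      have h1 := eq_one_of_sq_odd (by rw [hx3]; decide) (mul_eq_one_iff_eq_inv.2 hxi)
      rw [h1, orderOf_one] at hx3
      omega
    rw [hv1, mul_one]
    exact hmC hrt
  have h948 := hR₀9.trans (card_dvd_of_le hR₀C)
  rw [h48] at h948
  norm_num at h948

end CfsgLib.S4069
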