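import Cfsg.Agent.Lib.GW.ShapePGL

/-!
Tori of `PGL(2, q)` at an involution: sizes, centralizers and the reflection parity.
-/

set_option autoImplicit false
set_option linter.unusedSectionVars false

namespace CfsgLib.S4069.PGL

open Subgroup Matrix CfsgLib.GW.PGL
open scoped MatrixGroups

variable {F : Type} [Field F] [Fintype F]

/-- The sizes of cyclic tori are not multiples of each other. -/
theorem torus_size (h5 : 5 ≤ Fintype.card F) {n m : ℕ} (hn : n = Fintype.card F - 1 ∨ n = Fintype.card F + 1)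
    (hm : m = Fintype.card F - 1 ∨ m = Fintype.card F + 1) (hd : n ∣ m) : n = m := by
  rcases hn with rfl | rfl <;> rcases hm with rfl | rfl
  · rfl
  · have : Fintype.card F - 1 ∣ (Fintype.card F + 1) - (Fintype.card F - 1) :=
      Nat.dvd_sub hd dvd_rfl
    have := Nat.le_of_dvd (by omega) this
    omega
  · have := Nat.le_of_dvd (by omega) hd
    omega
  · rfl

/-- A cyclic group of torus order at an involution `z` is the torus of each of its elements of
order at least three, and the elements commuting with `z` lie in it or invert it. -/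
theorem torus_facts (hodd : Odd (Fintype.card F)) (h5 : 5 ≤ Fintype.card F) {z σ : PGL(2, F)}
    (hz : orderOf z = 2) (hzσ : z ∈ zpowers σ)
    (hσ : orderOf σ = Fintype.card F - 1 ∨ orderOf σ = Fintype.card F + 1) :
    (∀ x ∈ zpowers σ, x * x ≠ 1 → ∀ y, Commute y x → y ∈ zpowers σ) ∧
      (∀ y, Commute y z → y ∈ zpowers σ ∨ y * y = 1) ∧
      ∀ y s, Commute y z → Commute s z → y ∉ zpowers σ → s ∉ zpowers σ → s * y ∈ zpowers σ := by
  have := CfsgLib.Geom.Moebius.finite_pgl_two (F := F)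
  have hσσ : σ * σ ≠ 1 := fun h => by
    have := Nat.le_of_dvd two_pos (orderOf_dvd_of_pow_eq_one (show σ ^ 2 = 1 by rw [pow_two]; exact h))
    rcases hσ with e | e <;> omega
  have hcomm : ∀ x ∈ zpowers σ, Commute x z := fun x hx => by
    obtain ⟨i, rfl⟩ := mem_zpowers_iff.1 hx
    obtain ⟨j, rfl⟩ := mem_zpowers_iff.1 hzσ
    exact (Commute.refl σ).zpow_zpow i j
  have hcard : Nat.card (zpowers σ) = Fintype.card F - 1 ∨ Nat.card (zpowers σ) = Fintype.card F + 1 := by
    rwa [Nat.card_zpowers]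
  have heq : ∀ {T : Subgroup PGL(2, F)}, zpowers σ ≤ T →
      (Nat.card T = Fintype.card F - 1 ∨ Nat.card T = Fintype.card F + 1) → T = zpowers σ :=
    fun {T} hle hT => (Subgroup.eq_of_le_of_card_ge hle
      (torus_size h5 hcard hT (card_dvd_of_le hle)).ge).symm
  have h1 : ∀ x ∈ zpowers σ, x * x ≠ 1 → ∀ y, Commute y x → y ∈ zpowers σ := by
    intro x hx hxx y hy
    obtain ⟨T, hT, -, hTc, hle, -, -⟩ := exists_torus hodd hz (hcomm x hx)
      (fun e => hxx (by rw [e, mul_one]))
    have hσT : zpowers σ ≤ T := zpowers_le.2 (hle hxx (mem_centralizer_singleton_iff.2 (by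
      obtain ⟨i, rfl⟩ := mem_zpowers_iff.1 hx
      exact ((Commute.refl σ).zpow_right i).eq)))
    exact heq hσT hTc ▸ hle hxx (mem_centralizer_singleton_iff.2 hy.eq)
  obtain ⟨T, -, -, hTc, -, hall, -⟩ := exists_torus hodd hz (Commute.refl z) (ne_one_of_two hz)
  have hσT : σ ∈ T := (hall σ (hcomm σ (mem_zpowers σ))).elim id fun h => absurd h hσσ
  have hTeq := heq (zpowers_le.2 hσT) hTc
  subst hTeq
  refine ⟨h1, hall, fun y s hy hs hyT hsT => ?_⟩
  have hinv : ∀ w, Commute w z → w ∉ zpowers σ → w * w = 1 ∧ w * σ * w⁻¹ = σ⁻¹ := by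
    intro w hw hwT
    have h := (hall w hw).resolve_left hwT
    refine ⟨h, ?_⟩
    have h' := (hall (w * σ) (hw.mul_left (hcomm σ (mem_zpowers σ)))).resolve_left fun e =>
      hwT ((Subgroup.mul_mem_cancel_right _ (mem_zpowers σ)).1 e)
    rw [inv_eq_of_mul_eq_one_right h]
    refine eq_inv_of_mul_eq_one_left ?_
    rw [← h']
    simp only [mul_assoc]
  refine h1 σ (mem_zpowers σ) hσσ _ ?_
  obtain ⟨-, ey⟩ := hinv y hy hyT
  obtain ⟨-, es⟩ := hinv s hs hsT
  refine mul_inv_eq_iff_eq_mul.1 ?_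
  rw [_root_.mul_inv_rev, show s * y * σ * (y⁻¹ * s⁻¹) = s * (y * σ * y⁻¹) * s⁻¹ by group, ey,
    ← conj_inv, es, inv_inv]

end CfsgLib.S4069.PGL
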