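import Cfsg.Agent.Lib.S4069.ToriMap
import Cfsg.Agent.Lib.S4069.ToriPGL
import Cfsg.Agent.Lib.Invol.FusionBasics

/-!
The two tori of the involution centralizer `(O × L) ⟨i⟩` which feed the element count.
-/

set_option autoImplicit false
set_option linter.unusedSectionVars false
set_option linter.style.haveILetI false

namespace CfsgLib.S4069

open Subgroup Matrix
open scoped MatrixGroups

universe u

theorem orderOf_zpow_dvd' {X : Type*} [Group X] (x : X) (k : ℤ) : orderOf (x ^ k) ∣ orderOf x :=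
  orderOf_dvd_of_mem_zpowers (zpow_mem (mem_zpowers x) k)

namespace Big

variable {G : Type u} [Group G] [Finite G] {F : Frame G} (B : Big F)

theorem t_mul_t : F.t * F.t = 1 := CfsgLib.Invol.invol_mul_self F.t_two

theorem conj_mem_L {c l : G} (hc : c ∈ centralizer ({F.t} : Set G)) (hl : l ∈ B.L) :
    c * l * c⁻¹ ∈ B.L := (mem_normalizer_iff.1 (B.L_norm hc) l).1 hl

theorem conj_mem_O {c o : G} (hc : c ∈ centralizer ({F.t} : Set G)) (ho : o ∈ B.O) :
    c * o * c⁻¹ ∈ B.O := (mem_normalizer_iff.1 (B.O_norm hc) o).1 ho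

/-- An element of `O` does not move an element of the centralizer by `t`. -/
theorem not_shift {o u : G} (ho : o ∈ B.O) (hu : u ∈ centralizer ({F.t} : Set G))
    (h : o * u * o⁻¹ = F.t * u) : False := by
  refine B.t_not_mem_O ?_
  rw [show F.t = o * (u * o⁻¹ * u⁻¹) by rw [← mul_assoc, ← mul_assoc, h, mul_inv_cancel_right]]
  exact mul_mem ho (B.conj_mem_O hu (inv_mem ho))

section

variable {φ : centralizer ({F.t} : Set G) →* PGL(2, ZMod B.q)}
  (hker : ∀ c, φ c = 1 ↔ (c : G) ∈ B.O ∨ ∃ o ∈ B.O, (c : G) = o * F.t)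

include hker in
theorem fiber {c z : centralizer ({F.t} : Set G)} (h : φ c = φ z) :
    ∃ o ∈ B.O, (c : G) = o * z ∨ (c : G) = o * (F.t * z) := by
  rcases (hker (c * z⁻¹)).1 (by rw [map_mul, map_inv, h, mul_inv_cancel]) with h' | ⟨o, ho, h'⟩
  · exact ⟨_, h', Or.inl (by rw [Subgroup.coe_mul, Subgroup.coe_inv, inv_mul_cancel_right])⟩
  · refine ⟨o, ho, Or.inr ?_⟩
    rw [Subgroup.coe_mul, Subgroup.coe_inv] at h'
    rw [← mul_assoc, ← h', inv_mul_cancel_right]

include hker in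
/-- An element of odd exponent of `L` is determined by its image. -/
theorem lift_unique {n : ℕ} (hn : Odd n) {x y : centralizer ({F.t} : Set G)} (hx : (x : G) ∈ B.L)
    (hy : (y : G) ∈ B.L) (hxn : x ^ n = 1) (hyn : y ^ n = 1) (h : φ x = φ y) : x = y := by
  obtain ⟨o, ho, e | e⟩ := B.fiber hker h
  · have : o = 1 := B.inf_eq_bot ho (by
      rw [show o = (x : G) * (y : G)⁻¹ by rw [e, mul_inv_cancel_right]]
      exact mul_mem hx (inv_mem hy))
    exact Subtype.ext (by rw [e, this, one_mul])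
  · have : o = 1 := B.inf_eq_bot ho (by
      rw [show o = (x : G) * (F.t * (y : G))⁻¹ by rw [e, mul_inv_cancel_right]]
      exact mul_mem hx (inv_mem (mul_mem B.t_mem hy)))
    rw [this, one_mul] at e
    have h1 : (x : G) ^ n = F.t ^ n * (y : G) ^ n := by
      rw [e, ((B.commute_L hy).symm).mul_pow]
    rw [← Subgroup.coe_pow, hxn, ← Subgroup.coe_pow, hyn, Subgroup.coe_one, mul_one] at h1
    obtain ⟨k, rfl⟩ := hn
    rw [pow_succ, pow_mul, pow_two, t_mul_t, one_pow, one_mul] at h1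
    exact absurd h1.symm t_ne_one

include hker in
/-- Elements of odd exponent lift to `L`. -/
theorem lift_exists (hsurj : Function.Surjective φ) {n : ℕ} (hn : Odd n) {τ : PGL(2, ZMod B.q)}
    (hτ : τ ^ n = 1) :
    ∃ l : centralizer ({F.t} : Set G), (l : G) ∈ B.L ∧ l ^ n = 1 ∧ φ l = τ := by
  obtain ⟨k, rfl⟩ := hn
  obtain ⟨c, rfl⟩ := hsurj τ
  have h2 : (c ^ (k + 1)) ^ 2 ∈ B.H := sq_mem_of_index_two B.index_H _
  obtain ⟨o, ho, l₀, hl₀, hol⟩ := B.mem_sup.1 (mem_subgroupOf.1 h2)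
  set l : centralizer ({F.t} : Set G) := ⟨l₀, B.L_le hl₀⟩
  have hφl : φ l = φ c := by
    have h1 : φ ((c ^ (k + 1)) ^ 2) = φ c := by
      rw [map_pow, map_pow, ← pow_mul, show (k + 1) * 2 = 2 * k + 1 + 1 by ring, pow_succ, hτ, one_mul]
    rw [← h1, show (c ^ (k + 1)) ^ 2 = (⟨o, B.O_le ho⟩ : centralizer ({F.t} : Set G)) * l from
      Subtype.ext hol.symm, map_mul, (hker ⟨o, B.O_le ho⟩).2 (Or.inl ho), one_mul]
  refine ⟨l ^ (2 * k + 1 + 1), by rw [Subgroup.coe_pow]; exact pow_mem hl₀ _, ?_, ?_⟩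
  · have h1 : φ (l ^ (2 * k + 1)) = 1 := by rw [map_pow, hφl, hτ]
    have hL : ((l ^ (2 * k + 1) : centralizer ({F.t} : Set G)) : G) ∈ B.L := by
      rw [Subgroup.coe_pow]; exact pow_mem hl₀ _
    have h2 : (l ^ (2 * k + 1)) ^ 2 = 1 := Subtype.ext (by
      rcases (hker _).1 h1 with h | ⟨o', ho', h⟩
      · rw [Subgroup.coe_pow, B.inf_eq_bot h hL, one_pow, Subgroup.coe_one]
      · have : o' = 1 := B.inf_eq_bot ho' (by
          rw [show o' = ((l ^ (2 * k + 1) : centralizer ({F.t} : Set G)) : G) * F.t⁻¹ by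
            rw [h, mul_inv_cancel_right]]
          exact mul_mem hL (inv_mem B.t_mem))
        rw [Subgroup.coe_pow, h, this, one_mul, pow_two, t_mul_t, Subgroup.coe_one])
    rw [← pow_mul, show (2 * k + 1 + 1) * (2 * k + 1) = (2 * k + 1) * 2 * (k + 1) by ring, pow_mul,
      pow_mul, h2, one_pow]
  · rw [map_pow, hφl, pow_succ, hτ, one_mul]

end

/-- **The tori.** -/
theorem exists_tori (hS : SDMin G) (B : Big F) : Nonempty (Tori F) := by
  classical
  haveI : Fact (Nat.Prime 2) := ⟨Nat.prime_two⟩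
  obtain ⟨φ, hsurj, hker⟩ := B.exists_map hS.sd
  haveI := CfsgLib.Geom.Moebius.finite_pgl_two (F := ZMod B.q)
  have hq5 := B.five_le
  have hqo : Odd B.q := (Fact.out : B.q.Prime).odd_of_ne_two (by omega)
  have hodd : Odd (Fintype.card (ZMod B.q)) := by rwa [ZMod.card]
  have h5 : 5 ≤ Fintype.card (ZMod B.q) := by rwa [ZMod.card]
  have hmul1 : F.i * F.i = 1 := CfsgLib.Invol.invol_mul_self F.i_two
  -- the image of `i`
  set iC : centralizer ({F.t} : Set G) := ⟨F.i, i_centC⟩ with hiC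
  have hi1 : φ iC ≠ 1 := fun h => B.i_not_mem (by
    rcases (hker iC).1 h with h' | ⟨o, ho, h'⟩
    · exact mem_sup_left h'
    · rw [show F.i = o * F.t from h']; exact mul_mem (mem_sup_left ho) (mem_sup_right B.t_mem))
  have hibar : orderOf (φ iC) = 2 := CfsgLib.Invol.invol_of_mul_self
    (by rw [← map_mul, show iC * iC = 1 from Subtype.ext hmul1, map_one]) hi1
  obtain ⟨T₀, hT₀, hiT₀, hT₀c, -, -, -⟩ := CfsgLib.GW.PGL.exists_torus hodd hibar (Commute.refl _) hi1
  obtain ⟨σ₀, hσ₀⟩ := isCyclic_iff_exists_zpowers_eq_top.1 hT₀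
  have hσ₀' : zpowers (σ₀ : PGL(2, ZMod B.q)) = T₀ := by
    have := congrArg (Subgroup.map T₀.subtype) hσ₀
    rwa [MonoidHom.map_zpowers, ← MonoidHom.range_eq_map, Subgroup.range_subtype] at this
  set s₀ := (σ₀ : PGL(2, ZMod B.q))
  rw [← hσ₀', Nat.card_zpowers, ZMod.card] at hT₀c
  rw [← hσ₀'] at hiT₀
  -- its order is twice an odd number
  obtain ⟨α, hα⟩ : 2 ∣ orderOf s₀ := by
    have h := Subgroup.orderOf_dvd_natCard _ hiT₀
    rwa [hibar, Nat.card_zpowers] at h
  have hα3 : 2 ≤ α := by omega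
  have hpow : orderOf (s₀ ^ α) = 2 := by
    rw [orderOf_pow_of_dvd (by omega) ⟨2, by rw [hα, mul_comm]⟩, hα, Nat.mul_div_cancel _ (by omega)]
  have hiα : φ iC = s₀ ^ α := CfsgLib.GW.PGL.invol_unique
    (hσ₀' ▸ hT₀ : IsCyclic (zpowers s₀)) hiT₀ (pow_mem (mem_zpowers s₀) α) hibar hpow
  have hαo : Odd α := by
    by_contra hev
    obtain ⟨k, rfl⟩ := Nat.not_odd_iff_even.1 hev
    obtain ⟨c, hc⟩ := hsurj (s₀ ^ k)
    have h2 : c ^ 2 ∈ B.H := sq_mem_of_index_two B.index_H c
    obtain ⟨o, ho, e⟩ := B.fiber hker (c := iC) (z := c ^ 2)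
      (by rw [hiα, map_pow, hc, ← pow_mul, mul_two])
    refine B.i_not_mem ?_
    rcases e with e | e <;> rw [show F.i = _ from e]
    · exact mul_mem (mem_sup_left ho) (mem_subgroupOf.1 h2)
    · exact mul_mem (mem_sup_left ho) (mul_mem (mem_sup_right B.t_mem) (mem_subgroupOf.1 h2))
  -- the torus centralised by `i`
  obtain ⟨a, haL, haα, hφa⟩ := B.lift_exists hker hsurj hαo (τ := s₀ ^ 2)
    (by rw [← pow_mul, ← hα, pow_orderOf_eq_one])
  have hao : orderOf a = α := by
    refine Nat.dvd_antisymm (orderOf_dvd_of_pow_eq_one haα) ?_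
    have h := orderOf_map_dvd φ a
    rwa [hφa, orderOf_pow_of_dvd two_ne_zero ⟨α, hα⟩, hα, Nat.mul_div_cancel_left _ two_pos] at h
  have hai : Commute (a : G) F.i := by
    have h : iC * a * iC⁻¹ = a := B.lift_unique hker hαo (B.conj_mem_L i_centC haL) haL
      (by rw [conj_pow, haα, mul_one, mul_inv_cancel]) haα (by
        rw [map_mul, map_mul, map_inv, hiα, hφa, ← pow_add, add_comm, pow_add, mul_inv_cancel_right])
    exact (mul_inv_eq_iff_eq_mul.1 (congrArg Subtype.val h : F.i * (a : G) * F.i⁻¹ = a) : _).symm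
  set A := zpowers (a : G) with hAdef
  set W := closure ({F.t, F.i} : Set G) with hWdef
  have htW : F.t ∈ W := subset_closure (Or.inl rfl)
  have hiW : F.i ∈ W := subset_closure (Or.inr rfl)
  have hAi : ∀ y ∈ A, Commute y F.i := fun y hy => by
    obtain ⟨j, rfl⟩ := mem_zpowers_iff.1 hy; exact hai.zpow_left j
  have hAL : A ≤ B.L := zpowers_le.2 haL
  have hWi : ∀ w ∈ W, Commute w F.i := fun w hw => by
    have hle : W ≤ centralizer ({F.i} : Set G) := (closure_le _).2 (by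
      rintro x (rfl | rfl)
      · exact mem_centralizer_singleton_iff.2 (F.t_comm _ F.i_mem).eq.symm
      · exact mem_centralizer_singleton_iff.2 rfl)
    exact mem_centralizer_singleton_iff.1 (hle hw)
  -- the elements over the first torus
  have hpre₀ : ∀ c : centralizer ({F.t} : Set G), φ c ∈ zpowers s₀ →
      ∃ o ∈ B.O, ∃ y ∈ A, ∃ w ∈ W, (c : G) = o * y * w := by
    intro c hc
    obtain ⟨k, hk⟩ := mem_zpowers_iff.1 hc
    obtain ⟨j, hj | hj⟩ : ∃ j : ℤ, k = 2 * j ∨ k = 2 * j + α := by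
      rcases Int.even_or_odd' k with ⟨j, h | h⟩
      · exact ⟨j, Or.inl h⟩
      · obtain ⟨d, hd⟩ := hαo
        exact ⟨j - d, Or.inr (by subst hd; push_cast; omega)⟩
    · obtain ⟨o, ho, e | e⟩ := B.fiber hker (c := c) (z := a ^ j) (by
        rw [← hk, hj, map_zpow, hφa, ← zpow_natCast s₀ 2, ← _root_.zpow_mul]; norm_num)
      · exact ⟨o, ho, (a : G) ^ j, zpow_mem (mem_zpowers _) j, 1, one_mem _,
          by rw [e, Subgroup.coe_zpow, mul_one]⟩
      · refine ⟨o, ho, (a : G) ^ j, zpow_mem (mem_zpowers _) j, F.t, htW, ?_⟩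
        rw [e, Subgroup.coe_zpow, ((B.commute_L haL).symm.zpow_right j).eq, mul_assoc]
    · obtain ⟨o, ho, e | e⟩ := B.fiber hker (c := c) (z := a ^ j * iC) (by
        rw [← hk, hj, map_mul, hiα, map_zpow, hφa, ← zpow_natCast s₀ 2, ← _root_.zpow_mul,
          ← zpow_natCast s₀ α, ← _root_.zpow_add]; norm_num)
      · exact ⟨o, ho, (a : G) ^ j, zpow_mem (mem_zpowers _) j, F.i, hiW,
          by rw [e, Subgroup.coe_mul, Subgroup.coe_zpow, mul_assoc]⟩
      · refine ⟨o, ho, (a : G) ^ j, zpow_mem (mem_zpowers _) j, F.t * F.i, mul_mem htW hiW, ?_⟩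
        rw [e, Subgroup.coe_mul, Subgroup.coe_zpow, ← mul_assoc F.t,
          ((B.commute_L haL).symm.zpow_right j).eq]
        simp only [mul_assoc]
        rfl
  have hnoshift : ∀ c : centralizer ({F.t} : Set G), φ c ∈ zpowers s₀ →
      (c : G) * F.i * (c : G)⁻¹ ≠ F.t * F.i := by
    intro c hc he
    obtain ⟨o, ho, y, hy, w, hw, e⟩ := hpre₀ c hc
    refine B.not_shift ho i_centC ?_
    rw [← he, e]
    have hyw : Commute (y * w) F.i := (hAi y hy).mul_left (hWi w hw)
    calc o * F.i * o⁻¹ = o * ((y * w) * F.i * (y * w)⁻¹) * o⁻¹ := by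
          rw [hyw.eq, mul_inv_cancel_right]
      _ = o * y * w * F.i * (o * y * w)⁻¹ := by group
  have hiT : φ iC ∈ zpowers s₀ := hiT₀
  obtain ⟨hA1, -, hA3⟩ := PGL.torus_facts hodd h5 hibar hiT (by rw [ZMod.card]; exact hT₀c)
  -- the semidihedral Sylow subgroup
  obtain ⟨D, n, hn, hm, hcardP⟩ := CfsgLib.Invol.exists_qdData (hS.sd F.P)
  set m := D.m
  have hm2 : 2 ≤ m := D.two_le
  set rC : centralizer ({F.t} : Set G) := ⟨((D.x : (F.P : Subgroup G)) : G), P_le D.x.2⟩ with hrC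
  have hro : orderOf rC = 4 * m := by
    rw [← Subgroup.orderOf_coe, ← D.orderOf_x, ← Subgroup.orderOf_coe]
  set tC : centralizer ({F.t} : Set G) := ⟨F.t, t_centC⟩ with htC
  have hrt : rC ^ (2 * m) = tC := by
    refine Subtype.ext ?_
    rw [Subgroup.coe_pow]
    have htP : F.t ∈ (F.P : Subgroup G) := by
      obtain ⟨y, -, hy⟩ := mem_map.1 ((Subgroup.map_subtype_commutator (F.P : Subgroup G)).symm ▸ F.t_derived)
      exact hy ▸ y.2
    have hc : (⟨F.t, htP⟩ : (F.P : Subgroup G)) ∈ zpowers D.z := by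
      rw [← D.center_eq, mem_center_iff]
      exact fun v => Subtype.ext (F.t_comm v v.2).eq
    obtain ⟨j, hj⟩ := mem_zpowers_iff.1 hc
    have hz : D.z = D.x ^ (2 * m) := by
      rw [CfsgLib.Invol.QDData.z, ← zpow_natCast]; norm_cast
    rcases Int.even_or_odd' j with ⟨k, rfl | rfl⟩
    · exfalso
      rw [_root_.zpow_mul, show (2 : ℤ) = ((2 : ℕ) : ℤ) from rfl, zpow_natCast, pow_two,
        CfsgLib.Invol.invol_mul_self D.orderOf_z, _root_.one_zpow] at hj
      exact t_ne_one (congrArg Subtype.val hj).symm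
    · rw [_root_.zpow_add_one, _root_.zpow_mul, show (2 : ℤ) = ((2 : ℕ) : ℤ) from rfl, zpow_natCast,
        pow_two, CfsgLib.Invol.invol_mul_self D.orderOf_z, _root_.one_zpow, one_mul, hz] at hj
      exact (congrArg Subtype.val hj :)
  have htker : φ tC = 1 := (hker tC).2 (Or.inr ⟨1, one_mem _, (one_mul _).symm⟩)
  have hrm1 : (φ rC) ^ m ≠ 1 := by
    intro h
    rw [← map_pow] at h
    have h2 : (rC ^ m) * (rC ^ m) = tC := by rw [← pow_add, ← two_mul, hrt]
    have h2' := congrArg Subtype.val h2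
    rw [Subgroup.coe_mul] at h2'
    rcases (hker _).1 h with h' | ⟨o, ho, h'⟩
    · refine B.t_not_mem_O ?_
      rw [show F.t = _ from h2'.symm]
      exact mul_mem h' h'
    · rw [h', mul_assoc o, ← mul_assoc F.t o, (B.commute_O ho).symm.eq, mul_assoc o F.t, t_mul_t,
        mul_one] at h2'
      refine B.t_not_mem_O ?_
      rw [show F.t = _ from h2'.symm]
      exact mul_mem ho ho
  have hρ : orderOf (φ rC) = 2 * m := by
    rw [hm, ← pow_succ']
    refine orderOf_eq_prime_pow ?_ ?_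
    · rw [← hm]; exact hrm1
    · rw [pow_succ', ← hm, ← map_pow, hrt, htker]
  set z₁ := (φ rC) ^ m with hz₁
  have hz₁o : orderOf z₁ = 2 := by
    rw [hz₁, orderOf_pow_of_dvd (by omega) ⟨2, by rw [hρ, mul_comm]⟩, hρ, Nat.mul_div_cancel _ (by omega)]
  have hρ2 : φ rC * φ rC ≠ 1 := fun h => by
    have := Nat.le_of_dvd two_pos (orderOf_dvd_of_pow_eq_one (show φ rC ^ 2 = 1 by rw [pow_two]; exact h))
    omega
  obtain ⟨T₁, hT₁, hρT₁, hT₁c, hcent₁, -, -⟩ := CfsgLib.GW.PGL.exists_torus hodd hz₁o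
    ((Commute.refl (φ rC)).pow_right m) (fun h => hρ2 (by rw [h, mul_one]))
  rw [ZMod.card] at hT₁c
  set β := Nat.card T₁ with hβ
  obtain ⟨b, hb⟩ : 2 * m ∣ β := by rw [hβ, ← hρ]; exact Subgroup.orderOf_dvd_natCard _ hρT₁
  have hm4 : 4 ∣ 2 * m := by
    obtain ⟨k, hk⟩ := D.even_m
    exact ⟨k, by omega⟩
  have hβ4 : 4 ∣ β := hm4.trans ⟨b, hb⟩
  rw [hα] at hT₀c
  have hαβ : β = B.q + 1 ∧ 2 * α + 1 = B.q ∨ β + 1 = B.q ∧ 2 * α = B.q + 1 := by
    obtain ⟨d, hd⟩ := hαo
    obtain ⟨e, he⟩ := hβ4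
    rcases hT₀c with h | h <;> rcases hT₁c with h' | h' <;> omega
  have hprod : 2 * α * β = B.q ^ 2 - 1 := by
    rw [show B.q ^ 2 - 1 = (B.q + 1) * (B.q - 1) by rw [← Nat.sq_sub_sq, one_pow]]
    rcases hαβ with ⟨h1, h2⟩ | ⟨h1, h2⟩
    · rw [h1, show 2 * α = B.q - 1 by omega, mul_comm]
    · rw [h2, show β = B.q - 1 by omega]
  have hLcard : Nat.card B.L = B.q * (2 * α * β) := by rw [B.card_L, hprod]
  have hbo : Odd b := by
    by_contra hev
    obtain ⟨k, hk⟩ := Nat.not_odd_iff_even.1 hev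
    have hd : 2 ^ (n + 2) ∣ Nat.card G := by
      refine dvd_trans ?_ (Subgroup.card_subgroup_dvd_card (centralizer ({F.t} : Set G)))
      rw [B.card_centC, hLcard, hb, hk, hm, show n + 2 = n - 2 + 4 by omega, pow_add]
      exact ⟨Nat.card B.O * B.q * α * k, by ring⟩
    have h := Nat.le_of_dvd Nat.card_pos (F.P.pow_dvd_card_of_pow_dvd_card hd)
    rw [hcardP] at h
    have := Nat.pow_lt_pow_right (show 1 < 2 by norm_num) (show n + 1 < n + 2 by omega)
    omega
  have hb0 : 0 < b := hbo.pos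
  obtain ⟨σ₁, hσ₁⟩ := isCyclic_iff_exists_zpowers_eq_top.1 hT₁
  have hσ₁' : zpowers (σ₁ : PGL(2, ZMod B.q)) = T₁ := by
    have := congrArg (Subgroup.map T₁.subtype) hσ₁
    rwa [MonoidHom.map_zpowers, ← MonoidHom.range_eq_map, Subgroup.range_subtype] at this
  set s₁ := (σ₁ : PGL(2, ZMod B.q))
  have hs₁o : orderOf s₁ = 2 * m * b := by rw [← Nat.card_zpowers, hσ₁', ← hβ, hb]
  obtain ⟨x, hxL, hxb, hφx⟩ := B.lift_exists hker hsurj hbo (τ := s₁ ^ (2 * m))
    (by rw [← pow_mul, ← hs₁o, pow_orderOf_eq_one])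
  have hxo : orderOf x = b := by
    refine Nat.dvd_antisymm (orderOf_dvd_of_pow_eq_one hxb) ?_
    have h := orderOf_map_dvd φ x
    rwa [hφx, orderOf_pow_of_dvd (by omega) ⟨b, hs₁o⟩, hs₁o, Nat.mul_div_cancel_left _ (by omega)] at h
  have hxr : Commute x rC := by
    have h : rC * x * rC⁻¹ = x := B.lift_unique hker hbo (B.conj_mem_L (P_le D.x.2) hxL) hxL
      (by rw [conj_pow, hxb, mul_one, mul_inv_cancel]) hxb (by
        rw [map_mul, map_mul, map_inv, hφx, mul_inv_eq_iff_eq_mul]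
        obtain ⟨j, hj⟩ := mem_zpowers_iff.1 (show φ rC ∈ zpowers s₁ from hσ₁'.symm ▸ hρT₁)
        rw [← hj]
        exact (((Commute.refl s₁).pow_right (2 * m)).zpow_left j).eq)
    exact (mul_inv_eq_iff_eq_mul.1 h).symm
  have hcop : Nat.Coprime b (4 * m) := by
    rw [hm, show 4 * 2 ^ (n - 2) = 2 ^ (n - 2 + 2) by rw [pow_add]; ring]
    exact (Nat.coprime_two_right.2 hbo).pow_right _
  set ξ := x * rC with hξ
  have hξo : orderOf ξ = 2 * β := by
    rw [hξ, hxr.orderOf_mul_eq_mul_orderOf_of_coprime (by rw [hxo, hro]; exact hcop), hxo, hro, hb]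
    ring
  have hrξ : rC ∈ zpowers ξ := by
    obtain ⟨k, hk⟩ := exists_pow_eq_self_of_coprime (show Nat.Coprime b (orderOf rC) by rwa [hro])
    rw [← hk, show rC ^ b = ξ ^ b by rw [hξ, hxr.mul_pow, hxb, one_mul]]
    exact pow_mem (pow_mem (mem_zpowers ξ) b) k
  have hxξ : x ∈ zpowers ξ := by
    rw [show x = ξ * rC⁻¹ by rw [hξ, mul_inv_cancel_right]]
    exact mul_mem (mem_zpowers ξ) (inv_mem hrξ)
  set T := zpowers (ξ : G) with hTdef
  have hmemT : ∀ {y : centralizer ({F.t} : Set G)}, y ∈ zpowers ξ → (y : G) ∈ T := fun {y} hy => by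
    obtain ⟨j, rfl⟩ := mem_zpowers_iff.1 hy
    rw [Subgroup.coe_zpow]; exact zpow_mem (mem_zpowers _) j
  have hTC : T ≤ centralizer ({F.t} : Set G) := zpowers_le.2 ξ.2
  have hTmem : ∀ {y : G}, (hy : y ∈ T) → (⟨y, hTC hy⟩ : centralizer ({F.t} : Set G)) ∈ zpowers ξ :=
    fun {y} hy => by
    obtain ⟨j, hj⟩ := mem_zpowers_iff.1 hy
    exact mem_zpowers_iff.2 ⟨j, Subtype.ext (by rw [Subgroup.coe_zpow]; exact hj)⟩
  have htT : F.t ∈ T := hmemT (show tC ∈ zpowers ξ from hrt ▸ pow_mem hrξ _)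
  have hTcard : Nat.card T = 2 * β := by rw [hTdef, Nat.card_zpowers, Subgroup.orderOf_coe, hξo]
  have hφξ : orderOf (φ ξ) = β := by
    have h1 : φ x * φ rC = φ rC * φ x := by rw [← map_mul, ← map_mul, hxr.eq]
    rw [hξ, map_mul, Commute.orderOf_mul_eq_mul_orderOf_of_coprime h1]
    · rw [hφx, orderOf_pow_of_dvd (by omega) ⟨b, hs₁o⟩, hs₁o, Nat.mul_div_cancel_left _ (by omega),
        hρ, hb, mul_comm]
    · rw [hφx, orderOf_pow_of_dvd (by omega) ⟨b, hs₁o⟩, hs₁o, Nat.mul_div_cancel_left _ (by omega),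
        hρ]
      exact hcop.coprime_dvd_right (Dvd.intro 2 (by ring))
  have hT₁eq : zpowers (φ ξ) = T₁ := Subgroup.eq_of_le_of_card_ge (zpowers_le.2 (by
      rw [hξ, map_mul, hφx]
      exact mul_mem (hσ₁' ▸ pow_mem (mem_zpowers s₁) _) hρT₁))
    (le_of_eq (by rw [Nat.card_zpowers, hφξ]))
  have hz₁T : z₁ ∈ zpowers (φ ξ) := by rw [hT₁eq]; exact pow_mem hρT₁ m
  obtain ⟨hB1, hB2, hB3⟩ := PGL.torus_facts hodd h5 hz₁o hz₁T (by rw [hφξ, ZMod.card]; exact hT₁c)
  -- the elements over the second torus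
  have hpre₁ : ∀ c : centralizer ({F.t} : Set G), φ c ∈ zpowers (φ ξ) →
      ∃ o ∈ B.O, ∃ z ∈ T, (c : G) = o * z := by
    intro c hc
    obtain ⟨k, hk⟩ := mem_zpowers_iff.1 hc
    obtain ⟨o, ho, e | e⟩ := B.fiber hker (c := c) (z := ξ ^ k) (by rw [← hk, map_zpow])
    · exact ⟨o, ho, _, hmemT (zpow_mem (mem_zpowers ξ) k), e⟩
    · exact ⟨o, ho, _, mul_mem htT (hmemT (zpow_mem (mem_zpowers ξ) k)), e⟩
  have hOT : ∀ y ∈ T, y ∈ B.O → y = 1 := fun y hy hyO => by
    rw [← orderOf_eq_one_iff]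
    refine Nat.eq_one_of_dvd_coprimes (a := 2 * Nat.card B.L) (b := Nat.card B.O)
      ((Nat.coprime_two_left.2 B.O_odd).mul_left B.coprime.symm) ?_
      (Subgroup.orderOf_dvd_natCard _ hyO)
    refine dvd_trans (hTcard ▸ Subgroup.orderOf_dvd_natCard _ hy) ?_
    rw [hLcard]
    exact ⟨B.q * (2 * α), by ring⟩
  -- an element of the Sylow subgroup inverting the rotations
  set wC : centralizer ({F.t} : Set G) := ⟨((D.y : (F.P : Subgroup G)) : G), P_le D.y.2⟩ with hwC
  have hwr : wC * rC * wC⁻¹ = rC ^ (2 * (m : ℤ) - 1) := by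
    refine Subtype.ext ?_
    have h : ((D.y * D.x * D.y⁻¹ : (F.P : Subgroup G)) : G) =
        ((D.x ^ (2 * (m : ℤ) - 1) : (F.P : Subgroup G)) : G) := congrArg Subtype.val D.conj_x
    simpa using h
  have hrm : wC * rC ^ m * wC⁻¹ = rC ^ m * tC := by
    obtain ⟨k, hk⟩ := D.even_m
    rw [← zpow_natCast rC m, CfsgLib.Invol.conj_zpow_eq, hwr, ← hrt, ← zpow_natCast rC (2 * m), ← _root_.zpow_mul,
      ← _root_.zpow_add, zpow_eq_zpow_iff_modEq, Int.modEq_iff_dvd, hro]
    exact ⟨(1 : ℤ) - k, by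
      have hk' : (m : ℤ) = k + k := by exact_mod_cast hk
      push_cast; rw [hk']; ring⟩
  have hwz : Commute (φ wC) z₁ := by
    have h := congrArg φ hrm
    rw [map_mul, map_mul, map_inv, map_mul, htker, mul_one, map_pow, ← hz₁] at h
    exact mul_inv_eq_iff_eq_mul.1 h
  have hwT : φ wC ∉ zpowers (φ ξ) := by
    intro hw
    have hc : Commute (φ wC) (φ rC) := by
      obtain ⟨i, hi⟩ := mem_zpowers_iff.1 hw
      obtain ⟨j, hj⟩ := mem_zpowers_iff.1 (show φ rC ∈ zpowers (φ ξ) from hT₁eq.symm ▸ hρT₁)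
      rw [← hi, ← hj]; exact (Commute.refl _).zpow_zpow i j
    have h := congrArg φ hwr
    rw [map_mul, map_mul, map_inv, hc.eq, mul_inv_cancel_right, map_zpow] at h
    nth_rewrite 1 [← zpow_one (φ rC)] at h
    rw [zpow_eq_zpow_iff_modEq, Int.modEq_iff_dvd, hρ] at h
    push_cast at h
    obtain ⟨k, hk⟩ := h
    have h2 : (2 : ℤ) * m ∣ 2 := ⟨1 - k, by linarith⟩
    have := Int.le_of_dvd two_pos h2
    omega
  refine ⟨{
    q := B.q, α := α, β := β, q_prime := Fact.out, five_le := hq5, αβ := hαβ, α_odd := hαo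
    q_dvd := (dvd_mul_right _ _).trans (hLcard ▸ Subgroup.card_subgroup_dvd_card B.L)
    O := B.O, A := A, T := T
    O_le := B.O_le, A_le := hAL.trans B.L_le, T_le := hTC
    O_norm := B.O_norm, O_odd := B.O_odd
    O_coprime := by rw [← pow_two, ← B.card_L]; exact B.coprime
    A_card := by rw [hAdef, Nat.card_zpowers, Subgroup.orderOf_coe, hao]
    A_cyclic := isCyclic_zpowers _
    A_i := hAi
    O_A := fun o ho y hy => B.comm o ho y (hAL hy)
    O_T := ?_
    O_fix := ?_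
    cent_i := ?_
    cent_A := ?_
    t_T := htT, T_card := hTcard, T_cyclic := isCyclic_zpowers _
    T_norm := ?_
    cent_T := ?_
    norm_T := ?_ }⟩
  · -- odd elements of the second torus lie in `L`
    intro o ho y hy hyo
    obtain ⟨k, hk⟩ := mem_zpowers_iff.1 (hTmem hy)
    refine B.comm o ho y ?_
    have hrk : rC ^ k = 1 := by
      have h1 : (x ^ k * rC ^ k) ^ orderOf y = 1 := by
        rw [← (hxr).mul_zpow, ← hξ, hk]
        exact Subtype.ext (pow_orderOf_eq_one y)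
      rw [((hxr.zpow_left k).zpow_right k).mul_pow, mul_eq_one_iff_eq_inv] at h1
      have h2 : orderOf ((rC ^ k) ^ orderOf y) = 1 := Nat.eq_one_of_dvd_coprimes hcop
        (by
          rw [← orderOf_inv, ← h1, ← hxo]
          exact (orderOf_pow_dvd _).trans (orderOf_zpow_dvd' _ _))
        (by
          rw [← hro]
          exact (orderOf_pow_dvd _).trans (orderOf_zpow_dvd' _ _))
      rw [← orderOf_eq_one_iff]
      refine Nat.eq_one_of_dvd_coprimes (a := 2 ^ n) (b := orderOf y)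
        ((Nat.coprime_two_left.2 hyo).pow_left n) ?_ (orderOf_dvd_of_pow_eq_one (orderOf_eq_one_iff.1 h2))
      refine (orderOf_zpow_dvd' _ _).trans ?_
      rw [hro, hm, show (4 : ℕ) = 2 ^ 2 from rfl, ← pow_add, show 2 + (n - 2) = n by omega]
    have e : x ^ k = (⟨y, hTC hy⟩ : centralizer ({F.t} : Set G)) := by
      rw [← hk, hξ, hxr.mul_zpow, hrk, mul_one]
    rw [show y = ((x ^ k : centralizer ({F.t} : Set G)) : G) by rw [e], Subgroup.coe_zpow]
    exact zpow_mem hxL k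
  · -- the fixed points of `i` on `O`
    intro o ho hoi y hy
    have hyk : ∀ {w : G}, w ∈ (F.P : Subgroup G) → w ∈ B.O ⊔ B.L → Commute o w := fun {w} hw hwS => by
      obtain ⟨k, hk⟩ := F.P.2 ⟨w, hw⟩
      exact B.comm o ho w (B.mem_L_of_two hwS (congrArg Subtype.val hk :))
    by_cases hyS : y ∈ B.O ⊔ B.L
    · exact hyk hy hyS
    · have hyi : y * F.i ∈ B.O ⊔ B.L := by
        obtain ⟨o', ho', l, hl, h | h⟩ := B.decomp y (F.t_comm y hy)
        · exact absurd (h ▸ mul_mem (mem_sup_left ho') (mem_sup_right hl)) hyS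
        · rw [h, mul_assoc (o' * l), hmul1, mul_one]
          exact mul_mem (mem_sup_left ho') (mem_sup_right hl)
      have := (hyk (mul_mem hy F.i_mem) hyi).mul_right hoi
      rwa [mul_assoc, hmul1, mul_one] at this
  · -- the centralizer of `i`
    intro c hct hci
    set cC : centralizer ({F.t} : Set G) := ⟨c, mem_centralizer_singleton_iff.2 hct.eq⟩
    have hcz : Commute (φ cC) (φ iC) := by
      show φ cC * φ iC = φ iC * φ cC
      rw [← map_mul, ← map_mul, show cC * iC = iC * cC from Subtype.ext hci.eq]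
    have hcT : φ cC ∈ zpowers s₀ := by
      by_contra hn'
      set vC : centralizer ({F.t} : Set G) := ⟨F.v, P_le F.v_mem⟩
      have hvz : Commute (φ vC) (φ iC) := by
        have h : vC * iC * vC⁻¹ = tC * iC := Subtype.ext F.v_i
        have h' := congrArg φ h
        rw [map_mul, map_mul, map_inv, map_mul, htker, one_mul] at h'
        exact mul_inv_eq_iff_eq_mul.1 h'
      have hvT : φ vC ∉ zpowers s₀ := fun h => hnoshift vC h F.v_i
      have h := hA3 (φ cC) (φ vC) hcz hvz hn' hvT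
      rw [← map_mul] at h
      refine hnoshift _ h ?_
      show F.v * c * F.i * (F.v * c)⁻¹ = _
      rw [← F.v_i]
      calc F.v * c * F.i * (F.v * c)⁻¹ = F.v * (c * F.i * c⁻¹) * F.v⁻¹ := by group
        _ = _ := by rw [hci.eq, mul_inv_cancel_right]
    obtain ⟨o, ho, y, hy, w, hw, e⟩ := hpre₀ cC hcT
    refine ⟨o, ho, ?_, y, hy, w, hw, e⟩
    have h : Commute (c * (y * w)⁻¹) F.i := hci.mul_left ((hAi y hy).mul_left (hWi w hw)).inv_left
    rwa [show c = o * y * w from e, mul_assoc o, mul_inv_cancel_right] at h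
  · -- the centralizer of an element of `A`
    intro y hy hy1 c hct hcy
    set cC : centralizer ({F.t} : Set G) := ⟨c, mem_centralizer_singleton_iff.2 hct.eq⟩
    set yC : centralizer ({F.t} : Set G) := ⟨y, B.L_le (hAL hy)⟩
    have hyT : φ yC ∈ zpowers s₀ := by
      obtain ⟨j, hj⟩ := mem_zpowers_iff.1 hy
      rw [show yC = a ^ j from Subtype.ext (by rw [Subgroup.coe_zpow, hj]), map_zpow, hφa]
      exact zpow_mem (pow_mem (mem_zpowers s₀) 2) j
    have hyα : yC ^ α = 1 := Subtype.ext (by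
      show y ^ α = 1
      rw [← hao, ← Subgroup.orderOf_coe, ← Nat.card_zpowers]
      exact congrArg Subtype.val (pow_card_eq_one' (x := (⟨y, hy⟩ : A))))
    have hyy : φ yC * φ yC ≠ 1 := fun h => hy1 (by
      have h1 : φ yC = 1 := by
        rw [← orderOf_eq_one_iff]
        exact Nat.eq_one_of_dvd_coprimes (Nat.coprime_two_left.2 hαo)
          (orderOf_dvd_of_pow_eq_one (show φ yC ^ 2 = 1 by rw [pow_two]; exact h))
          (orderOf_dvd_of_pow_eq_one (by rw [← map_pow, hyα, map_one]))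
      exact congrArg Subtype.val (B.lift_unique hker hαo (x := yC) (y := 1) (hAL hy) (one_mem _) hyα
        (one_pow _) (by rw [h1, map_one])))
    have hcyC : Commute (φ cC) (φ yC) := by
      show φ cC * φ yC = φ yC * φ cC
      rw [← map_mul, ← map_mul, show cC * yC = yC * cC from Subtype.ext hcy.eq]
    exact hpre₀ cC (hA1 _ hyT hyy _ hcyC)
  · -- normalised by the Sylow subgroup
    intro p hp
    have hpC := P_le hp
    set pC : centralizer ({F.t} : Set G) := ⟨p, hpC⟩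
    haveI hXn : (zpowers D.x).Normal := normal_of_index_eq_two D.index_zpowers
    obtain ⟨j, hj⟩ := mem_zpowers_iff.1 (hXn.conj_mem D.x (mem_zpowers _) ⟨p, hp⟩)
    have hpr : pC * rC * pC⁻¹ = rC ^ j := Subtype.ext (by
      have h := congrArg Subtype.val hj
      simpa using h.symm)
    obtain ⟨k, hk⟩ := mem_zpowers_iff.1 (show rC ∈ zpowers (pC * rC * pC⁻¹) by
      have : zpowers (pC * rC * pC⁻¹) = zpowers rC := Subgroup.eq_of_le_of_card_ge
        (zpowers_le.2 (hpr ▸ zpow_mem (mem_zpowers rC) j)) (by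
          rw [Nat.card_zpowers, Nat.card_zpowers, CfsgLib.Invol.orderOf_conj_eq])
      rw [this]; exact mem_zpowers rC)
    have hcm : Commute (φ (pC * x * pC⁻¹)) (φ rC) := by
      show φ (pC * x * pC⁻¹) * φ rC = φ rC * φ (pC * x * pC⁻¹)
      rw [← map_mul, ← map_mul]
      refine congrArg φ ?_
      rw [← hk]
      exact ((show Commute (pC * x * pC⁻¹) (pC * rC * pC⁻¹) by
        show _ * _ = _ * _
        simp only [mul_assoc, inv_mul_cancel_left]
        rw [← mul_assoc x, hxr.eq, mul_assoc rC]).zpow_right k).eq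
    obtain ⟨l, hl⟩ := mem_zpowers_iff.1 (show φ (pC * x * pC⁻¹) ∈ zpowers s₁ by
      rw [hσ₁']; exact hcent₁ hρ2 (mem_centralizer_singleton_iff.2 hcm.eq))
    have hpb : (pC * x * pC⁻¹) ^ b = 1 := by rw [conj_pow, hxb, mul_one, mul_inv_cancel]
    obtain ⟨c', hc'⟩ : ((2 * m : ℕ) : ℤ) ∣ l := by
      have h := congrArg (fun v : PGL(2, ZMod B.q) => v ^ b) hl
      replace h : (s₁ ^ l) ^ b = φ (pC * x * pC⁻¹) ^ b := h
      rw [← map_pow, hpb, map_one, ← zpow_natCast, ← _root_.zpow_mul, ← orderOf_dvd_iff_zpow_eq_one,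
        hs₁o, Nat.cast_mul] at h
      exact Int.dvd_of_mul_dvd_mul_right (by omega) h
    have hpx : pC * x * pC⁻¹ = x ^ c' := B.lift_unique hker hbo (B.conj_mem_L hpC hxL)
      (by rw [Subgroup.coe_zpow]; exact zpow_mem hxL c') hpb
      (by rw [← zpow_natCast, ← _root_.zpow_mul, mul_comm, _root_.zpow_mul, zpow_natCast, hxb,
        _root_.one_zpow])
      (by rw [map_zpow, hφx, ← hl, ← zpow_natCast s₁ (2 * m), ← _root_.zpow_mul, hc'])
    refine CfsgLib.Invol.mem_normalizer_iff_of_finite fun y hy => ?_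
    obtain ⟨d, hd⟩ := mem_zpowers_iff.1 (hTmem hy)
    have hconj : pC * ξ * pC⁻¹ ∈ zpowers ξ := by
      rw [show pC * ξ * pC⁻¹ = (pC * x * pC⁻¹) * (pC * rC * pC⁻¹) by rw [hξ]; group, hpx, hpr]
      exact mul_mem (zpow_mem hxξ c') (zpow_mem hrξ j)
    have h := hmemT (show pC * ξ ^ d * pC⁻¹ ∈ zpowers ξ by
      rw [CfsgLib.Invol.conj_zpow_eq]; exact zpow_mem hconj d)
    rw [hd] at h
    exact h
  · -- the centralizer of an element of the second torus
    intro y hy hy1 hyt c hct hcy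
    set cC : centralizer ({F.t} : Set G) := ⟨c, mem_centralizer_singleton_iff.2 hct.eq⟩
    set yC : centralizer ({F.t} : Set G) := ⟨y, hTC hy⟩
    have hyT : φ yC ∈ zpowers (φ ξ) := by
      obtain ⟨j, hj⟩ := mem_zpowers_iff.1 (hTmem hy)
      rw [show yC = ξ ^ j from hj.symm, map_zpow]
      exact zpow_mem (mem_zpowers _) j
    have hcyC : Commute (φ cC) (φ yC) := by
      show φ cC * φ yC = φ yC * φ cC
      rw [← map_mul, ← map_mul, show cC * yC = yC * cC from Subtype.ext hcy.eq]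
    by_cases hyy : φ yC * φ yC = 1
    · have hφy1 : φ yC ≠ 1 := fun h => by
        rcases (hker yC).1 h with h' | ⟨o, ho, h'⟩
        · exact hy1 (hOT y hy h')
        · have ho1 : o = 1 := hOT o (by
            rw [show o = y * F.t⁻¹ by rw [show y = o * F.t from h', mul_inv_cancel_right]]
            exact mul_mem hy (inv_mem htT)) ho
          exact hyt (by rw [show y = o * F.t from h', ho1, one_mul])
      have hyz : φ yC = z₁ := CfsgLib.GW.PGL.invol_unique (isCyclic_zpowers _) hyT hz₁T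
        (CfsgLib.Invol.invol_of_mul_self hyy hφy1) hz₁o
      by_contra hgoal
      have hcn : φ cC ∉ zpowers (φ ξ) := fun h => hgoal (hpre₁ cC h)
      have h := hB3 (φ cC) (φ wC) (hyz ▸ hcyC) hwz hcn hwT
      rw [← map_mul] at h
      obtain ⟨o, ho, z, hz, e⟩ := hpre₁ _ h
      -- `y` and its conjugate differ by `t`
      have hyw : wC * yC * wC⁻¹ = tC * yC := by
        obtain ⟨o', ho', e' | e'⟩ := B.fiber hker (c := yC) (z := rC ^ m)
          (by rw [hyz, map_pow])
        · have ho1 : o' = 1 := hOT o' (by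
            rw [show o' = y * ((rC ^ m : centralizer ({F.t} : Set G)) : G)⁻¹ by
              rw [show y = _ from e', mul_inv_cancel_right]]
            exact mul_mem hy (inv_mem (hmemT (pow_mem hrξ m)))) ho'
          have e2 : yC = rC ^ m := Subtype.ext (by rw [e', ho1, one_mul])
          rw [e2, hrm, ← hrt]
          exact ((Commute.refl rC).pow_pow m (2 * m)).eq
        · have ho1 : o' = 1 := hOT o' (by
            rw [show o' = y * (F.t * ((rC ^ m : centralizer ({F.t} : Set G)) : G))⁻¹ by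
              rw [show y = _ from e', mul_inv_cancel_right]]
            exact mul_mem hy (inv_mem (mul_mem htT (hmemT (pow_mem hrξ m))))) ho'
          have e2 : yC = tC * rC ^ m := Subtype.ext (by rw [e', ho1, one_mul]; rfl)
          have htr : Commute tC (rC ^ m) := by rw [← hrt]; exact (Commute.refl rC).pow_pow _ _
          have htw : wC * tC * wC⁻¹ = tC := Subtype.ext (by
            show (wC : G) * F.t * (wC : G)⁻¹ = F.t
            rw [show (wC : G) * F.t = F.t * (wC : G) from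
              mem_centralizer_singleton_iff.1 wC.2, mul_inv_cancel_right])
          rw [e2, show wC * (tC * rC ^ m) * wC⁻¹ = (wC * tC * wC⁻¹) * (wC * rC ^ m * wC⁻¹) by group,
            htw, hrm, htr.eq]
      refine B.not_shift ho (hTC hy) ?_
      have h1 := congrArg Subtype.val hyw
      simp only [Subgroup.coe_mul, Subgroup.coe_inv] at h1
      have hzy : Commute z y := by
        obtain ⟨i', rfl⟩ := mem_zpowers_iff.1 hz
        obtain ⟨j', rfl⟩ := mem_zpowers_iff.1 hy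
        exact (Commute.refl _).zpow_zpow i' j'
      calc o * y * o⁻¹ = o * (z * y * z⁻¹) * o⁻¹ := by rw [hzy.eq, mul_inv_cancel_right]
        _ = (o * z) * y * (o * z)⁻¹ := by group
        _ = ((wC : G) * c) * y * ((wC : G) * c)⁻¹ := by
          rw [← show (wC : G) * c = o * z from e]
        _ = (wC : G) * (c * y * c⁻¹) * (wC : G)⁻¹ := by group
        _ = F.t * y := by rw [hcy.eq, mul_inv_cancel_right]; exact h1
    · exact hpre₁ cC (hB1 _ hyT hyy _ hcyC)
  · -- the order of the normaliser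
    have hmem : ∀ g : (normalizer (T : Set G) ⊓ centralizer ({F.t} : Set G) : Subgroup G),
        ∃ p : Bool × B.O × T, (g : G) = cond p.1 1 (wC : G)⁻¹ * ((p.2.1 : G) * (p.2.2 : G)) := by
      rintro ⟨g, hgN, hgC⟩
      set gC : centralizer ({F.t} : Set G) := ⟨g, hgC⟩
      have hgz : Commute (φ gC) z₁ := by
        have hr' : g * ((rC ^ m : centralizer ({F.t} : Set G)) : G) * g⁻¹ ∈ T :=
          (mem_normalizer_iff.1 hgN _).1 (hmemT (pow_mem hrξ m))
        obtain ⟨j, hj⟩ := mem_zpowers_iff.1 (hTmem hr')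
        have h1 : φ (gC * rC ^ m * gC⁻¹) ∈ zpowers (φ ξ) := by
          rw [show gC * rC ^ m * gC⁻¹ = ξ ^ j from Subtype.ext (congrArg Subtype.val hj.symm), map_zpow]
          exact zpow_mem (mem_zpowers _) j
        rw [map_mul φ (gC * rC ^ m), map_mul φ gC, map_inv, map_pow, ← hz₁] at h1
        exact mul_inv_eq_iff_eq_mul.1 (CfsgLib.GW.PGL.invol_unique (isCyclic_zpowers _) h1 hz₁T
          (by rw [CfsgLib.Invol.orderOf_conj_eq, hz₁o]) hz₁o)
      by_cases hg : φ gC ∈ zpowers (φ ξ)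
      · obtain ⟨o, ho, z, hz, e⟩ := hpre₁ gC hg
        exact ⟨(true, ⟨o, ho⟩, ⟨z, hz⟩), by rw [Bool.cond_true, one_mul]; exact e⟩
      · have h := hB3 (φ gC) (φ wC) hgz hwz hg hwT
        rw [← map_mul] at h
        obtain ⟨o, ho, z, hz, e⟩ := hpre₁ _ h
        refine ⟨(false, ⟨o, ho⟩, ⟨z, hz⟩), ?_⟩
        rw [Bool.cond_false, ← show (wC : G) * g = o * z from e, inv_mul_cancel_left]
    choose p hp using hmem
    refine (Nat.card_le_card_of_injective p fun g g' h => Subtype.ext (by rw [hp g, hp g', h])).trans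
      (le_of_eq ?_)
    rw [Nat.card_prod, Nat.card_prod, hTcard, Nat.card_eq_fintype_card (α := Bool), Fintype.card_bool]
    ring

end Big

end CfsgLib.S4069
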