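import Cfsg.Agent.Lib.S4069.Frame
import Cfsg.Agent.Lib.S4069.Cases
import Cfsg.Agent.Lib.S4069.Three
import Cfsg.Agent.Lib.S4069.Tori
import Cfsg.Agent.Lib.S4069.Final

/-!
# The semidihedral configuration does not exist
-/

set_option autoImplicit false

namespace CfsgLib.S4069

universe u

/-- A simple group with semidihedral Sylow 2-subgroups, cyclic odd Sylow subgroups and known proper
subgroups does not exist. -/
theorem sd_false {G : Type u} [Group G] [Finite G] (hS : SDMin G) : False := by
  obtain ⟨F⟩ := exists_frame hS
  rcases three_or_big hS F with h | ⟨⟨B⟩⟩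
  · exact three_false hS F h
  · obtain ⟨T⟩ := B.exists_tori hS
    exact T.false hS

end CfsgLib.S4069
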