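import Cfsg.Agent.Lib.S4069.Defs
import Cfsg.Agent.Lib.Invol.QuasiDihedral
import Cfsg.Agent.Lib.Recog.ABProd.Ident
import Cfsg.Agent.Lib.Recog.GW.CoverSL
import Cfsg.Agent.Lib.Amalgam.PushMinPerm
import Cfsg.Agent.Lib.Coprime.Basic

/-!
The map of the involution centralizer `(O × L) ⟨i⟩` onto `PGL(2, q)`.
-/

set_option autoImplicit false
set_option linter.unusedSectionVars false
set_option linter.style.haveILetI false

namespace CfsgLib.S4069

open Subgroup Matrix
open scoped MatrixGroups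

universe u

/-- Automorphisms modulo the centre. -/
noncomputable def autModCenter (S : Type*) [Group S] : MulAut S →* MulAut (S ⧸ center S) where
  toFun f := QuotientGroup.congr (center S) (center S) f
    (Subgroup.characteristic_iff_map_eq.1 inferInstance f)
  map_one' := MulEquiv.ext fun x => by
    obtain ⟨s, rfl⟩ := QuotientGroup.mk_surjective x
    rfl
  map_mul' f g := MulEquiv.ext fun x => by
    obtain ⟨s, rfl⟩ := QuotientGroup.mk_surjective x
    rfl

/-- An automorphism of a perfect group trivial modulo the centre is trivial. -/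
theorem eq_one_of_autModCenter {S : Type*} [Group S] (hperf : commutator S = ⊤) {f : MulAut S}
    (h : autModCenter S f = 1) : f = 1 := by
  have hc : ∀ s, s⁻¹ * f s ∈ center S := fun s =>
    QuotientGroup.eq.1 (DFunLike.congr_fun h (s : S ⧸ center S)).symm
  have hcomm : ∀ x y : center S, x * y = y * x := fun x y =>
    Subtype.ext (mem_center_iff.1 y.2 (x : S))
  let χ : S →* center S := MonoidHom.mk' (fun s => ⟨s⁻¹ * f s, hc s⟩) fun a b => Subtype.ext (by
    show (a * b)⁻¹ * f (a * b) = a⁻¹ * f a * (b⁻¹ * f b)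
    rw [map_mul, _root_.mul_inv_rev, mul_assoc, ← mul_assoc a⁻¹, ← mul_assoc,
      mem_center_iff.1 (hc a) b⁻¹, mul_assoc])
  refine MulEquiv.ext fun s => ?_
  have hs : s ∈ commutator S := hperf ▸ mem_top s
  have hle : commutator S ≤ χ.ker := by
    rw [commutator_eq_closure, closure_le]
    rintro _ ⟨a, b, rfl⟩
    rw [SetLike.mem_coe, MonoidHom.mem_ker, map_commutatorElement]
    exact commutatorElement_eq_one_iff_commute.2 (hcomm _ _)
  exact (inv_mul_eq_one.1 (congrArg Subtype.val (hle hs))).symm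

/-- A central element of `SL(2, F)` has order dividing two. -/
theorem center_sl_two_sq {F : Type*} [Field F] {s : SL(2, F)} (hs : s ∈ center SL(2, F)) :
    s * s = 1 := by
  obtain ⟨r, hr, e⟩ := Matrix.SpecialLinearGroup.mem_center_iff.1 hs
  refine Subtype.ext ?_
  rw [Matrix.SpecialLinearGroup.coe_mul, ← e, ← map_mul]
  rw [Fintype.card_fin, sq] at hr
  rw [hr, map_one, Matrix.SpecialLinearGroup.coe_one]

namespace Big

variable {G : Type u} [Group G] [Finite G] {F : Frame G} (B : Big F)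

theorem t_centC : F.t ∈ centralizer ({F.t} : Set G) := mem_centralizer_singleton_iff.2 rfl

theorem commute_L {l : G} (hl : l ∈ B.L) : Commute l F.t :=
  mem_centralizer_singleton_iff.1 (B.L_le hl)

theorem commute_O {o : G} (ho : o ∈ B.O) : Commute o F.t :=
  mem_centralizer_singleton_iff.1 (B.O_le ho)

theorem card_L : Nat.card B.L = B.q * (B.q ^ 2 - 1) := by
  obtain ⟨e⟩ := B.iso
  rw [Nat.card_congr e.toEquiv, CfsgLib.Classical.card_sl_two_eq, ZMod.card]

theorem t_ne_one : F.t ≠ 1 := fun h => by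
  have := F.t_two
  rw [h, orderOf_one] at this
  omega

theorem inf_eq_bot {x : G} (ho : x ∈ B.O) (hl : x ∈ B.L) : x = 1 :=
  Subgroup.mem_bot.1 (CfsgLib.Coprime.inf_eq_bot_of_coprime B.coprime ▸ mem_inf.2 ⟨ho, hl⟩)

theorem t_not_mem_O : F.t ∉ B.O := fun h => t_ne_one (B.inf_eq_bot h B.t_mem)

/-- The unique involution of `L`. -/
theorem invol_L {l : G} (hl : l ∈ B.L) (h : l * l = 1) : l = 1 ∨ l = F.t := by
  obtain ⟨e⟩ := B.iso
  by_cases h1 : l = 1
  · exact Or.inl h1
  right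
  have h2 : (2 : ZMod B.q) ≠ 0 := fun h0 => by
    have h' : ((2 : ℕ) : ZMod B.q) = 0 := by exact_mod_cast h0
    rw [ZMod.natCast_eq_zero_iff] at h'
    have := Nat.le_of_dvd two_pos h'
    have := B.five_le
    omega
  have hm : ∀ {y : B.L}, (y : G) * y = 1 → e y ^ 2 = 1 := fun {y} hy => by
    rw [← map_pow, pow_two, show y * y = 1 from Subtype.ext hy, map_one]
  have hn : ∀ {y : B.L}, (y : G) ≠ 1 → e y ≠ 1 := fun {y} hy he =>
    hy (congrArg Subtype.val (e.injective (he.trans (map_one e).symm)))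
  exact congrArg Subtype.val (e.injective (CfsgLib.Amalgam.PushMin.sl_two_invol_unique h2
    (hm (y := ⟨l, hl⟩) h) (hn (y := ⟨l, hl⟩) h1) (hm (y := ⟨F.t, B.t_mem⟩)
      (by rw [← pow_two, ← F.t_two, pow_orderOf_eq_one])) (hn (y := ⟨F.t, B.t_mem⟩) t_ne_one)))

theorem center_L {l : G} (hl : l ∈ B.L) (hc : ∀ y ∈ B.L, Commute l y) : l = 1 ∨ l = F.t := by
  obtain ⟨e⟩ := B.iso
  have h : e ⟨l, hl⟩ ∈ center SL(2, ZMod B.q) := mem_center_iff.2 fun s => by
    obtain ⟨y, rfl⟩ := e.surjective s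
    rw [← map_mul, ← map_mul]
    exact congrArg e (Subtype.ext (hc y y.2).eq.symm)
  have h' : (⟨l, hl⟩ : B.L) * ⟨l, hl⟩ = 1 := e.injective (by
    rw [map_mul, map_one]; exact center_sl_two_sq h)
  exact B.invol_L hl (congrArg Subtype.val h')

theorem O_norm_L : B.L ≤ normalizer (B.O : Set G) := B.L_le.trans B.O_norm

theorem mem_sup {x : G} : x ∈ B.O ⊔ B.L ↔ ∃ o ∈ B.O, ∃ l ∈ B.L, o * l = x :=
  CfsgLib.Coprime.mem_sup_of_le_normalizer B.O_norm_L

/-- The index-two subgroup `O × L` of the centralizer. -/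
def H : Subgroup (centralizer ({F.t} : Set G)) := (B.O ⊔ B.L).subgroupOf _

theorem card_sup : Nat.card (B.O ⊔ B.L : Subgroup G) = Nat.card B.O * Nat.card B.L := by
  rw [← Nat.card_prod]
  refine (Nat.card_eq_of_bijective (fun p : B.O × B.L => (⟨(p.1 : G) * p.2,
    mul_mem (mem_sup_left p.1.2) (mem_sup_right p.2.2)⟩ : (B.O ⊔ B.L : Subgroup G))) ⟨?_, ?_⟩).symm
  · rintro ⟨o, l⟩ ⟨o', l'⟩ h
    have h' : (o : G) * l = o' * l' := congrArg Subtype.val h
    have e : (o' : G)⁻¹ * o = l' * (l : G)⁻¹ := by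
      rw [eq_mul_inv_iff_mul_eq, mul_assoc, h', inv_mul_cancel_left]
    have h1 : (o' : G)⁻¹ * o = 1 := B.inf_eq_bot (mul_mem (inv_mem o'.2) o.2)
      (e ▸ mul_mem l'.2 (inv_mem l.2))
    rw [h1] at e
    exact Prod.ext (Subtype.ext (inv_mul_eq_one.1 h1).symm)
      (Subtype.ext (mul_inv_eq_one.1 e.symm).symm)
  · rintro ⟨x, hx⟩
    obtain ⟨o, ho, l, hl, rfl⟩ := B.mem_sup.1 hx
    exact ⟨(⟨o, ho⟩, ⟨l, hl⟩), rfl⟩

theorem i_centC : F.i ∈ centralizer ({F.t} : Set G) :=
  mem_centralizer_singleton_iff.2 (F.t_comm _ F.i_mem).eq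

theorem sup_le_centC : B.O ⊔ B.L ≤ centralizer ({F.t} : Set G) := sup_le B.O_le B.L_le

theorem index_H : B.H.index = 2 := by
  refine index_eq_two_iff.2 ⟨⟨F.i, i_centC⟩, fun c => ?_⟩
  simp only [H, mem_subgroupOf, Subgroup.coe_mul]
  obtain ⟨o, ho, l, hl, h | h⟩ := B.decomp c (mem_centralizer_singleton_iff.1 c.2)
  · refine Or.inr ⟨?_, fun h' => B.i_not_mem ?_⟩
    · rw [h]; exact mul_mem (mem_sup_left ho) (mem_sup_right hl)
    · have hc : (c : G) ∈ B.O ⊔ B.L := h ▸ mul_mem (mem_sup_left ho) (mem_sup_right hl)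
      exact (mul_mem_cancel_left hc).1 h'
  · refine Or.inl ⟨?_, fun h' => B.i_not_mem ?_⟩
    · rw [h, mul_assoc (o * l)]
      rw [show F.i * F.i = 1 by rw [← pow_two, ← F.i_two, pow_orderOf_eq_one], mul_one]
      exact mul_mem (mem_sup_left ho) (mem_sup_right hl)
    · rw [h] at h'
      exact (mul_mem_cancel_left (mul_mem (mem_sup_left ho) (mem_sup_right hl))).1 h'

theorem card_centC : Nat.card (centralizer ({F.t} : Set G)) = 2 * (Nat.card B.O * Nat.card B.L) := by
  rw [← B.H.card_mul_index, B.index_H, mul_comm, ← B.card_sup]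
  congr 1
  exact Nat.card_congr (subgroupOfEquivOfLe B.sup_le_centC).toEquiv

theorem P_le : (F.P : Subgroup G) ≤ centralizer ({F.t} : Set G) := fun x hx =>
  mem_centralizer_singleton_iff.2 (F.t_comm x hx).eq

/-- A two-element of `O × L` lies in `L`. -/
theorem mem_L_of_two {x : G} (hx : x ∈ B.O ⊔ B.L) {k : ℕ} (hk : x ^ 2 ^ k = 1) : x ∈ B.L := by
  obtain ⟨o, ho, l, hl, rfl⟩ := B.mem_sup.1 hx
  have h : (o : G) ^ 2 ^ k * l ^ 2 ^ k = 1 := by rw [← (B.comm o ho l hl).mul_pow]; exact hk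
  have h1 : o ^ 2 ^ k = 1 := B.inf_eq_bot (pow_mem ho _)
    (by rw [eq_inv_of_mul_eq_one_left h]; exact inv_mem (pow_mem hl _))
  have h2 : orderOf o = 1 := Nat.eq_one_of_dvd_coprimes ((Nat.coprime_two_left.2 B.O_odd).pow_left k)
    (orderOf_dvd_of_pow_eq_one h1) (Subgroup.orderOf_dvd_natCard _ ho)
  rw [orderOf_eq_one_iff.1 h2, one_mul]
  exact hl

/-- A two-element centralising `L` lies in `O × L`. -/
theorem mem_sup_of_cent_two (hsd : ∀ S : Sylow 2 G, Cfsg.IsQuasiDihedral (S : Subgroup G)) {z : G}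
    (hz : z ∈ centralizer ({F.t} : Set G)) {k : ℕ} (hk : z ^ 2 ^ k = 1)
    (hzL : ∀ y ∈ B.L, Commute z y) : z ∈ B.O ⊔ B.L := by
  haveI : Fact (Nat.Prime 2) := ⟨Nat.prime_two⟩
  by_contra hzS
  obtain ⟨D, n, hn, hm, hcard⟩ := CfsgLib.Invol.exists_qdData (hsd F.P)
  obtain ⟨Q₀⟩ := (inferInstance : Nonempty (Sylow 2 B.L))
  set Q := (Q₀ : Subgroup B.L).map B.L.subtype with hQ
  have hQL : Q ≤ B.L := map_subtype_le _
  have hQp : IsPGroup 2 Q := Q₀.2.map _
  have hQc : 2 ^ n ∣ Nat.card Q := by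
    rw [hQ, card_map_of_injective B.L.subtype_injective]
    refine Q₀.pow_dvd_card_of_pow_dvd_card ?_
    have h : 2 ^ (n + 1) ∣ 2 * (Nat.card B.O * Nat.card B.L) := by
      rw [← B.card_centC, ← hcard]
      exact card_dvd_of_le P_le
    rw [pow_succ'] at h
    exact ((Nat.coprime_two_left.2 B.O_odd).pow_left n).dvd_of_dvd_mul_left
      (Nat.dvd_of_mul_dvd_mul_left two_pos h)
  have hzp : IsPGroup 2 (zpowers z) := by
    obtain ⟨a, -, ha⟩ := (Nat.dvd_prime_pow Nat.prime_two).1 (orderOf_dvd_of_pow_eq_one hk)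
    exact IsPGroup.of_card (n := a) (by rw [Nat.card_zpowers, ha])
  have hU : IsPGroup 2 ↥(Q ⊔ zpowers z) := hQp.to_sup_of_normal_right' hzp fun w hw => by
    refine mem_normalizer_iff.2 fun v => ?_
    have hfix : ∀ j : ℤ, w * z ^ j * w⁻¹ = z ^ j := fun j => by
      rw [← (((hzL w (hQL hw)).zpow_left j).eq), mul_inv_cancel_right]
    constructor <;> intro hv
    · obtain ⟨j, rfl⟩ := mem_zpowers_iff.1 hv
      exact mem_zpowers_iff.2 ⟨j, (hfix j).symm⟩
    · obtain ⟨j, hj⟩ := mem_zpowers_iff.1 hv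
      refine mem_zpowers_iff.2 ⟨j, ?_⟩
      rw [← hfix j] at hj
      exact mul_left_cancel (mul_right_cancel hj)
  obtain ⟨S, hS⟩ := hU.exists_le_sylow
  have hzmem : z ∈ Q ⊔ zpowers z := mem_sup_right (mem_zpowers z)
  have hlt : Nat.card Q < Nat.card ↥(Q ⊔ zpowers z) :=
    lt_of_le_of_ne (card_le_of_le le_sup_left) fun e => hzS (mem_sup_right (hQL
      ((Subgroup.eq_of_le_of_card_ge le_sup_left e.ge).symm ▸ hzmem)))
  have hScard : Nat.card (S : Subgroup G) = 2 ^ (n + 1) := by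
    rw [S.card_eq_multiplicity, ← F.P.card_eq_multiplicity, hcard]
  obtain ⟨a, ha⟩ := IsPGroup.iff_card.1 hU
  have hSU : (S : Subgroup G) = Q ⊔ zpowers z := (Subgroup.eq_of_le_of_card_ge hS (by
    rw [hScard, ha]
    refine Nat.pow_le_pow_right two_pos ?_
    by_contra hlt'
    have h1 := Nat.le_of_dvd Nat.card_pos hQc
    have h2 := Nat.pow_le_pow_right two_pos (show a ≤ n by omega)
    omega)).symm
  -- two central involutions
  obtain ⟨D', -⟩ := CfsgLib.Invol.exists_qdData (hsd S)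
  have hcent : ∀ w : G, (hw : w ∈ (S : Subgroup G)) → (∀ v ∈ Q ⊔ zpowers z, Commute w v) →
      (⟨w, hw⟩ : (S : Subgroup G)) ∈ zpowers D'.z := fun w hw h => by
    rw [← D'.center_eq, mem_center_iff]
    exact fun v => Subtype.ext (h v (hSU ▸ v.2)).eq.symm
  have hgen : ∀ w : G, (∀ v ∈ Q, Commute w v) → Commute w z →
      ∀ v ∈ Q ⊔ zpowers z, Commute w v := fun w h1 h2 v hv => by
    have hle : Q ⊔ zpowers z ≤ centralizer ({w} : Set G) :=
      sup_le (fun v hv => mem_centralizer_singleton_iff.2 (h1 v hv).eq.symm)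
        (zpowers_le.2 (mem_centralizer_singleton_iff.2 h2.eq.symm))
    exact (mem_centralizer_singleton_iff.1 (hle hv) : v * w = w * v).symm
  have htQ : F.t ∈ Q := by
    have h2 : 2 ∣ Nat.card Q := dvd_trans (dvd_pow_self 2 (by omega)) hQc
    obtain ⟨v, hv⟩ := exists_prime_orderOf_dvd_card' 2 h2
    rcases B.invol_L (hQL v.2) (by
      rw [← pow_two, ← hv, ← Subgroup.orderOf_coe, pow_orderOf_eq_one]) with e | e
    · rw [← Subgroup.orderOf_coe, e, orderOf_one] at hv
      omega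
    · exact e ▸ v.2
  have htS : F.t ∈ (S : Subgroup G) := hS (mem_sup_left htQ)
  have h1 := hcent z (hS hzmem) (hgen z (fun v hv => hzL v (hQL hv)) (Commute.refl z))
  have h2 := hcent F.t htS (hgen F.t (fun v hv => (B.commute_L (hQL hv)).symm)
    (mem_centralizer_singleton_iff.1 hz : z * F.t = F.t * z).symm)
  have hmem : ∀ {w : (S : Subgroup G)}, w ∈ zpowers D'.z → w = 1 ∨ w = D'.z := fun {w} hw => by
    obtain ⟨j, rfl⟩ := mem_zpowers_iff.1 hw
    have h2' : D'.z ^ (2 : ℤ) = 1 := by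
      rw [show (2 : ℤ) = ((2 : ℕ) : ℤ) from rfl, zpow_natCast, pow_two]
      exact CfsgLib.Invol.invol_mul_self D'.orderOf_z
    rcases Int.even_or_odd' j with ⟨c, rfl | rfl⟩
    · left; rw [_root_.zpow_mul, h2', _root_.one_zpow]
    · right; rw [_root_.zpow_add_one, _root_.zpow_mul, h2', _root_.one_zpow, one_mul]
  rcases hmem h1 with e | e
  · exact hzS (by rw [show z = 1 from congrArg Subtype.val e]; exact one_mem _)
  · rcases hmem h2 with e' | e'
    · exact t_ne_one (congrArg Subtype.val e')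
    · exact hzS (by
        rw [show z = F.t from congrArg Subtype.val (e.trans e'.symm)]; exact mem_sup_right B.t_mem)

/-- The elements of the centralizer which centralise `L`. -/
theorem mem_ker_iff (hsd : ∀ S : Sylow 2 G, Cfsg.IsQuasiDihedral (S : Subgroup G)) {c : G}
    (hc : Commute c F.t) :
    (∀ y ∈ B.L, Commute c y) ↔ c ∈ B.O ∨ ∃ o ∈ B.O, c = o * F.t := by
  constructor
  · intro h
    have hcC : c ∈ centralizer ({F.t} : Set G) := mem_centralizer_singleton_iff.2 hc.eq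
    -- an odd power is a two-element
    obtain ⟨k, m, hm, hkm⟩ := Nat.exists_eq_two_pow_mul_odd (orderOf_pos c).ne'
    have hz := B.mem_sup_of_cent_two hsd (pow_mem hcC m) (k := k)
      (by rw [← pow_mul, mul_comm, ← hkm, pow_orderOf_eq_one]) fun y hy => (h y hy).pow_left m
    have hcS : c ∈ B.O ⊔ B.L := by
      by_contra hn
      obtain ⟨j, rfl⟩ := hm
      rw [pow_succ, pow_mul] at hz
      have h2 : (⟨c, hcC⟩ : centralizer ({F.t} : Set G)) ^ 2 ∈ B.H := sq_mem_of_index_two B.index_H _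
      exact hn ((mul_mem_cancel_left (pow_mem (mem_subgroupOf.1 h2 :) j)).1 hz)
    obtain ⟨o, ho, l, hl, rfl⟩ := B.mem_sup.1 hcS
    have hlc : ∀ y ∈ B.L, Commute l y := fun y hy => by
      have := ((B.comm o ho y hy).inv_left).mul_left (h y hy)
      rwa [inv_mul_cancel_left] at this
    rcases B.center_L hl hlc with rfl | rfl
    · exact Or.inl (by rwa [mul_one])
    · exact Or.inr ⟨o, ho, rfl⟩
  · rintro (h | ⟨o, ho, rfl⟩) y hy
    · exact B.comm c h y hy
    · exact (B.comm o ho y hy).mul_left (B.commute_L hy).symm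

/-- The centralizer maps onto `PGL(2, q)`. -/
theorem exists_map (hsd : ∀ S : Sylow 2 G, Cfsg.IsQuasiDihedral (S : Subgroup G)) :
    ∃ φ : centralizer ({F.t} : Set G) →* PGL(2, ZMod B.q), Function.Surjective φ ∧
      ∀ c, φ c = 1 ↔ (c : G) ∈ B.O ∨ ∃ o ∈ B.O, (c : G) = o * F.t := by
  obtain ⟨e⟩ := B.iso
  have hq := B.five_le
  obtain ⟨d⟩ := CfsgLib.Recog.ABProd.mulAut_psl_equiv (F := ZMod B.q)
    (by rw [ZMod.card]; exact Fact.out)
  have hperf := CfsgLib.Recog.GW.commutator_sl_two (F := ZMod B.q) (by rw [ZMod.card]; omega)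
  let σ : centralizer ({F.t} : Set G) →* MulAut SL(2, ZMod B.q) :=
    (MulAut.congr e).toMonoidHom.comp ((normalizerMonoidHom B.L).comp (inclusion B.L_norm))
  have hσ : ∀ c, σ c = 1 ↔ ∀ y ∈ B.L, Commute (c : G) y := by
    intro c
    constructor
    · intro h y hy
      have h1 : normalizerMonoidHom B.L (inclusion B.L_norm c) = 1 :=
        (MulAut.congr e).injective (h.trans (map_one _).symm)
      have h2 : (c : G) * y * (c : G)⁻¹ = y :=
        congrArg Subtype.val (DFunLike.congr_fun h1 (⟨y, hy⟩ : B.L) :)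
      exact mul_inv_eq_iff_eq_mul.1 h2
    · intro h
      have h1 : normalizerMonoidHom B.L (inclusion B.L_norm c) = 1 := MulEquiv.ext fun y => Subtype.ext (by
        show (c : G) * y * (c : G)⁻¹ = y
        rw [(h y y.2).eq, mul_inv_cancel_right])
      show MulAut.congr e (normalizerMonoidHom B.L (inclusion B.L_norm c)) = 1
      rw [h1, map_one]
  let φ : centralizer ({F.t} : Set G) →* PGL(2, ZMod B.q) :=
    d.symm.toMonoidHom.comp ((autModCenter _).comp σ)
  have hker : ∀ c, φ c = 1 ↔ (c : G) ∈ B.O ∨ ∃ o ∈ B.O, (c : G) = o * F.t := by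
    intro c
    rw [← B.mem_ker_iff hsd (mem_centralizer_singleton_iff.1 c.2), ← hσ]
    show d.symm (autModCenter _ (σ c)) = 1 ↔ _
    rw [map_eq_one_iff d.symm d.symm.injective]
    exact ⟨eq_one_of_autModCenter hperf, fun h => by rw [h, map_one]⟩
  refine ⟨φ, ?_, hker⟩
  have hkcard : Nat.card φ.ker ≤ 2 * Nat.card B.O := by
    have hmem : ∀ c : φ.ker, ∃ p : B.O × Bool,
        ((c : centralizer ({F.t} : Set G)) : G) = (p.1 : G) * cond p.2 F.t 1 := fun c => by
      rcases (hker c.1).1 c.2 with h | ⟨o, ho, h⟩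
      · exact ⟨(⟨_, h⟩, false), (mul_one _).symm⟩
      · exact ⟨(⟨o, ho⟩, true), h⟩
    choose p hp using hmem
    refine (Nat.card_le_card_of_injective p fun c c' h => ?_).trans (le_of_eq ?_)
    · exact Subtype.ext (Subtype.ext (by rw [hp c, hp c', h]))
    · rw [Nat.card_prod, Nat.card_eq_fintype_card (α := Bool), Fintype.card_bool, mul_comm]
  have hfin := CfsgLib.Geom.Moebius.finite_pgl_two (F := ZMod B.q)
  have hrange : Nat.card PGL(2, ZMod B.q) ≤ Nat.card φ.range := by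
    have h := φ.ker.card_mul_index
    rw [index_ker, B.card_centC, B.card_L] at h
    rw [CfsgLib.Geom.Moebius.card_pgl_two, ZMod.card]
    have hq2 : B.q ^ 2 - 1 = (B.q + 1) * (B.q - 1) := by rw [← Nat.sq_sub_sq, one_pow]
    rw [hq2] at h
    by_contra hlt
    have h1 : Nat.card φ.ker * Nat.card φ.range <
        2 * Nat.card B.O * ((B.q + 1) * (B.q * (B.q - 1))) :=
      Nat.mul_lt_mul_of_le_of_lt hkcard (not_le.1 hlt) (by
        have : 0 < Nat.card B.O := Nat.card_pos
        omega)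
    rw [h] at h1
    exact absurd h1 (not_lt.2 (le_of_eq (by ring)))
  exact MonoidHom.range_eq_top.1 (eq_top_of_le_card _ hrange)

end Big

end CfsgLib.S4069
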